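import Mathlib
import Cfsg.Prelude.Def_OddOrderLocal
import Cfsg.Prelude.Def_OddOrderChar
import Cfsg.Prelude.Def_Solvable
import Cfsg.Agent.Lib.Helper4.PFInterface

set_option autoImplicit false

/-!
PROJECT PF (Peterfalvi sections 8-14): BOOK-FAITHFUL definitions (helper4, coordinator).

The frozen `Cfsg.IsOfTypeI` asks for `O_{p'}(M)` cyclic where B&G / Peterfalvi have `O_{p'}(M_F)`
cyclic, and the frozen `typeA`, `typeA0` branch on `IsOfTypeI`.  PF 9-14 and the assembly of the odd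
order theorem run on the definitions below; the frozen rows are corollaries
(frozen Type I implies `LitTypeI`; for a subgroup with type-P data or of frozen Type I the sets
`litA`, `litA0` agree with the frozen `typeA`, `typeA0`).
Types II-V, type-P data, `typeCore`, `typeA1`, `supportR`, `tildeOf`, `DadeHypothesis`,
`dadeIsometry` are used as frozen.
-/

namespace Cfsg.Agent.Lib.Helper4.PF

open Cfsg

universe u

variable {G : Type u} [Group G]

/-- Type I as in B&G / Peterfalvi (8.3): Frobenius type, and `M_F` is TI, or abelian of rank 2, or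
the exponent condition holds together with `O_{p'}(M_F)` cyclic for some `p ∣ |M_F|`. -/
def LitTypeI (M : Subgroup G) : Prop :=
  IsOfTypeF M ∧
  ( IsTISubset (fittingHallOf M : Set G) ∨
    (IsMulCommutative (fittingHallOf M) ∧ RankLE 2 (fittingHallOf M) ∧ ¬ RankLE 1 (fittingHallOf M)) ∨
    ((∀ p : ℕ, p.Prime → p ∣ Nat.card (fittingHallOf M) →
        Monoid.exponent (M ⧸ fittingHall M) ∣ p - 1) ∧
      ∃ p : ℕ, p.Prime ∧ p ∣ Nat.card (fittingHallOf M) ∧
        IsCyclic (pPrimeCore p (fittingHallOf M))) )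

/-- `M` is of one of the Types II, III, IV, V. -/
def IsTypeIItoV (M : Subgroup G) : Prop :=
  IsOfTypeII M ∨ IsOfTypeIII M ∨ IsOfTypeIV M ∨ IsOfTypeV M

open scoped Classical in
/-- `A(M)`: for `M` with type-P data the non-identity elements of `M'` centralizing a non-identity
element of `M_s`; otherwise (Type I) the non-identity elements of `M` centralizing a non-identity
element of `M_F`. -/
noncomputable def litA (M : Subgroup G) : Set G :=
  if IsOfTypeP M then
    {a | a ∈ ⁅M, M⁆ ∧ a ≠ 1 ∧ ∃ x ∈ typeCore M, x ≠ 1 ∧ a * x = x * a}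
  else
    {a | a ∈ M ∧ a ≠ 1 ∧ ∃ x ∈ fittingHallOf M, x ≠ 1 ∧ a * x = x * a}

/-- `A₀(M)`: `A(M)` together with the `M`-conjugates of the elements of `W₁W₂` outside `W₁ ∪ W₂`, for
any type-P data of `M`. -/
noncomputable def litA0 (M : Subgroup G) : Set G :=
  litA M ∪ {v | ∃ W₁ U W₂ : Subgroup G, IsTypePWith M W₁ U W₂ ∧
    ∃ m ∈ M, ∃ w ∈ W₁ ⊔ W₂, w ∉ W₁ ∧ w ∉ W₂ ∧ v = m * w * m⁻¹}

/-- `L` is a Frobenius group with kernel `L_F` (elementwise form, as in S1540 / S1549). -/
def IsFrobWithFittingHall (L : Subgroup G) : Prop :=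
  ∀ x ∈ fittingHallOf L, x ≠ 1 → L ⊓ Subgroup.centralizer ({x} : Set G) ≤ fittingHallOf L

/-- conjugate of a subgroup -/
abbrev conjSub (g : G) (M : Subgroup G) : Subgroup G := M.map (MulAut.conj g).toMonoidHom

/-- The input from the local analysis (B&G Theorems I and II and the facts of Peterfalvi section 8
quoted from B&G), in BOOK form, for the fixed group `G`. -/
structure BookBGData (G : Type u) [Group G] [Finite G] : Prop where
  /-- B&G Theorem I: every maximal subgroup is of Type I, II, III, IV or V. -/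
  types : ∀ M : Subgroup G, IsCoatom M → LitTypeI M ∨ IsTypeIItoV M
  /-- B&G Theorem I: all of Type I, or the pair `S`, `T`. -/
  pair : (∀ M : Subgroup G, IsCoatom M → LitTypeI M) ∨
      ∃ W₁ W₂ S T : Subgroup G, IsSelfNormalizingCyclic W₁ W₂ ∧ IsCoatom S ∧ IsCoatom T ∧
        IsComplIn ⁅S, S⁆ W₁ S ∧ IsComplIn ⁅T, T⁆ W₂ T ∧ S ⊓ T = W₁ ⊔ W₂ ∧
        (IsOfTypeII S ∨ IsOfTypeII T) ∧ IsTypeIItoV S ∧ IsTypeIItoV T ∧
        ∀ M : Subgroup G, IsCoatom M → LitTypeI M ∨ ∃ g : G, M = conjSub g S ∨ M = conjSub g T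
  /-- for Types III, IV, V the subgroup `W₂` has prime order (B&G 14.7 / S1373). -/
  w2prime : ∀ M W₁ U W₂ : Subgroup G, IsCoatom M → IsTypePWith M W₁ U W₂ → ¬ IsOfTypeII M →
      (Nat.card W₂).Prime
  /-- B&G Theorem II (tame embedding), body of S1391 with the book-faithful sets and Type I. -/
  tame : ∀ (M : Subgroup G), IsCoatom M → ∀ X : Set G, (X = litA M ∨ X = litA0 M) →
      (∀ x ∈ X, ∀ g : G, g * x * g⁻¹ ∈ X → ∃ m ∈ M, m * x * m⁻¹ = g * x * g⁻¹) ∧
      (∀ x ∈ X, ¬ Subgroup.centralizer ({x} : Set G) ≤ M →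
        x ∈ typeA1 M ∧ ∃! L : Subgroup G, IsCoatom L ∧ Subgroup.centralizer ({x} : Set G) ≤ L) ∧
      ∀ x ∈ X, ¬ Subgroup.centralizer ({x} : Set G) ≤ M → ∀ L : Subgroup G, IsCoatom L →
        Subgroup.centralizer ({x} : Set G) ≤ L →
        IsComplIn (fittingHallOf L) (M ⊓ L) L ∧
        Subgroup.centralizer ({x} : Set G) ≤ Subgroup.normalizer
          ((fittingHallOf L ⊓ Subgroup.centralizer ({x} : Set G) : Subgroup G) : Set G) ∧
        IsComplIn (fittingHallOf L ⊓ Subgroup.centralizer ({x} : Set G))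
          (M ⊓ Subgroup.centralizer ({x} : Set G)) (Subgroup.centralizer ({x} : Set G)) ∧
        (∀ y ∈ X, (Nat.card (fittingHallOf L)).Coprime
          (Nat.card ↥(M ⊓ Subgroup.centralizer ({y} : Set G)))) ∧
        (x ∈ litA L ∧ x ∉ typeA1 L) ∧
        (LitTypeI L ∨ IsOfTypeII L) ∧
        (IsOfTypeII L → IsFrobWithFittingHall M)
  /-- S1355 -/
  core : Stmt1355 G
  /-- S1378 -/
  sigmaPrimes : Stmt1378 G
  /-- S1379 -/
  partition : Stmt1379 G
  /-- S1384 (landed) -/
  hallFusion : Stmt1384 G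
  /-- S1389 -/
  sylowNormalizers : Stmt1389 G
  /-- S1390 with the book-faithful Type I and `A(M)` -/
  compl : ∀ (M : Subgroup G), IsCoatom M → ∀ U : Subgroup G,
      ((LitTypeI M ∧ IsComplIn (fittingHallOf M) U M) ∨
        (IsOfTypeII M ∧ IsComplIn (fittingHallOf M) U ⁅M, M⁆)) →
      (∀ (p : ℕ), p.Prime → ∀ P : Sylow p U,
        IsMulCommutative (P : Subgroup U) ∧ PRankLE p 2 (P : Subgroup U)) ∧
      (∀ X : Set G, X ⊆ (U : Set G) \ {1} → X.Nonempty →
        fittingHallOf M ⊓ Subgroup.centralizer X ≠ ⊥ →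
        Subgroup.centralizer X ≤ M ∧
          ∀ L : Subgroup G, IsCoatom L → Subgroup.centralizer X ≤ L → L = M) ∧
      IsTISubset (litA M \ typeA1 M)

/-- output of PF section 8 in book form: the Dade hypothesis for `A₁(M)`, `A(M)`, `A₀(M)`,
TI for Type II, and (8.17). -/
structure BookPF8Data (G : Type u) [Group G] [Finite G] : Prop where
  dade : ∀ (M : Subgroup G), IsCoatom M → ∀ A : Set G,
      (A = typeA1 M ∨ A = litA M ∨ A = litA0 M) →
      Subgroup.normalizer A = M ∧ DadeHypothesis A M (supportR M)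
  tiII : ∀ (M : Subgroup G), IsCoatom M → IsOfTypeII M →
      (IsTISubset (litA0 M) ∧ Subgroup.normalizer (litA0 M) = M) ∧
      (IsTISubset (litA M) ∧ Subgroup.normalizer (litA M) = M) ∧
      (IsTISubset (typeA1 M) ∧ Subgroup.normalizer (typeA1 M) = M)
  supports : ∀ (S T : Subgroup G), IsCoatom S → IsCoatom T → (∀ g : G, conjSub g T ≠ S) →
      (∀ x ∈ typeA1 S ∩ litA T, ¬ Subgroup.centralizer ({x} : Set G) ≤ S ∧
        Subgroup.centralizer ({x} : Set G) ≤ T) ∧
      (tildeOf S (typeA1 S) ∩ tildeOf T (litA T) = ∅ ∨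
        tildeOf T (typeA1 T) ∩ tildeOf S (litA S) = ∅)

end Cfsg.Agent.Lib.Helper4.PF
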