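import Mathlib
import Cfsg.Prelude.Def_Characters
import Cfsg.Agent.Lib.Helper3.CharIrr
import Cfsg.Agent.Lib.Helper77.Linear
import Cfsg.Agent.Lib.Helper55.TransferEval

/-!
# Extending linear characters from a normal subgroup via the transfer (helper4)

* `homToFun G : (G →* ℂˣ) →* (G → ℂ)`, injective; `orderOf_homToFun`.
* `isCharacter_homToFun`, `exists_hom_of_linear`: degree-one characters are exactly the
  functions `homToFun G ψ`.
* `transfer_apply_of_mem`: if `N ⊴ G`, `N ≤ H` and `ν : H →* ℂˣ` has `G`-invariant restriction to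
  `N`, then `transfer ν n = ν n ^ [G : H]` for `n ∈ N`.
* `transfer_pow_eq_one`: if `ν ^ o = 1` pointwise then `(transfer ν) ^ o = 1` pointwise.
-/

set_option autoImplicit false

namespace Cfsg.Agent.Lib.Helper4

open Cfsg

/-- the function `G → ℂ` attached to a homomorphism `G →* ℂˣ`, as a monoid homomorphism for
pointwise multiplication. -/
def homToFun (G : Type*) [Group G] : (G →* ℂˣ) →* (G → ℂ) where
  toFun ψ := fun g => ((ψ g : ℂˣ) : ℂ)
  map_one' := by
    funext g
    simp
  map_mul' a b := by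
    funext g
    simp

theorem homToFun_apply {G : Type*} [Group G] (ψ : G →* ℂˣ) (g : G) :
    homToFun G ψ g = ((ψ g : ℂˣ) : ℂ) := rfl

theorem homToFun_injective (G : Type*) [Group G] : Function.Injective (homToFun G) := by
  intro a b h
  ext g
  exact congrFun h g

theorem orderOf_homToFun {G : Type*} [Group G] (ψ : G →* ℂˣ) :
    orderOf (homToFun G ψ) = orderOf ψ :=
  orderOf_injective _ (homToFun_injective G) ψ

theorem isCharacter_homToFun {G : Type*} [Group G] (ψ : G →* ℂˣ) :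
    IsCharacter G (homToFun G ψ) :=
  Helper3.IsIrrCharacter.isCharacter (Helper77.isIrrCharacter_of_monoidHom ψ)

theorem homToFun_one {G : Type*} [Group G] (ψ : G →* ℂˣ) : homToFun G ψ 1 = 1 := by
  rw [homToFun_apply, map_one, Units.val_one]

theorem exists_hom_of_linear {G : Type*} [Group G] {χ : G → ℂ} (hχ : IsCharacter G χ)
    (h1 : χ 1 = 1) : ∃ ψ : G →* ℂˣ, χ = homToFun G ψ := by
  obtain ⟨ψ, hψ⟩ := Helper77.exists_monoidHom_of_degree_one hχ h1
  exact ⟨ψ, funext hψ⟩

/-- evaluation of the transfer on a normal subgroup on which the homomorphism is invariant. -/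
theorem transfer_apply_of_mem {G : Type*} [Group G] (N : Subgroup G) [hN : N.Normal]
    (H : Subgroup G) (hNH : N ≤ H) [H.FiniteIndex] {A : Type*} [CommGroup A] (ν : H →* A)
    (hinv : ∀ (g n : G) (hn : n ∈ N), ν ⟨g * n * g⁻¹, hNH (hN.conj_mem n hn g)⟩ = ν ⟨n, hNH hn⟩)
    (n : G) (hn : n ∈ N) :
    MonoidHom.transfer ν n = ν ⟨n, hNH hn⟩ ^ H.index := by
  apply Helper55.transfer_eq_pow_index ν n (hNH hn)
  intro k g₀ hk
  have hnk : n ^ k ∈ N := N.pow_mem hn k
  have h1 := hinv g₀⁻¹ (n ^ k) hnk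
  have e : (⟨g₀⁻¹ * n ^ k * g₀, hk⟩ : H) =
      ⟨g₀⁻¹ * n ^ k * g₀⁻¹⁻¹, hNH (hN.conj_mem (n ^ k) hnk g₀⁻¹)⟩ :=
    Subtype.ext (by simp only [inv_inv])
  rw [e, h1, ← map_pow]
  rfl

/-- if `ν` has exponent dividing `o`, so has its transfer. -/
theorem transfer_pow_eq_one {G : Type*} [Group G] (H : Subgroup G) [H.FiniteIndex]
    {A : Type*} [CommGroup A] (ν : H →* A) (o : ℕ) (ho : ∀ x : H, ν x ^ o = 1) (g : G) :
    MonoidHom.transfer ν g ^ o = 1 := by
  classical
  let := H.fintypeQuotientOfFiniteIndex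
  rw [MonoidHom.transfer_eq_prod_quotient_orbitRel_zpowers_quot, ← Finset.prod_pow]
  exact Finset.prod_eq_one (fun q _ => ho _)

end Cfsg.Agent.Lib.Helper4
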