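import Mathlib
import Cfsg.Prelude.Def_OddOrderLocal
import Cfsg.Agent.Lib.Helper23.TypeP
import Cfsg.Agent.S1545
import Cfsg.Agent.S1388
import Cfsg.Agent.Lib.Helper1.Fitting
import Cfsg.Agent.Lib.Helper65.NilpBasic

set_option autoImplicit false

/-!
PROJECT PF, Peterfalvi section 9, GROUP PART (A): elementary consequences of type-P data and
Peterfalvi (9.3) (orders of `H = M_F` via the Frobenius-Wielandt fixed point formula S1545).
-/

namespace Cfsg.Agent.Lib.Helper4.PF9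

open Cfsg Cfsg.Agent.Lib.Helper23

variable {G : Type*} [Group G] {M W₁ U W₂ : Subgroup G}

/-- `M_F` is normalized by `M`. -/
theorem conj_mem_fittingHallOf (M : Subgroup G) {m h : G} (hm : m ∈ M) (hh : h ∈ fittingHallOf M) :
    m * h * m⁻¹ ∈ fittingHallOf M := by
  unfold fittingHallOf at hh ⊢
  obtain ⟨h', hh', rfl⟩ := hh
  have hn : (fittingHall ↥M).Normal := inferInstance
  exact ⟨⟨m, hm⟩ * h' * ⟨m, hm⟩⁻¹, hn.conj_mem h' hh' ⟨m, hm⟩, rfl⟩

theorem fittingHallOf_le (M : Subgroup G) : fittingHallOf M ≤ M := by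
  unfold fittingHallOf
  rintro _ ⟨h', _, rfl⟩
  exact h'.2

section
variable (hP : IsTypePWith M W₁ U W₂)
include hP

theorem H_le_der : fittingHallOf M ≤ ⁅M, M⁆ := hP.U_compl.1
theorem U_le_der : U ≤ ⁅M, M⁆ := hP.U_compl.2.1
theorem der_le : ⁅M, M⁆ ≤ M := hP.W₁_compl.1
theorem W₁_le : W₁ ≤ M := hP.W₁_compl.2.1
theorem U_le : U ≤ M := (U_le_der hP).trans (der_le hP)
theorem H_inf_U : fittingHallOf M ⊓ U = ⊥ := hP.U_compl.2.2.1
theorem der_inf_W₁ : ⁅M, M⁆ ⊓ W₁ = ⊥ := hP.W₁_compl.2.2.1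
theorem W₂_le_H : W₂ ≤ fittingHallOf M := hP.W₂_le.trans inf_le_left

/-- `W₁` acts on `U` without fixed points: `U W₁` is a Frobenius group with kernel `U` (if `U ≠ 1`). -/
theorem W₁_fpf_U {x u : G} (hx : x ∈ W₁) (hx1 : x ≠ 1) (hu : u ∈ U) (hxu : x * u = u * x) :
    u = 1 := by
  have h1 : u ∈ ⁅M, M⁆ ⊓ Subgroup.centralizer ({x} : Set G) := by
    refine ⟨U_le_der hP hu, Subgroup.mem_centralizer_iff.2 ?_⟩
    intro y hy
    rw [Set.mem_singleton_iff] at hy
    rw [hy]; exact hxu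
  rw [hP.W₂_centralizer x hx hx1] at h1
  have h2 : u ∈ fittingHallOf M ⊓ U := ⟨W₂_le_H hP h1, hu⟩
  rw [H_inf_U hP] at h2
  exact Subgroup.mem_bot.1 h2

theorem U_inf_W₁ : U ⊓ W₁ = ⊥ := by
  rw [eq_bot_iff]
  intro x hx
  have : x ∈ ⁅M, M⁆ ⊓ W₁ := ⟨U_le_der hP hx.1, hx.2⟩
  rwa [der_inf_W₁ hP] at this

/-- `C_H(W₁) = W₂`. -/
theorem H_inf_centralizer_W₁ : fittingHallOf M ⊓ Subgroup.centralizer (W₁ : Set G) = W₂ := by
  apply le_antisymm
  · intro h hh
    obtain ⟨x, hx1⟩ := (Subgroup.ne_bot_iff_exists_ne_one (H := W₁)).1 hP.W₁_ne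
    have hx1' : (x : G) ≠ 1 := fun h0 => hx1 (Subtype.ext h0)
    rw [← hP.W₂_centralizer x x.2 hx1']
    refine ⟨H_le_der hP hh.1, Subgroup.mem_centralizer_iff.2 ?_⟩
    intro y hy
    rw [Set.mem_singleton_iff] at hy
    rw [hy]
    exact (Subgroup.mem_centralizer_iff.1 hh.2 x x.2)
  · intro w hw
    refine ⟨W₂_le_H hP hw, Subgroup.mem_centralizer_iff.2 ?_⟩
    intro a ha
    exact hP.selfNormalizing.2.2.2.1 a ha w hw

theorem mem_sup_UW₁ {x : G} (hx : x ∈ U ⊔ W₁) : ∃ u ∈ U, ∃ w ∈ W₁, x = u * w := by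
  have h := Subgroup.coe_mul_of_right_le_normalizer_left U W₁ hP.U_normal
  have hx' : x ∈ ((U ⊔ W₁ : Subgroup G) : Set G) := hx
  rw [h] at hx'
  obtain ⟨u, hu, w, hw, rfl⟩ := hx'
  exact ⟨u, hu, w, hw, rfl⟩

theorem UW₁_le : U ⊔ W₁ ≤ M := sup_le (U_le hP) (W₁_le hP)

/-- `U W₁` is a complement of `H = M_F` in `M`. -/
theorem isComplIn_H_UW₁ : IsComplIn (fittingHallOf M) (U ⊔ W₁) M := by
  refine ⟨fittingHallOf_le M, UW₁_le hP, ?_, ?_⟩
  · rw [eq_bot_iff]
    intro x hx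
    obtain ⟨u, hu, w, hw, rfl⟩ := mem_sup_UW₁ hP hx.2
    have hw' : w ∈ ⁅M, M⁆ ⊓ W₁ := by
      refine ⟨?_, hw⟩
      have : w = u⁻¹ * (u * w) := by group
      rw [this]
      exact Subgroup.mul_mem _ (Subgroup.inv_mem _ (U_le_der hP hu)) (H_le_der hP hx.1)
    rw [der_inf_W₁ hP, Subgroup.mem_bot] at hw'
    subst hw'
    rw [mul_one] at hx ⊢
    have : u ∈ fittingHallOf M ⊓ U := ⟨hx.1, hu⟩
    rwa [H_inf_U hP] at this
  · intro m hm
    obtain ⟨a, ha, b, hb, rfl⟩ := hP.W₁_compl.2.2.2 m hm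
    obtain ⟨h, hh, u, hu, rfl⟩ := hP.U_compl.2.2.2 a ha
    refine ⟨h, hh, u * b, ?_, by group⟩
    exact Subgroup.mul_mem _ (Subgroup.mem_sup_left hu) (Subgroup.mem_sup_right hb)

end

theorem card_fittingHallOf (M : Subgroup G) :
    Nat.card ↥(fittingHallOf M) = Nat.card ↥(fittingHall ↥M) := by
  unfold fittingHallOf
  exact Nat.card_congr
    ((fittingHall ↥M).equivMapOfInjective M.subtype M.subtype_injective).toEquiv.symm

section
variable [Finite G] (hP : IsTypePWith M W₁ U W₂)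
include hP

/-- `|H|` is coprime to `|U W₁|`. -/
theorem coprime_H_UW₁ : (Nat.card ↥(fittingHallOf M)).Coprime (Nat.card ↥(U ⊔ W₁)) := by
  have h1 := card_of_isComplIn (isComplIn_H_UW₁ hP)
  have h3 := fittingHall_coprime ↥M
  have h4 : Nat.card ↥(fittingHall ↥M) * (fittingHall ↥M).index = Nat.card ↥M :=
    Subgroup.card_mul_index _
  have hpos : 0 < Nat.card ↥(fittingHallOf M) := Nat.card_pos
  have hidx : (fittingHall ↥M).index = Nat.card ↥(U ⊔ W₁) := by
    have : Nat.card ↥(fittingHallOf M) * (fittingHall ↥M).index =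
        Nat.card ↥(fittingHallOf M) * Nat.card ↥(U ⊔ W₁) := by
      rw [card_fittingHallOf, h4, h1, card_fittingHallOf]
    exact Nat.eq_of_mul_eq_mul_left hpos this
  rw [card_fittingHallOf, ← hidx]
  exact h3

omit hP in
theorem fittingHall_isNilpotent' (X : Type*) [Group X] [Finite X] :
    Group.IsNilpotent (fittingHall X) := by
  have hle : fittingHall X ≤ fittingSubgroup X := by
    apply sSup_le
    intro N hN
    exact le_sSup ⟨hN.1, hN.2.1⟩
  exact Cfsg.Agent.Lib.Helper65.isNilpotent_of_le hle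
    Cfsg.Agent.Lib.Helper1.fittingSubgroup_isNilpotent

omit hP in
theorem H_isNilpotent (M : Subgroup G) : Group.IsNilpotent ↥(fittingHallOf M) := by
  have h := fittingHall_isNilpotent' ↥M
  unfold fittingHallOf
  exact (Group.isNilpotent_congr
    ((fittingHall ↥M).equivMapOfInjective M.subtype M.subtype_injective)).1 h

omit hP in
theorem H_isSolvable (M : Subgroup G) : Group.IsSolvable ↥(fittingHallOf M) :=
  haveI := H_isNilpotent M
  IsNilpotent.to_isSolvable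

/-- Peterfalvi (9.1)+(9.3), raw form: `|C_H(UW₁)|^q |H| = |W₂|^q |C_H(U)|` when `U ≠ 1`. -/
theorem wielandt_typeP (hU : U ≠ ⊥) :
    Nat.card ↥(fittingHallOf M ⊓ Subgroup.centralizer ((U ⊔ W₁ : Subgroup G) : Set G)) ^ Nat.card W₁
        * Nat.card ↥(fittingHallOf M) =
      Nat.card W₂ ^ Nat.card W₁ *
        Nat.card ↥(fittingHallOf M ⊓ Subgroup.centralizer (U : Set G)) := by
  have h := Cfsg.Agent.S1545.result U W₁ (fittingHallOf M) hU hP.W₁_ne (U_inf_W₁ hP)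
    (fun e he u hu => by
      have := hP.U_normal he
      rw [Subgroup.mem_normalizer_iff] at this
      exact (this u).1 hu)
    (fun e he he1 u hu heu => W₁_fpf_U hP he he1 hu heu)
    (fun x hx h hh => conj_mem_fittingHallOf M (UW₁_le hP hx) hh)
    (isComplIn_H_UW₁ hP).2.2.1 (H_isSolvable M) (coprime_H_UW₁ hP)
  rw [H_inf_centralizer_W₁ hP] at h
  exact h

/-- Peterfalvi (9.3), Type II, second half: if `C_H(U) = 1` then `|H| = |W₂|^q`. -/
theorem card_H_of_centralizer_U_eq_bot (hU : U ≠ ⊥)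
    (hC : fittingHallOf M ⊓ Subgroup.centralizer (U : Set G) = ⊥) :
    Nat.card ↥(fittingHallOf M) = Nat.card W₂ ^ Nat.card W₁ := by
  have h := wielandt_typeP hP hU
  have h1 : fittingHallOf M ⊓ Subgroup.centralizer ((U ⊔ W₁ : Subgroup G) : Set G) = ⊥ := by
    rw [eq_bot_iff, ← hC]
    intro x hx
    exact ⟨hx.1, Subgroup.centralizer_le (by exact_mod_cast (le_sup_left : U ≤ U ⊔ W₁)) hx.2⟩
  rw [h1, hC] at h
  simpa using h

/-- Peterfalvi (9.3), Types III and IV (`|W₂|` prime): `C_H(UW₁) = 1` and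
`|H| = |W₂|^q |C_H(U)|`. -/
theorem typeIII_IV_core (hU : U ≠ ⊥) (hp : (Nat.card W₂).Prime) :
    fittingHallOf M ⊓ Subgroup.centralizer ((U ⊔ W₁ : Subgroup G) : Set G) = ⊥ ∧
    Nat.card ↥(fittingHallOf M) =
      Nat.card W₂ ^ Nat.card W₁ * Nat.card ↥(fittingHallOf M ⊓ Subgroup.centralizer (U : Set G)) := by
  have h := wielandt_typeP hP hU
  set D := fittingHallOf M ⊓ Subgroup.centralizer ((U ⊔ W₁ : Subgroup G) : Set G) with hD
  have hDW : D ≤ W₂ := by
    intro x hx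
    rw [← H_inf_centralizer_W₁ hP]
    exact ⟨hx.1, Subgroup.centralizer_le (by exact_mod_cast (le_sup_right : W₁ ≤ U ⊔ W₁)) hx.2⟩
  have hDU : D ≤ fittingHallOf M ⊓ Subgroup.centralizer (U : Set G) := by
    intro x hx
    exact ⟨hx.1, Subgroup.centralizer_le (by exact_mod_cast (le_sup_left : U ≤ U ⊔ W₁)) hx.2⟩
  have hDbot : D = ⊥ := by
    by_contra hne
    -- then `D = W₂`
    have hdvd : Nat.card ↥D ∣ Nat.card ↥W₂ := Subgroup.card_dvd_of_le hDW
    have hcard : Nat.card ↥D = Nat.card ↥W₂ := by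
      rcases (Nat.dvd_prime hp).1 hdvd with h1 | h1
      · exact absurd (Subgroup.card_eq_one.1 h1) hne
      · exact h1
    rw [hcard] at h
    have hpos : 0 < Nat.card ↥W₂ ^ Nat.card ↥W₁ := pow_pos Nat.card_pos _
    have h2 : Nat.card ↥(fittingHallOf M) =
        Nat.card ↥(fittingHallOf M ⊓ Subgroup.centralizer (U : Set G)) :=
      Nat.eq_of_mul_eq_mul_left hpos h
    have h3 : fittingHallOf M ⊓ Subgroup.centralizer (U : Set G) = fittingHallOf M := by
      apply Subgroup.eq_of_le_of_card_ge inf_le_left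
      rw [← h2]
    have h4 : U ≤ Subgroup.centralizer (fittingHallOf M : Set G) := by
      intro u hu
      rw [Subgroup.mem_centralizer_iff]
      intro x hx
      have hx' : x ∈ fittingHallOf M ⊓ Subgroup.centralizer (U : Set G) := by rw [h3]; exact hx
      exact (Subgroup.mem_centralizer_iff.1 hx'.2 u hu).symm
    exact (Cfsg.Agent.S1388.result M W₁ U W₂ hP).2 hU h4
  refine ⟨hDbot, ?_⟩
  rw [hDbot] at h
  simpa using h

end

end Cfsg.Agent.Lib.Helper4.PF9
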