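import Mathlib

/-!
# Arithmetic endgame of the Brauer–Suzuki theorem for quaternion Sylow 2-subgroups of order 8 (helper4)

`bs_arith`: the degree/value relations force `c_i = f_i`.
-/

set_option autoImplicit false

namespace Cfsg.Agent.Lib.Helper4.BSArith

/-- descent: `2A'x² + 2B'y² = 2Cxy + 2^(k+1) xy(x+y)` with `A', B', C` odd has only the zero solution. -/
theorem descent (A B C : ℤ) (hA : Odd A) (hB : Odd B) (hC : Odd C) :
    ∀ (n : ℕ) (k : ℕ) (x y : ℤ), x.natAbs + y.natAbs ≤ n →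
      2 * A * x ^ 2 + 2 * B * y ^ 2 = 2 * C * x * y + 2 ^ (k + 1) * (x * y * (x + y)) →
      x = 0 ∧ y = 0 := by
  intro n
  induction n with
  | zero =>
    intro k x y h _
    constructor <;> omega
  | succ n ih =>
    intro k x y hn h
    -- `x y (x+y)` is even
    have hev : Even (x * y * (x + y)) := by
      rcases Int.even_or_odd x with hx | hx
      · exact (hx.mul_right y).mul_right _
      · rcases Int.even_or_odd y with hy | hy
        · exact (hy.mul_left x).mul_right _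
        · exact (hx.add_odd hy).mul_left _
    obtain ⟨w, hw⟩ := hev
    -- so `A x² + B y² - C x y` is even
    have h2 : A * x ^ 2 + B * y ^ 2 - C * x * y = 2 ^ (k + 1) * w := by
      have : 2 * (A * x ^ 2 + B * y ^ 2 - C * x * y) = 2 * (2 ^ (k + 1) * w) := by
        rw [hw] at h; linarith
      linarith
    have h3 : Even (A * x ^ 2 + B * y ^ 2 - C * x * y) := by
      rw [h2, pow_succ]
      exact ⟨2 ^ k * w, by ring⟩
    have hxe : Even x ∧ Even y := by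
      rcases Int.even_or_odd x with hx | hx <;> rcases Int.even_or_odd y with hy | hy
      · exact ⟨hx, hy⟩
      · exfalso
        have : Odd (A * x ^ 2 + B * y ^ 2 - C * x * y) := by
          have h1 : Even (A * x ^ 2) := (Even.pow_of_ne_zero hx (by norm_num)).mul_left A
          have h2 : Odd (B * y ^ 2) := hB.mul hy.pow
          have h3 : Even (C * x * y) := (hx.mul_left C).mul_right y
          exact (h1.add_odd h2).sub_even h3
        exact (Int.not_even_iff_odd.mpr this) h3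
      · exfalso
        have : Odd (A * x ^ 2 + B * y ^ 2 - C * x * y) := by
          have h1 : Odd (A * x ^ 2) := hA.mul hx.pow
          have h2 : Even (B * y ^ 2) := (Even.pow_of_ne_zero hy (by norm_num)).mul_left B
          have h3 : Even (C * x * y) := hy.mul_left (C * x)
          exact (h1.add_even h2).sub_even h3
        exact (Int.not_even_iff_odd.mpr this) h3
      · exfalso
        have : Odd (A * x ^ 2 + B * y ^ 2 - C * x * y) := by
          have h1 : Odd (A * x ^ 2) := hA.mul hx.pow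
          have h2 : Odd (B * y ^ 2) := hB.mul hy.pow
          have h3 : Odd (C * x * y) := (hC.mul hx).mul hy
          exact (h1.add_odd h2).sub_odd h3
        exact (Int.not_even_iff_odd.mpr this) h3
    obtain ⟨⟨x', hx'⟩, ⟨y', hy'⟩⟩ := hxe
    have hx2 : x = 2 * x' := by omega
    have hy2 : y = 2 * y' := by omega
    subst hx2 hy2
    have h' : 2 * A * x' ^ 2 + 2 * B * y' ^ 2 = 2 * C * x' * y' + 2 ^ (k + 1 + 1) * (x' * y' * (x' + y')) := by
      have : 4 * (2 * A * x' ^ 2 + 2 * B * y' ^ 2) =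
          4 * (2 * C * x' * y' + 2 ^ (k + 1 + 1) * (x' * y' * (x' + y'))) := by
        rw [pow_succ 2 (k + 1)]
        nlinarith [h]
      linarith
    by_cases h0 : x' = 0 ∧ y' = 0
    · obtain ⟨rfl, rfl⟩ := h0
      simp
    · have hlt : x'.natAbs + y'.natAbs ≤ n := by
        have : (2 * x').natAbs = 2 * x'.natAbs := by rw [Int.natAbs_mul]; rfl
        have : (2 * y').natAbs = 2 * y'.natAbs := by rw [Int.natAbs_mul]; rfl
        have : 0 < x'.natAbs + y'.natAbs := by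
          by_contra hh
          apply h0
          constructor <;> omega
        omega
      exact absurd (ih (k + 1) x' y' hlt h') h0


/-- one negative sign: `f₃ = 1 + f₁ + f₂`, `c₃ = 1 + c₁ + c₂`. -/
theorem one_neg (f1 f2 c1 c2 : ℤ) (hf1 : 0 < f1) (hf2 : 0 < f2)
    (R3 : f1 * f2 * (1 + f1 + f2) + c1 ^ 2 * f2 * (1 + f1 + f2) + c2 ^ 2 * f1 * (1 + f1 + f2)
      - (1 + c1 + c2) ^ 2 * f1 * f2 = 0) : c1 = f1 ∧ c2 = f2 := by
  have key : ((f1 + c1) * (f2 - c2) - (f2 + c2) * (f1 - c1)) ^ 2 + 4 * (f1 - c1) ^ 2 * f2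
      + 4 * (f2 - c2) ^ 2 * f1 = 0 := by
    linear_combination 4 * R3
  have h1 : 0 ≤ ((f1 + c1) * (f2 - c2) - (f2 + c2) * (f1 - c1)) ^ 2 := sq_nonneg _
  have h2 : 0 ≤ 4 * (f1 - c1) ^ 2 * f2 := by positivity
  have h3 : 0 ≤ 4 * (f2 - c2) ^ 2 * f1 := by positivity
  have h2' : 4 * (f1 - c1) ^ 2 * f2 = 0 := by linarith
  have h3' : 4 * (f2 - c2) ^ 2 * f1 = 0 := by linarith
  constructor
  · have : (f1 - c1) ^ 2 = 0 := by
      rcases mul_eq_zero.mp h2' with h | h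
      · linarith
      · omega
    have := pow_eq_zero_iff (n := 2) (by norm_num) |>.mp this
    linarith
  · have : (f2 - c2) ^ 2 = 0 := by
      rcases mul_eq_zero.mp h3' with h | h
      · linarith
      · omega
    have := pow_eq_zero_iff (n := 2) (by norm_num) |>.mp this
    linarith

/-- two negative signs: `f₁ = f₂ + f₃ - 1`, `c₁ = c₂ + c₃ - 1`. -/
theorem two_neg (f2 f3 c2 c3 : ℤ)
    (h42 : 4 ∣ f2 - c2) (h43 : 4 ∣ f3 - c3) (h82 : 8 ∣ f2 + c2 + 2) (h83 : 8 ∣ f3 + c3 + 2)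
    (R3 : (f2 + f3 - 1) * f2 * f3 + (c2 + c3 - 1) ^ 2 * f2 * f3 - c2 ^ 2 * (f2 + f3 - 1) * f3
      - c3 ^ 2 * (f2 + f3 - 1) * f2 = 0) : c2 = f2 ∧ c3 = f3 := by
  obtain ⟨m2, hm2⟩ := h42
  obtain ⟨m3, hm3⟩ := h43
  obtain ⟨n2, hn2⟩ := h82
  obtain ⟨n3, hn3⟩ := h83
  have hf2 : f2 = 4 * n2 - 1 + 2 * m2 := by linarith
  have hc2 : c2 = 4 * n2 - 1 - 2 * m2 := by linarith
  have hf3 : f3 = 4 * n3 - 1 + 2 * m3 := by linarith
  have hc3 : c3 = 4 * n3 - 1 - 2 * m3 := by linarith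
  subst hf2 hc2 hf3 hc3
  have hE : 2 * ((4 * n3 - 1) * (2 * n3 - 1)) * m2 ^ 2 + 2 * ((4 * n2 - 1) * (2 * n2 - 1)) * m3 ^ 2
      = 2 * ((4 * n2 - 1) * (4 * n3 - 1)) * m2 * m3 + 2 ^ (0 + 1) * (m2 * m3 * (m2 + m3)) := by
    have h16 : 16 * (2 * ((4 * n3 - 1) * (2 * n3 - 1)) * m2 ^ 2
        + 2 * ((4 * n2 - 1) * (2 * n2 - 1)) * m3 ^ 2
        - (2 * ((4 * n2 - 1) * (4 * n3 - 1)) * m2 * m3 + 2 ^ (0 + 1) * (m2 * m3 * (m2 + m3)))) = 0 := by
      linear_combination (-1) * R3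
    linarith
  have hodd1 : ∀ n : ℤ, Odd (4 * n - 1) := fun n => ⟨2 * n - 1, by ring⟩
  have hodd2 : ∀ n : ℤ, Odd (2 * n - 1) := fun n => ⟨n - 1, by ring⟩
  obtain ⟨h2, h3⟩ := descent _ _ _ ((hodd1 n3).mul (hodd2 n3)) ((hodd1 n2).mul (hodd2 n2))
    ((hodd1 n2).mul (hodd1 n3)) (m2.natAbs + m3.natAbs) 0 m2 m3 le_rfl hE
  subst h2 h3
  constructor <;> ring

/-- the arithmetic endgame. -/
theorem bs_arith (e1 e2 e3 f1 f2 f3 c1 c2 c3 : ℤ)
    (he1 : e1 = 1 ∨ e1 = -1) (he2 : e2 = 1 ∨ e2 = -1) (he3 : e3 = 1 ∨ e3 = -1)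
    (hf1 : 0 < f1) (hf2 : 0 < f2) (hf3 : 0 < f3)
    (hc1 : -f1 ≤ c1) (hc2 : -f2 ≤ c2) (hc3 : -f3 ≤ c3)
    (R1 : 1 + e1 * f1 + e2 * f2 + e3 * f3 = 0)
    (R2 : 1 + e1 * c1 + e2 * c2 + e3 * c3 = 0)
    (R3 : f1 * f2 * f3 + e1 * c1 ^ 2 * f2 * f3 + e2 * c2 ^ 2 * f1 * f3 + e3 * c3 ^ 2 * f1 * f2 = 0)
    (h41 : 4 ∣ f1 - c1) (h42 : 4 ∣ f2 - c2) (h43 : 4 ∣ f3 - c3)
    (h81 : 8 ∣ f1 + c1 - 2 * e1) (h82 : 8 ∣ f2 + c2 - 2 * e2) (h83 : 8 ∣ f3 + c3 - 2 * e3) :
    c1 = f1 ∧ c2 = f2 ∧ c3 = f3 := by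
  rcases he1 with rfl | rfl <;> rcases he2 with rfl | rfl <;> rcases he3 with rfl | rfl
  · -- (+,+,+)
    exfalso; linarith
  · -- (+,+,-)
    have hf : f3 = 1 + f1 + f2 := by linarith
    have hc : c3 = 1 + c1 + c2 := by linarith
    subst hf hc
    obtain ⟨h1, h2⟩ := one_neg f1 f2 c1 c2 hf1 hf2 (by linear_combination R3)
    subst h1 h2
    exact ⟨rfl, rfl, rfl⟩
  · -- (+,-,+)
    have hf : f2 = 1 + f1 + f3 := by linarith
    have hc : c2 = 1 + c1 + c3 := by linarith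
    subst hf hc
    obtain ⟨h1, h2⟩ := one_neg f1 f3 c1 c3 hf1 hf3 (by linear_combination R3)
    subst h1 h2
    exact ⟨rfl, rfl, rfl⟩
  · -- (+,-,-)
    have hf : f1 = f2 + f3 - 1 := by linarith
    have hc : c1 = c2 + c3 - 1 := by linarith
    subst hf hc
    obtain ⟨h1, h2⟩ := two_neg f2 f3 c2 c3 h42 h43 (by simpa using h82) (by simpa using h83)
      (by linear_combination R3)
    subst h1 h2
    exact ⟨rfl, rfl, rfl⟩
  · -- (-,+,+)
    have hf : f1 = 1 + f2 + f3 := by linarith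
    have hc : c1 = 1 + c2 + c3 := by linarith
    subst hf hc
    obtain ⟨h1, h2⟩ := one_neg f2 f3 c2 c3 hf2 hf3 (by linear_combination R3)
    subst h1 h2
    exact ⟨rfl, rfl, rfl⟩
  · -- (-,+,-)
    have hf : f2 = f1 + f3 - 1 := by linarith
    have hc : c2 = c1 + c3 - 1 := by linarith
    subst hf hc
    obtain ⟨h1, h2⟩ := two_neg f1 f3 c1 c3 h41 h43 (by simpa using h81) (by simpa using h83)
      (by linear_combination R3)
    subst h1 h2
    exact ⟨rfl, rfl, rfl⟩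
  · -- (-,-,+)
    have hf : f3 = f1 + f2 - 1 := by linarith
    have hc : c3 = c1 + c2 - 1 := by linarith
    subst hf hc
    obtain ⟨h1, h2⟩ := two_neg f1 f2 c1 c2 h41 h42 (by simpa using h81) (by simpa using h82)
      (by linear_combination R3)
    subst h1 h2
    exact ⟨rfl, rfl, rfl⟩
  · -- (-,-,-)
    exfalso
    obtain ⟨n1, hn1⟩ := h81
    obtain ⟨n2, hn2⟩ := h82
    obtain ⟨n3, hn3⟩ := h83
    omega

end Cfsg.Agent.Lib.Helper4.BSArith
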