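import Mathlib
import Cfsg.Agent.S0942
import Cfsg.Agent.S4691
import Cfsg.Agent.Lib.Helper78.SMTOrtho2
import Cfsg.Agent.Lib.Helper78.SMTMain
import Cfsg.Agent.Lib.Helper76.PCore

/-!
# A class function supported and constant on one `p`-section lies in the principal block (helper4)

`block_step`: if `Θ` is a class function supported on the conjugates of `a * O_{p'}(C(a))`
(`a` a `p`-element, all `p`-regular elements of `C(a)` in `O_{p'}(C(a))`), constant there, with
`[Θ,1] = 1`, then every irreducible constituent `χ` of `Θ` lies in the principal block, and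
`[Θ,χ] = conj (χ a)` for `χ` in the principal block.
-/

set_option autoImplicit false

namespace Cfsg.Agent.Lib.Helper4

open Cfsg Cfsg.Agent.Lib.Helper78 Cfsg.Agent.Lib.Helper16
open scoped ComplexConjugate

variable {G : Type*} [Group G] [Fintype G]

omit [Fintype G] in
theorem mem_centralizerPPrimeCore_commute {p : ℕ} {a v : G}
    (hv : v ∈ centralizerPPrimeCore p a) : Commute a v := by
  obtain ⟨v', _, rfl⟩ := Subgroup.mem_map.mp hv
  have := v'.2
  rw [Subgroup.mem_centralizer_singleton_iff] at this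
  exact this.symm

theorem mem_centralizerPPrimeCore_orderOf {p : ℕ} [hp : Fact p.Prime] {a v : G}
    (hv : v ∈ centralizerPPrimeCore p a) : ¬ p ∣ orderOf v := by
  obtain ⟨v', hv', rfl⟩ := Subgroup.mem_map.mp hv
  intro hdvd
  have hcop := Cfsg.Agent.Lib.Helper76.pPrimeCore_coprime (G := Subgroup.centralizer ({a} : Set G)) p
  have h1 : orderOf (⟨v', hv'⟩ : pPrimeCore p (Subgroup.centralizer ({a} : Set G))) ∣
      Nat.card (pPrimeCore p (Subgroup.centralizer ({a} : Set G))) := orderOf_dvd_natCard _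
  rw [Subgroup.orderOf_mk] at h1
  have h2 : orderOf (v' : G) = orderOf v' := Subgroup.orderOf_coe v'
  simp only [Subgroup.coe_subtype] at hdvd
  rw [h2] at hdvd
  have h3 : (orderOf v').Coprime p := hcop.coprime_dvd_left h1
  have h4 : p ∣ Nat.gcd (orderOf v') p := Nat.dvd_gcd hdvd dvd_rfl
  rw [h3] at h4
  exact hp.out.one_lt.ne' (Nat.dvd_one.mp h4)

open scoped Classical in
theorem classInner_blockPart (B : Set (IrrCharacter G)) (Θ : G → ℂ) (ψ : IrrCharacter G) :
    classInner (blockPart B Θ) (ψ : G → ℂ) = if ψ ∈ B then classInner Θ (ψ : G → ℂ) else 0 := by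
  have h : blockPart B Θ = ∑ ξ ∈ Finset.univ.filter (fun ξ : IrrCharacter G => ξ ∈ B),
      classInner Θ (ξ : G → ℂ) • (ξ : G → ℂ) := by
    funext y
    rw [blockPart_apply, Finset.sum_apply]
    rfl
  rw [h, classInner_sum_left]
  simp only [classInner_smul_left]
  have h2 : ∀ ξ : IrrCharacter G, classInner (ξ : G → ℂ) (ψ : G → ℂ) = if ξ = ψ then 1 else 0 := by
    intro ξ
    rw [classInner_irr ξ.2 ψ.2]
    by_cases h : ξ = ψ
    · rw [if_pos h, if_pos (by rw [h])]
    · rw [if_neg h, if_neg (fun h' => h (Subtype.ext h'))]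
  simp only [h2, mul_ite, mul_one, mul_zero]
  rw [Finset.sum_ite_eq' ]
  simp

theorem block_step (p : ℕ) [hp : Fact p.Prime] (M : Ideal AlgInt) (hM : IsPModular p M)
    (a : G) (ha : ∃ k : ℕ, orderOf a = p ^ k)
    (Θ : G → ℂ) (hcf : IsClassFunction G Θ)
    (hsupp : ∀ g, Θ g ≠ 0 → ∃ v ∈ centralizerPPrimeCore p a, IsConj (a * v) g)
    (hconst : ∀ v ∈ centralizerPPrimeCore p a, Θ (a * v) = Θ a)
    (hreg : ∀ y ∈ Subgroup.centralizer ({a} : Set G), ¬ p ∣ orderOf y →
      y ∈ centralizerPPrimeCore p a)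
    (htriv : classInner Θ (fun _ => (1 : ℂ)) = 1) (χ : IrrCharacter G) :
    (classInner Θ (χ : G → ℂ) ≠ 0 → χ ∈ principalBlock M G) ∧
    (χ ∈ principalBlock M G → classInner Θ (χ : G → ℂ) = conj ((χ : G → ℂ) a)) := by
  classical
  have hMp : M.IsPrime := isPModular_isPrime hM
  have hB0 : IsPBlock M (principalBlock M G) := Cfsg.Agent.S4691.isPBlock_principalBlock
  have h1mem : Cfsg.Agent.S4691.oneIrr G ∈ principalBlock M G :=
    Cfsg.Agent.S4691.oneIrr_mem_principalBlock
  set Ψ : G → ℂ := blockPart (principalBlock M G) Θ with hΨ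
  have hΨcf : IsClassFunction G Ψ := by
    intro g h
    simp only [hΨ, blockPart_apply]
    apply Finset.sum_congr rfl
    intro ξ _
    rw [isClassFunction_irr ξ g h]
  -- the `p`-part of `a * v`
  have hpart : ∀ v ∈ centralizerPPrimeCore p a, IsPPart p (a * v) a := fun v hv =>
    ⟨v, rfl, mem_centralizerPPrimeCore_commute hv, ha, mem_centralizerPPrimeCore_orderOf hv⟩
  -- Step A
  have hA : ∀ g, (¬ ∃ v ∈ centralizerPPrimeCore p a, IsConj (a * v) g) → Ψ g = 0 := by
    intro g hg
    obtain ⟨x, hx⟩ := exists_isPPart p g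
    have hxa : ¬ IsConj x a := by
      intro hc
      apply hg
      obtain ⟨c, hc⟩ := isConj_iff.mp hc
      -- `c x c⁻¹ = a`
      obtain ⟨y, hxy, hcomm, _, hy⟩ := hx
      refine ⟨c * y * c⁻¹, ?_, ?_⟩
      · apply hreg
        · rw [Subgroup.mem_centralizer_singleton_iff]
          rw [← hc]
          have := hcomm.eq
          calc c * y * c⁻¹ * (c * x * c⁻¹) = c * (y * x) * c⁻¹ := by group
            _ = c * (x * y) * c⁻¹ := by rw [this]
            _ = c * x * c⁻¹ * (c * y * c⁻¹) := by group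
        · rw [orderOf_conj_eq]; exact hy
      · rw [isConj_iff]
        refine ⟨c⁻¹, ?_⟩
        rw [← hc, ← hxy]; group
    apply blockPart_eq_zero_of_vanish_section hM hcf x _ hB0 g x hx (IsConj.refl x)
    intro u z hu hxz
    by_contra hne
    obtain ⟨v, hv, hconj⟩ := hsupp u hne
    obtain ⟨c, hc⟩ := isConj_iff.mp hconj
    have h1 := isPPart_conj (hpart v hv) c
    rw [hc] at h1
    have h2 := isPPart_unique hu h1
    apply hxa
    rw [h2] at hxz
    exact hxz.trans (isConj_iff.mpr ⟨c⁻¹, by group⟩)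
  -- Step B
  have hB : ∀ v ∈ centralizerPPrimeCore p a, Ψ (a * v) = Ψ a := by
    intro v hv
    simp only [hΨ, blockPart_apply]
    apply Finset.sum_congr rfl
    intro ξ hξ
    rw [Cfsg.Agent.S0942.result p M hM a ha v hv ξ (Finset.mem_filter.mp hξ).2]
  -- Step C
  have hΘa : Θ a ≠ 0 := by
    intro h0
    have hz : ∀ g, Θ g = 0 := by
      intro g
      by_contra hne
      obtain ⟨v, hv, hconj⟩ := hsupp g hne
      apply hne
      rw [← IsClassFunction.eq_of_isConj hcf hconj, hconst v hv, h0]
    have : classInner Θ (fun _ => (1 : ℂ)) = 0 := by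
      unfold classInner
      simp [hz]
    rw [htriv] at this
    exact one_ne_zero this
  -- Step D
  set β : ℂ := Ψ a / Θ a with hβ
  have hD : Ψ = β • Θ := by
    funext g
    simp only [Pi.smul_apply, smul_eq_mul]
    by_cases hg : ∃ v ∈ centralizerPPrimeCore p a, IsConj (a * v) g
    · obtain ⟨v, hv, hconj⟩ := hg
      rw [← IsClassFunction.eq_of_isConj hΨcf hconj, ← IsClassFunction.eq_of_isConj hcf hconj,
        hB v hv, hconst v hv, hβ]
      field_simp
    · rw [hA g hg]
      have : Θ g = 0 := by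
        by_contra hne
        exact hg (hsupp g hne)
      rw [this, mul_zero]
  -- Step E
  have hone : (Cfsg.Agent.S4691.oneIrr G : G → ℂ) = fun _ => (1 : ℂ) := rfl
  have hβ1 : β = 1 := by
    have h1 := classInner_blockPart (principalBlock M G) Θ (Cfsg.Agent.S4691.oneIrr G)
    rw [if_pos h1mem, ← hΨ, hD, classInner_smul_left, hone, htriv] at h1
    simpa using h1
  have hΨΘ : Ψ = Θ := by rw [hD, hβ1, one_smul]
  constructor
  · intro hne
    by_contra hχ
    apply hne
    have h1 := classInner_blockPart (principalBlock M G) Θ χ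
    rw [if_neg hχ, ← hΨ, hΨΘ] at h1
    exact h1
  · intro hχ
    have hterm : ∀ g, Θ g * conj ((χ : G → ℂ) g) = Θ g * conj ((χ : G → ℂ) a) := by
      intro g
      by_cases hg : Θ g = 0
      · rw [hg, zero_mul, zero_mul]
      · obtain ⟨v, hv, hconj⟩ := hsupp g hg
        rw [← IsClassFunction.eq_of_isConj (isClassFunction_irr χ) hconj,
          Cfsg.Agent.S0942.result p M hM a ha v hv χ hχ]
    have h2 : classInner Θ (χ : G → ℂ) = classInner Θ (fun _ => (1 : ℂ)) * conj ((χ : G → ℂ) a) := by
      unfold classInner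
      simp only [hterm, map_one, mul_one]
      rw [← Finset.sum_mul]
      ring
    rw [h2, htriv, one_mul]

end Cfsg.Agent.Lib.Helper4
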