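import Mathlib
import Cfsg.Agent.S0840
import Cfsg.Agent.Lib.Helper78.CharMore

/-!
# A relation from class multiplication constants (helper4)

If a class function `Θ` vanishes at every product of two conjugates of `z`, then
`∑ χ, χ(z)² / χ(1) * [Θ, χ] = 0`.
-/

set_option autoImplicit false

namespace Cfsg.Agent.Lib.Helper4

open Cfsg Cfsg.Agent.Lib.Helper78
open scoped ComplexConjugate

variable {G : Type*} [Group G] [Fintype G]

theorem sum_irr_sq_div_mul_classInner_eq_zero (z : G) (Θ : G → ℂ)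
    (hvan : ∀ g : G, Θ g ≠ 0 → ∀ x y : G, IsConj z x → IsConj z y → x * y ≠ g) :
    ∑ χ : IrrCharacter G,
      ((χ : G → ℂ) z * (χ : G → ℂ) z / (χ : G → ℂ) 1) * classInner Θ (χ : G → ℂ) = 0 := by
  classical
  have hG : (Nat.card G : ℂ) ≠ 0 := by exact_mod_cast Nat.card_pos.ne'
  have hF : ∀ g : G, Θ g ≠ 0 → ∑ χ : IrrCharacter G,
      (χ : G → ℂ) z * (χ : G → ℂ) z * conj ((χ : G → ℂ) g) / (χ : G → ℂ) 1 = 0 := by
    intro g hg
    have h := Cfsg.Agent.S0840.result z z g
    rw [finsum_eq_sum_of_fintype] at h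
    have hempty : Nat.card {p : G × G // IsConj z p.1 ∧ IsConj z p.2 ∧ p.1 * p.2 = g} = 0 := by
      rw [Nat.card_eq_zero]
      left
      constructor
      rintro ⟨p, h1, h2, h3⟩
      exact hvan g hg p.1 p.2 h1 h2 h3
    rw [hempty, Nat.cast_zero] at h
    have hcl : (Nat.card {x : G // IsConj z x} : ℂ) ≠ 0 := by
      have : Nonempty {x : G // IsConj z x} := ⟨⟨z, IsConj.refl z⟩⟩
      exact_mod_cast Nat.card_pos.ne'
    rcases mul_eq_zero.mp h.symm with h' | h'
    · exfalso; exact (div_ne_zero (mul_ne_zero hcl hcl) hG) h'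
    · exact h'
  set w : IrrCharacter G → ℂ := fun χ => (χ : G → ℂ) z * (χ : G → ℂ) z / (χ : G → ℂ) 1 with hw
  have hsum0 : ∑ g : G, (∑ χ : IrrCharacter G, w χ * conj ((χ : G → ℂ) g)) * Θ g = 0 := by
    apply Finset.sum_eq_zero
    intro g _
    by_cases hg : Θ g = 0
    · rw [hg, mul_zero]
    · have h' : ∑ χ : IrrCharacter G, w χ * conj ((χ : G → ℂ) g) = 0 := by
        rw [← hF g hg]
        apply Finset.sum_congr rfl
        intro χ _
        simp only [hw]; ring
      rw [h', zero_mul]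
  have hswap : ∑ g : G, (∑ χ : IrrCharacter G, w χ * conj ((χ : G → ℂ) g)) * Θ g =
      (Nat.card G : ℂ) * ∑ χ : IrrCharacter G, w χ * classInner Θ (χ : G → ℂ) := by
    simp only [Finset.sum_mul]
    rw [Finset.sum_comm, Finset.mul_sum]
    apply Finset.sum_congr rfl
    intro χ _
    have h1 : ∑ g : G, w χ * conj ((χ : G → ℂ) g) * Θ g =
        w χ * ∑ g : G, Θ g * conj ((χ : G → ℂ) g) := by
      rw [Finset.mul_sum]
      apply Finset.sum_congr rfl
      intro g _
      ring
    rw [h1]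
    unfold classInner
    field_simp
  rw [hswap] at hsum0
  exact (mul_eq_zero.mp hsum0).resolve_left hG

end Cfsg.Agent.Lib.Helper4
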