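import Mathlib
import Cfsg.Agent.Lib.Helper52.NormThree

/-!
# Generalized characters of norm four containing the trivial character once (helper4)

`exists_triple_of_norm_four`: a class function `Θ` with integer multiplicities, `[Θ,Θ] = 4`,
`[Θ,1] = 1` has the shape `1 + e₁ χ₁ + e₂ χ₂ + e₃ χ₃` with `χ_i` distinct nontrivial irreducible
characters and `e_i = ± 1`.
-/

set_option autoImplicit false

namespace Cfsg.Agent.Lib.Helper4

open Cfsg Cfsg.Agent.Lib.Helper78 Cfsg.Agent.Lib.Helper52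
open scoped ComplexConjugate

universe u

variable {G : Type u} [Group G] [Fintype G]

theorem exists_triple_of_norm_four {Θ : G → ℂ} (hcf : IsClassFunction G Θ)
    (hint : ∀ χ : IrrCharacter G, ∃ n : ℤ, classInner Θ (χ : G → ℂ) = n)
    (hnorm : classInner Θ Θ = 4) (htriv : classInner Θ (fun _ => (1 : ℂ)) = 1) :
    ∃ (χ₁ χ₂ χ₃ : IrrCharacter G) (e₁ e₂ e₃ : ℤ),
      (χ₁ : G → ℂ) ≠ (fun _ => 1) ∧ (χ₂ : G → ℂ) ≠ (fun _ => 1) ∧ (χ₃ : G → ℂ) ≠ (fun _ => 1) ∧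
      χ₁ ≠ χ₂ ∧ χ₁ ≠ χ₃ ∧ χ₂ ≠ χ₃ ∧
      (e₁ = 1 ∨ e₁ = -1) ∧ (e₂ = 1 ∨ e₂ = -1) ∧ (e₃ = 1 ∨ e₃ = -1) ∧
      classInner Θ (χ₁ : G → ℂ) = e₁ ∧ classInner Θ (χ₂ : G → ℂ) = e₂ ∧
      classInner Θ (χ₃ : G → ℂ) = e₃ ∧
      (∀ χ : IrrCharacter G, (χ : G → ℂ) ≠ (fun _ => 1) → χ ≠ χ₁ → χ ≠ χ₂ → χ ≠ χ₃ →
        classInner Θ (χ : G → ℂ) = 0) ∧
      ∀ g, Θ g = 1 + (e₁ : ℂ) * (χ₁ : G → ℂ) g + (e₂ : ℂ) * (χ₂ : G → ℂ) g
        + (e₃ : ℂ) * (χ₃ : G → ℂ) g := by
  classical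
  choose m hm using hint
  have hP := classInner_eq_sum_mul_conj Θ hcf
  rw [hnorm] at hP
  simp only [hm, map_intCast] at hP
  have hN : ∑ χ : IrrCharacter G, m χ * m χ = 4 := by
    have : ((∑ χ : IrrCharacter G, m χ * m χ : ℤ) : ℂ) = 4 := by
      push_cast; exact hP.symm
    exact_mod_cast this
  set τ : IrrCharacter G := trivIrr G with hτ
  have hmτ : m τ = 1 := by
    have : (m τ : ℂ) = 1 := by rw [← hm τ]; exact htriv
    exact_mod_cast this
  have hN2 : ∑ χ ∈ Finset.univ.erase τ, m χ * m χ = 3 := by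
    have := Finset.add_sum_erase Finset.univ (fun χ => m χ * m χ) (Finset.mem_univ τ)
    rw [hN, hmτ] at this
    linarith
  have hle : ∀ χ ∈ Finset.univ.erase τ, m χ * m χ ≤ 3 := by
    intro χ hχ
    rw [← hN2]
    exact Finset.single_le_sum (f := fun χ => m χ * m χ) (fun _ _ => mul_self_nonneg _) hχ
  have hsq : ∀ χ ∈ Finset.univ.erase τ, m χ * m χ = if m χ = 0 then 0 else 1 := by
    intro χ hχ
    have h2 := hle χ hχ
    split_ifs with h0
    · rw [h0]; ring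
    · have hpos : 0 < m χ * m χ := mul_self_pos.mpr h0
      have : m χ ≤ 1 := by nlinarith
      have : -1 ≤ m χ := by nlinarith
      have : m χ = 1 ∨ m χ = -1 := by omega
      rcases this with h | h <;> rw [h] <;> ring
  set T : Finset (IrrCharacter G) := (Finset.univ.erase τ).filter (fun χ => m χ ≠ 0) with hT
  have hTcard : T.card = 3 := by
    have h3 : ∑ χ ∈ Finset.univ.erase τ, m χ * m χ =
        ∑ χ ∈ Finset.univ.erase τ, if m χ = 0 then (0 : ℤ) else 1 :=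
      Finset.sum_congr rfl hsq
    rw [hN2] at h3
    have h4 : ∑ χ ∈ Finset.univ.erase τ, (if m χ = 0 then (0 : ℤ) else 1) = (T.card : ℤ) := by
      rw [hT, Finset.card_filter]
      push_cast
      apply Finset.sum_congr rfl
      intro χ _
      by_cases h : m χ = 0 <;> simp [h]
    rw [h4] at h3
    exact_mod_cast h3.symm
  obtain ⟨α, β, γ, hαβ, hαγ, hβγ, hTeq⟩ := Finset.card_eq_three.mp hTcard
  have hαT : α ∈ T := by rw [hTeq]; simp
  have hβT : β ∈ T := by rw [hTeq]; simp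
  have hγT : γ ∈ T := by rw [hTeq]; simp
  have hα := Finset.mem_filter.mp hαT
  have hβ := Finset.mem_filter.mp hβT
  have hγ := Finset.mem_filter.mp hγT
  have hατ : α ≠ τ := (Finset.mem_erase.mp hα.1).1
  have hβτ : β ≠ τ := (Finset.mem_erase.mp hβ.1).1
  have hγτ : γ ≠ τ := (Finset.mem_erase.mp hγ.1).1
  have hpm : ∀ χ ∈ T, m χ = 1 ∨ m χ = -1 := by
    intro χ hχ
    have hχ' := Finset.mem_filter.mp hχ
    have h := hsq χ hχ'.1
    rw [if_neg hχ'.2] at h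
    exact mul_self_eq_one_iff.mp h
  have hrest : ∀ χ, χ ≠ τ → χ ≠ α → χ ≠ β → χ ≠ γ → m χ = 0 := by
    intro χ h1 h2 h3 h4
    by_contra h0
    have : χ ∈ T := Finset.mem_filter.mpr ⟨Finset.mem_erase.mpr ⟨h1, Finset.mem_univ _⟩, h0⟩
    rw [hTeq] at this
    simp at this
    rcases this with h | h | h
    · exact h2 h
    · exact h3 h
    · exact h4 h
  have hΘ : Θ = (τ : G → ℂ) + ((m α : ℂ) • (α : G → ℂ) + ((m β : ℂ) • (β : G → ℂ)
      + (m γ : ℂ) • (γ : G → ℂ))) := by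
    conv_lhs => rw [classFunction_eq_sum_irr hcf]
    have hsub : ∑ χ : IrrCharacter G, classInner Θ (χ : G → ℂ) • (χ : G → ℂ) =
        ∑ χ ∈ ({τ, α, β, γ} : Finset (IrrCharacter G)),
          classInner Θ (χ : G → ℂ) • (χ : G → ℂ) := by
      symm
      apply Finset.sum_subset (Finset.subset_univ _)
      intro χ _ hχ
      simp only [Finset.mem_insert, Finset.mem_singleton, not_or] at hχ
      rw [hm, hrest χ hχ.1 hχ.2.1 hχ.2.2.1 hχ.2.2.2]
      simp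
    rw [hsub, Finset.sum_insert (by simp [hατ.symm, hβτ.symm, hγτ.symm]),
      Finset.sum_insert (by simp [hαβ, hαγ]), Finset.sum_insert (by simp [hβγ]),
      Finset.sum_singleton, hm, hm, hm, hm, hmτ]
    simp
  have hτ1 : ∀ g, (τ : G → ℂ) g = 1 := fun g => rfl
  have hne : ∀ χ : IrrCharacter G, χ ≠ τ → (χ : G → ℂ) ≠ (fun _ => 1) := by
    intro χ h h'
    exact h (Subtype.ext h')
  refine ⟨α, β, γ, m α, m β, m γ, hne α hατ, hne β hβτ, hne γ hγτ, hαβ, hαγ, hβγ,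
    hpm α hαT, hpm β hβT, hpm γ hγT, hm α, hm β, hm γ, ?_, ?_⟩
  · intro χ h1 h2 h3 h4
    rw [hm, hrest χ (fun h => h1 (by rw [h]; rfl)) h2 h3 h4]
    simp
  · intro g
    have := congrFun hΘ g
    simp only [Pi.add_apply, Pi.smul_apply, smul_eq_mul, hτ1] at this
    rw [this]; ring

end Cfsg.Agent.Lib.Helper4
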