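import Mathlib

set_option autoImplicit false

namespace Cfsg.Agent.Lib.Helper4

variable {G : Type*} [Group G]

theorem orderOf_two_iff (u : G) : orderOf u = 2 ↔ u * u = 1 ∧ u ≠ 1 := by
  haveI : Fact (Nat.Prime 2) := ⟨Nat.prime_two⟩
  rw [orderOf_eq_prime_iff, pow_two]

theorem mul_self_of_orderOf_two {u : G} (h : orderOf u = 2) : u * u = 1 :=
  ((orderOf_two_iff u).mp h).1

theorem ne_one_of_orderOf_two {u : G} (h : orderOf u = 2) : u ≠ 1 :=
  ((orderOf_two_iff u).mp h).2

theorem inv_eq_self_of_orderOf_two {u : G} (h : orderOf u = 2) : u⁻¹ = u :=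
  inv_eq_of_mul_eq_one_right (mul_self_of_orderOf_two h)

theorem orderOf_two_of {u : G} (h1 : u * u = 1) (h2 : u ≠ 1) : orderOf u = 2 :=
  (orderOf_two_iff u).mpr ⟨h1, h2⟩

/-- conjugates of involutions are involutions -/
theorem orderOf_conj_two {u : G} (g : G) (h : orderOf u = 2) : orderOf (g * u * g⁻¹) = 2 := by
  rw [orderOf_two_iff] at h ⊢
  refine ⟨?_, ?_⟩
  · calc g * u * g⁻¹ * (g * u * g⁻¹) = g * (u * u) * g⁻¹ := by group
      _ = 1 := by rw [h.1]; group
  · intro h1
    apply h.2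
    calc u = g⁻¹ * (g * u * g⁻¹) * g := by group
      _ = 1 := by rw [h1]; group

/-- For an involution `x`: `x * (x*y)^m = (y*x)^m * x`. -/
theorem invol_mul_pow (x y : G) (hx2 : x * x = 1) (m : ℕ) :
    x * (x * y) ^ m = (y * x) ^ m * x := by
  induction m with
  | zero => simp
  | succ m ih =>
    calc x * (x * y) ^ (m + 1) = (x * (x * y) ^ m) * (x * y) := by rw [pow_succ, mul_assoc]
      _ = (y * x) ^ m * (x * x) * y := by rw [ih]; simp only [mul_assoc]
      _ = (y * x) ^ m * y * (x * x) := by rw [hx2, mul_one, mul_one]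
      _ = (y * x) ^ (m + 1) * x := by rw [pow_succ]; simp only [mul_assoc]

theorem mul_pow_comm' (x y : G) (m : ℕ) :
    y * (x * y) ^ m = (y * x) ^ m * y := by
  induction m with
  | zero => simp
  | succ m ih =>
    calc y * (x * y) ^ (m + 1) = (y * (x * y) ^ m) * (x * y) := by rw [pow_succ, mul_assoc]
      _ = (y * x) ^ m * (y * x) * y := by rw [ih]; simp only [mul_assoc]
      _ = (y * x) ^ (m + 1) * y := by rw [pow_succ]

end Cfsg.Agent.Lib.Helper4
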