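import Mathlib
import Cfsg.Agent.Lib.Helper4.Invol

set_option autoImplicit false

namespace Cfsg.Agent.Lib.Helper4

variable {G : Type*} [Group G]

/-- `x (xy) x⁻¹ = (xy)⁻¹` for elements with `x*x = 1`, `y*y=1`. -/
theorem conj_mul_eq_inv {x y : G} (hx : x * x = 1) (hy : y * y = 1) :
    x * (x * y) * x⁻¹ = (x * y)⁻¹ := by
  have hxi : x⁻¹ = x := inv_eq_of_mul_eq_one_right hx
  have hyi : y⁻¹ = y := inv_eq_of_mul_eq_one_right hy
  rw [mul_inv_rev, hxi, hyi, ← mul_assoc, hx, one_mul]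

theorem conj_zpow_eq {x y : G} (hx : x * x = 1) (hy : y * y = 1) (k : ℤ) :
    x * (x * y) ^ k * x⁻¹ = (x * y) ^ (-k) := by
  rw [← conj_zpow, conj_mul_eq_inv hx hy, inv_zpow, zpow_neg]

theorem invol_mul_zpow {x y : G} (hx : x * x = 1) (hy : y * y = 1) (k : ℤ) :
    x * (x * y) ^ k = (x * y) ^ (-k) * x := by
  rw [← conj_zpow_eq hx hy k]; group

/-- Every element of `⟨x, y⟩` is `(xy)^k` or `(xy)^k x`. -/
theorem mem_closure_pair {x y : G} (hx : x * x = 1) (hy : y * y = 1) {d : G}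
    (hd : d ∈ Subgroup.closure ({x, y} : Set G)) :
    ∃ k : ℤ, d = (x * y) ^ k ∨ d = (x * y) ^ k * x := by
  have hxi : x⁻¹ = x := inv_eq_of_mul_eq_one_right hx
  induction hd using Subgroup.closure_induction with
  | mem z hz =>
    rcases hz with rfl | hz
    · exact ⟨0, Or.inr (by simp)⟩
    · rw [Set.mem_singleton_iff] at hz
      subst hz
      refine ⟨-1, Or.inr ?_⟩
      rw [← invol_mul_zpow hx hy, zpow_one, ← mul_assoc, hx, one_mul]
  | one => exact ⟨0, Or.inl (by simp)⟩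
  | mul a b _ _ iha ihb =>
    obtain ⟨k, hk | hk⟩ := iha <;> obtain ⟨l, hl | hl⟩ := ihb
    · exact ⟨k + l, Or.inl (by rw [hk, hl, zpow_add])⟩
    · exact ⟨k + l, Or.inr (by rw [hk, hl, zpow_add, mul_assoc])⟩
    · refine ⟨k - l, Or.inr ?_⟩
      rw [hk, hl, mul_assoc, invol_mul_zpow hx hy, ← mul_assoc, ← zpow_add, sub_eq_add_neg]
    · refine ⟨k - l, Or.inl ?_⟩
      rw [hk, hl, mul_assoc, ← mul_assoc x, invol_mul_zpow hx hy, mul_assoc _ x x, hx, mul_one,
        ← zpow_add, sub_eq_add_neg]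
  | inv a _ iha =>
    obtain ⟨k, hk | hk⟩ := iha
    · exact ⟨-k, Or.inl (by rw [hk, zpow_neg])⟩
    · refine ⟨k, Or.inr ?_⟩
      rw [hk, mul_inv_rev, hxi, ← zpow_neg, invol_mul_zpow hx hy, neg_neg]

theorem x_mem_closure_pair (x y : G) : x ∈ Subgroup.closure ({x, y} : Set G) :=
  Subgroup.subset_closure (by simp)

theorem y_mem_closure_pair (x y : G) : y ∈ Subgroup.closure ({x, y} : Set G) :=
  Subgroup.subset_closure (by simp)

theorem zpow_mem_closure_pair (x y : G) (k : ℤ) :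
    (x * y) ^ k ∈ Subgroup.closure ({x, y} : Set G) :=
  Subgroup.zpow_mem _ (Subgroup.mul_mem _ (x_mem_closure_pair x y) (y_mem_closure_pair x y)) k

/-- `((xy)^k x)^2 = 1`. -/
theorem zpow_mul_invol_sq {x y : G} (hx : x * x = 1) (hy : y * y = 1) (k : ℤ) :
    (x * y) ^ k * x * ((x * y) ^ k * x) = 1 := by
  rw [mul_assoc, ← mul_assoc x, invol_mul_zpow hx hy, mul_assoc _ x x, hx, mul_one, ← zpow_add]
  simp

/-- conjugating `x` by any element of `⟨x,y⟩` gives `(xy)^(2k) x`. -/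
theorem conj_x_of_mem_closure_pair {x y : G} (hx : x * x = 1) (hy : y * y = 1) {d : G}
    (hd : d ∈ Subgroup.closure ({x, y} : Set G)) :
    ∃ k : ℤ, d * x * d⁻¹ = (x * y) ^ (2 * k) * x := by
  have hxi : x⁻¹ = x := inv_eq_of_mul_eq_one_right hx
  obtain ⟨k, hk | hk⟩ := mem_closure_pair hx hy hd
  · refine ⟨k, ?_⟩
    rw [hk, mul_assoc, ← zpow_neg, invol_mul_zpow hx hy, neg_neg, ← mul_assoc, ← zpow_add, two_mul]
  · refine ⟨k, ?_⟩
    rw [hk, mul_inv_rev, hxi, mul_assoc _ x x, hx, mul_one, ← zpow_neg,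
      invol_mul_zpow hx hy, neg_neg, ← mul_assoc, ← zpow_add, two_mul]

/-- `x` is not a power of `xy` when `x` and `y` are involutions. -/
theorem x_not_mem_zpowers {x y : G} (hx : orderOf x = 2) (hy : orderOf y = 2) :
    x ∉ Subgroup.zpowers (x * y) := by
  have hx2 := mul_self_of_orderOf_two hx
  have hy2 := mul_self_of_orderOf_two hy
  have hxi : x⁻¹ = x := inv_eq_of_mul_eq_one_right hx2
  intro hmem
  obtain ⟨k, hk⟩ := Subgroup.mem_zpowers_iff.mp hmem
  -- x commutes with x*y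
  have hc : x * (x * y) * x⁻¹ = x * y := by
    have : Commute ((x * y) ^ k) (x * y) := (Commute.refl _).zpow_left k
    rw [hk] at this
    rw [this.eq, mul_inv_cancel_right]
  rw [conj_mul_eq_inv hx2 hy2] at hc
  -- so (xy)^2 = 1
  have h2 : (x * y) * (x * y) = 1 := by
    nth_rewrite 1 [← hc]; simp
  -- x = (xy)^k with (xy)^2=1 means x = 1 or x = xy
  have hcases : (x * y) ^ k = 1 ∨ (x * y) ^ k = x * y := by
    rcases Int.even_or_odd k with ⟨m, hm⟩ | ⟨m, hm⟩
    · left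
      rw [hm, ← two_mul, zpow_mul, zpow_two, h2, one_zpow]
    · right
      rw [hm, zpow_add, zpow_mul, zpow_two, h2, one_zpow, one_mul, zpow_one]
  rcases hcases with h | h
  · rw [hk] at h; exact ne_one_of_orderOf_two hx h
  · rw [hk] at h
    have : y = 1 := by
      have := congrArg (fun z => x⁻¹ * z) h
      simpa using this.symm
    exact ne_one_of_orderOf_two hy this

end Cfsg.Agent.Lib.Helper4
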