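import Mathlib
import Cfsg.Agent.Lib.Helper4.Invol

set_option autoImplicit false

namespace Cfsg.Agent.Lib.Helper4

variable {G : Type*} [Group G]

open scoped Pointwise

/-- Any `p`-subgroup can be conjugated into a given Sylow `p`-subgroup. -/
theorem exists_conj_mem_sylow [Finite G] {p : ℕ} [Fact p.Prime] (P : Sylow p G) {Q : Subgroup G}
    (hQ : IsPGroup p Q) : ∃ g : G, ∀ q ∈ Q, g * q * g⁻¹ ∈ P := by
  obtain ⟨P', hP'⟩ := hQ.exists_le_sylow
  obtain ⟨g, hg⟩ := MulAction.exists_smul_eq G P' P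
  refine ⟨g, fun q hq => ?_⟩
  have h1 : q ∈ (P' : Subgroup G) := hP' hq
  have h2 : MulAut.conj g • q ∈ MulAut.conj g • (P' : Subgroup G) :=
    Subgroup.smul_mem_pointwise_smul _ _ _ h1
  rw [← Sylow.coe_subgroup_smul, hg] at h2
  have h3 : g * q * g⁻¹ ∈ (P : Subgroup G) := by simpa [MulAut.smul_def] using h2
  exact h3

theorem isPGroup_two_zpowers {a : G} (ha : orderOf a = 2) : IsPGroup 2 (Subgroup.zpowers a) := by
  apply IsPGroup.of_card (n := 1)
  rw [Nat.card_zpowers, ha, pow_one]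

theorem commute_of_mem_zpowers {a b g : G} (hab : Commute a b) (hg : g ∈ Subgroup.zpowers a) :
    Commute g b := by
  obtain ⟨k, rfl⟩ := Subgroup.mem_zpowers_iff.mp hg
  exact hab.zpow_left k

/-- Two commuting involutions generate a `2`-group. -/
theorem isPGroup_two_sup_zpowers_of_commute {a b : G} (ha : orderOf a = 2) (hb : orderOf b = 2)
    (hab : Commute a b) : IsPGroup 2 (Subgroup.zpowers a ⊔ Subgroup.zpowers b : Subgroup G) := by
  apply IsPGroup.to_sup_of_normal_right' (isPGroup_two_zpowers ha) (isPGroup_two_zpowers hb)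
  rw [Subgroup.zpowers_le]
  rw [Subgroup.mem_normalizer_iff]
  intro h
  have key : ∀ h ∈ Subgroup.zpowers b, a * h * a⁻¹ = h := by
    intro h hh
    have := (commute_of_mem_zpowers hab.symm hh).symm
    rw [this.eq, mul_inv_cancel_right]
  constructor
  · intro hh; rw [key h hh]; exact hh
  · intro hh
    have h1 := key _ hh
    have : h = a * h * a⁻¹ := by
      calc h = a⁻¹ * (a * h * a⁻¹) * a := by group
        _ = a⁻¹ * (a * (a * h * a⁻¹) * a⁻¹) * a := by rw [h1]
        _ = a * h * a⁻¹ := by group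
    rw [this]; exact hh

/-- If an involution `u` of a Sylow 2-subgroup is isolated (its only conjugate in `P` is itself),
then two commuting conjugates of `u` coincide. -/
theorem isolated_eq_of_commute [Finite G] (P : Sylow 2 G) (u : G) (hu : orderOf u = 2)
    (hiso : ∀ g : G, g * u * g⁻¹ ∈ P → g * u * g⁻¹ = u) {a b : G}
    (ha : IsConj u a) (hb : IsConj u b) (hab : Commute a b) : a = b := by
  haveI : Fact (Nat.Prime 2) := ⟨Nat.prime_two⟩
  obtain ⟨ca, hca⟩ := isConj_iff.mp ha
  obtain ⟨cb, hcb⟩ := isConj_iff.mp hb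
  have hao : orderOf a = 2 := by rw [← hca]; exact orderOf_conj_two ca hu
  have hbo : orderOf b = 2 := by rw [← hcb]; exact orderOf_conj_two cb hu
  obtain ⟨g, hg⟩ := exists_conj_mem_sylow P (isPGroup_two_sup_zpowers_of_commute hao hbo hab)
  have h1 : g * a * g⁻¹ ∈ P :=
    hg a (Subgroup.mem_sup_left (Subgroup.mem_zpowers a))
  have h2 : g * b * g⁻¹ ∈ P :=
    hg b (Subgroup.mem_sup_right (Subgroup.mem_zpowers b))
  have e1 : g * a * g⁻¹ = (g * ca) * u * (g * ca)⁻¹ := by rw [← hca]; group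
  have e2 : g * b * g⁻¹ = (g * cb) * u * (g * cb)⁻¹ := by rw [← hcb]; group
  rw [e1] at h1
  rw [e2] at h2
  have h3 := hiso _ h1
  have h4 := hiso _ h2
  have : g * a * g⁻¹ = g * b * g⁻¹ := by rw [e1, e2, h3, h4]
  have := congrArg (fun z => g⁻¹ * z * g) this
  simpa [mul_assoc] using this

end Cfsg.Agent.Lib.Helper4
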