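import Mathlib
import Cfsg.Agent.Lib.Helper4.SylowTwo
import Cfsg.Agent.Lib.Helper4.Dihedral

/-!
# Groups with a quaternion Sylow 2-subgroup of order 8: basic facts (helper4)
-/

set_option autoImplicit false

namespace Cfsg.Agent.Lib.Helper4.Q8

open QuaternionGroup

variable {G : Type*} [Group G]

/-- the embedding of `Q₈` with image `S`. -/
noncomputable def psi (S : Subgroup G) (e : S ≃* QuaternionGroup 2) : QuaternionGroup 2 →* G :=
  S.subtype.comp e.symm.toMonoidHom

variable (S : Subgroup G) (e : S ≃* QuaternionGroup 2)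

theorem psi_injective : Function.Injective (psi S e) := by
  intro x y hxy
  apply e.symm.injective
  exact Subtype.ext hxy

theorem psi_mem (q : QuaternionGroup 2) : psi S e q ∈ S := (e.symm q).2

theorem exists_psi_eq {s : G} (hs : s ∈ S) : ∃ q, psi S e q = s :=
  ⟨e ⟨s, hs⟩, by simp [psi]⟩

theorem orderOf_psi (q : QuaternionGroup 2) : orderOf (psi S e q) = orderOf q :=
  orderOf_injective _ (psi_injective S e) q

theorem psi_eq_iff {q q' : QuaternionGroup 2} : psi S e q = psi S e q' ↔ q = q' :=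
  (psi_injective S e).eq_iff

include e in
theorem card_S : Nat.card S = 8 := by
  rw [Nat.card_congr e.toEquiv, Nat.card_eq_fintype_card, QuaternionGroup.card]

/-- the involution. -/
noncomputable def tt : G := psi S e (a 2)

theorem orderOf_tt : orderOf (tt S e) = 2 := by
  rw [tt, orderOf_psi]
  apply orderOf_eq_prime
  · decide
  · decide

theorem orderOf_a1 : orderOf (psi S e (a 1)) = 4 := by
  rw [orderOf_psi, QuaternionGroup.orderOf_a_one]

theorem a1_sq : psi S e (a 1) ^ 2 = tt S e := by
  rw [tt, ← map_pow]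
  congr 1

theorem eq_tt_of_mul_self {s : G} (hs : s ∈ S) (h : s * s = 1) : s = 1 ∨ s = tt S e := by
  obtain ⟨q, rfl⟩ := exists_psi_eq S e hs
  rw [← map_mul, ← map_one (psi S e), psi_eq_iff] at h
  have key : ∀ q : QuaternionGroup 2, q * q = 1 → q = 1 ∨ q = a 2 := by decide
  rcases key q h with rfl | rfl
  · left; exact map_one _
  · right; rfl

theorem eq_tt_of_orderOf_two {s : G} (hs : s ∈ S) (h : orderOf s = 2) : s = tt S e := by
  rcases eq_tt_of_mul_self S e hs (mul_self_of_orderOf_two h) with h1 | h1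
  · exact absurd h1 (ne_one_of_orderOf_two h)
  · exact h1

/-- every element of `S` other than `1`, `t` has order four and square `t`. -/
theorem sq_eq_tt {s : G} (hs : s ∈ S) (h1 : s ≠ 1) (h2 : s ≠ tt S e) : s * s = tt S e := by
  obtain ⟨q, rfl⟩ := exists_psi_eq S e hs
  have key : ∀ q : QuaternionGroup 2, q = 1 ∨ q = a 2 ∨ q * q = a 2 := by decide
  rcases key q with rfl | rfl | h
  · exact absurd (map_one _) h1
  · exact absurd rfl h2
  · rw [← map_mul, h]; rfl

end Cfsg.Agent.Lib.Helper4.Q8

namespace Cfsg.Agent.Lib.Helper4.Q8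

open QuaternionGroup

variable {G : Type*} [Group G] [Finite G] (S : Sylow 2 G) (e : (S : Subgroup G) ≃* QuaternionGroup 2)

/-- every involution of `G` is conjugate to `t`. -/
theorem isConj_tt_of_orderOf_two {x : G} (hx : orderOf x = 2) : IsConj (tt (S : Subgroup G) e) x := by
  have : Fact (Nat.Prime 2) := ⟨Nat.prime_two⟩
  obtain ⟨g, hg⟩ := exists_conj_mem_sylow S (isPGroup_two_zpowers hx)
  have h1 := hg x (Subgroup.mem_zpowers x)
  have h2 := eq_tt_of_orderOf_two (S : Subgroup G) e h1 (orderOf_conj_two g hx)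
  rw [isConj_iff]
  refine ⟨g⁻¹, ?_⟩
  rw [← h2]; group

omit [Finite G] in
/-- `t` is isolated in `S`. -/
theorem tt_isolated (g : G) (h : g * tt (S : Subgroup G) e * g⁻¹ ∈ S) :
    g * tt (S : Subgroup G) e * g⁻¹ = tt (S : Subgroup G) e :=
  eq_tt_of_orderOf_two (S : Subgroup G) e h (orderOf_conj_two g (orderOf_tt _ e))

include S e in
/-- commuting involutions of `G` are equal. -/
theorem eq_of_commute_of_orderOf_two {x y : G} (hx : orderOf x = 2) (hy : orderOf y = 2)
    (hxy : Commute x y) : x = y :=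
  isolated_eq_of_commute S (tt (S : Subgroup G) e) (orderOf_tt _ e) (tt_isolated S e)
    (isConj_tt_of_orderOf_two S e hx) (isConj_tt_of_orderOf_two S e hy) hxy

include S e in
/-- the product of two involutions of `G` has odd order. -/
theorem odd_orderOf_mul {x y : G} (hx : orderOf x = 2) (hy : orderOf y = 2) :
    Odd (orderOf (x * y)) := by
  by_contra hodd
  rw [Nat.not_odd_iff_even] at hodd
  obtain ⟨m, hm⟩ := hodd
  have hx2 := mul_self_of_orderOf_two hx
  have hy2 := mul_self_of_orderOf_two hy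
  have hmpos : 0 < m := by
    have := orderOf_pos (x * y)
    omega
  set z := (x * y) ^ m with hz
  have hz1 : z ≠ 1 := by
    intro h
    have := orderOf_dvd_of_pow_eq_one h
    rw [hm] at this
    have := Nat.le_of_dvd hmpos this
    omega
  have hzz : z * z = 1 := by
    rw [hz, ← pow_add, ← hm, pow_orderOf_eq_one]
  have hzo : orderOf z = 2 := orderOf_two_of hzz hz1
  have hzinv : z⁻¹ = z := inv_eq_self_of_orderOf_two hzo
  -- `x` inverts `x * y`
  have hxc : x * z * x⁻¹ = z := by
    have h1 : x * (x * y) * x⁻¹ = (x * y)⁻¹ := by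
      have : x⁻¹ = x := inv_eq_of_mul_eq_one_left hx2
      have hy' : y⁻¹ = y := inv_eq_of_mul_eq_one_left hy2
      rw [mul_inv_rev, this, hy', ← mul_assoc, hx2, one_mul]
    have h2 : x * (x * y) ^ m * x⁻¹ = ((x * y)⁻¹) ^ m := by
      rw [← h1, conj_pow]
    rw [hz, h2, inv_pow, ← hz, hzinv]
  have hyc : y * z * y⁻¹ = z := by
    have h1 : y * (x * y) * y⁻¹ = (x * y)⁻¹ := by
      have : x⁻¹ = x := inv_eq_of_mul_eq_one_left hx2
      have hy' : y⁻¹ = y := inv_eq_of_mul_eq_one_left hy2
      rw [mul_inv_rev, this, hy', mul_assoc, mul_assoc, hy2, mul_one]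
    have h2 : y * (x * y) ^ m * y⁻¹ = ((x * y)⁻¹) ^ m := by
      rw [← h1, conj_pow]
    rw [hz, h2, inv_pow, ← hz, hzinv]
  have hxz : Commute x z := by
    unfold Commute SemiconjBy
    calc x * z = x * z * x⁻¹ * x := by group
      _ = z * x := by rw [hxc]
  have hyz : Commute y z := by
    unfold Commute SemiconjBy
    calc y * z = y * z * y⁻¹ * y := by group
      _ = z * y := by rw [hyc]
  have e1 := eq_of_commute_of_orderOf_two S e hx hzo hxz
  have e2 := eq_of_commute_of_orderOf_two S e hy hzo hyz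
  have hxy1 : x * y = 1 := by rw [e1, e2]; exact hzz
  rw [hxy1, orderOf_one] at hm
  omega

end Cfsg.Agent.Lib.Helper4.Q8

namespace Cfsg.Agent.Lib.Helper4.Q8

open QuaternionGroup

variable {G : Type*} [Group G] (S : Subgroup G) (e : S ≃* QuaternionGroup 2)

theorem orderOf_eq_four {s : G} (hs : s ∈ S) (h1 : s ≠ 1) (h2 : s ≠ tt S e) : orderOf s = 4 := by
  have hsq := sq_eq_tt S e hs h1 h2
  have ht := orderOf_tt S e
  have htt : tt S e * tt S e = 1 := mul_self_of_orderOf_two ht
  have := orderOf_eq_prime_pow (x := s) (p := 2) (n := 1) (by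
    rw [pow_one, pow_two, hsq]
    exact ne_one_of_orderOf_two ht) (by
    have : s ^ 2 ^ (1 + 1) = (s * s) * (s * s) := by
      norm_num
      rw [show (4 : ℕ) = 2 + 2 by norm_num, pow_add, pow_two]
    rw [this, hsq, htt])
  simpa using this

theorem tt_mem : tt S e ∈ S := psi_mem S e _

theorem a1_ne_one : psi S e (a 1) ≠ 1 := by
  intro h
  have := orderOf_a1 S e
  rw [h, orderOf_one] at this
  omega

theorem a1_ne_tt : psi S e (a 1) ≠ tt S e := by
  intro h
  have := orderOf_a1 S e
  rw [h, orderOf_tt] at this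
  omega

end Cfsg.Agent.Lib.Helper4.Q8
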