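import Mathlib
import Cfsg.Agent.Lib.Helper4.Q8Basic
import Cfsg.Agent.Lib.Helper52.QuatExc
import Cfsg.Agent.Lib.Helper78.CharMore
import Cfsg.Agent.Lib.Helper78.CharValues
import Cfsg.Agent.Lib.Helper77.Linear
import Cfsg.Agent.Lib.Helper80.CharBasic

/-!
# Congruences for character values on a quaternion Sylow 2-subgroup of order 8 (helper4)
-/

set_option autoImplicit false

namespace Cfsg.Agent.Lib.Helper4.Q8

open QuaternionGroup Cfsg Cfsg.Agent.Lib.Helper78
open scoped ComplexConjugate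

variable {G : Type*} [Group G] [Fintype G] (S : Subgroup G) (e : S ≃* QuaternionGroup 2)

omit [Fintype G] in
/-- the sum of a function over `S`. -/
theorem sum_S (F : G → ℂ) (εa : ℂ) (hF : ∀ s ∈ S, orderOf s = 4 → F s = εa) [Fintype S] :
    ∑ s : S, F s = F 1 + F (tt S e) + 6 * εa := by
  classical
  have h1 : ∑ s : S, F s = ∑ q : QuaternionGroup 2, F (psi S e q) := by
    apply Fintype.sum_equiv e.toEquiv
    intro s
    simp [psi]
  have huniv : (Finset.univ : Finset (QuaternionGroup 2)) =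
      {a 0, a 1, a 2, a 3, xa 0, xa 1, xa 2, xa 3} := by decide
  have h4 : ∀ q : QuaternionGroup 2, q ≠ 1 → q ≠ a 2 → F (psi S e q) = εa := by
    intro q hq1 hq2
    apply hF _ (psi_mem S e q)
    apply orderOf_eq_four S e (psi_mem S e q)
    · intro h
      apply hq1
      rw [← map_one (psi S e)] at h
      exact psi_injective S e h
    · intro h
      exact hq2 (psi_injective S e h)
  rw [h1, huniv]
  rw [Finset.sum_insert (by decide), Finset.sum_insert (by decide), Finset.sum_insert (by decide),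
    Finset.sum_insert (by decide), Finset.sum_insert (by decide), Finset.sum_insert (by decide),
    Finset.sum_insert (by decide), Finset.sum_singleton]
  rw [h4 (a 1) (by decide) (by decide), h4 (a 3) (by decide) (by decide),
    h4 (xa 0) (by decide) (by decide), h4 (xa 1) (by decide) (by decide),
    h4 (xa 2) (by decide) (by decide), h4 (xa 3) (by decide) (by decide)]
  have e0 : psi S e (a 0) = 1 := map_one _
  rw [e0]
  show F 1 + (εa + (F (tt S e) + (εa + (εa + (εa + (εa + εa)))))) = _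
  ring

/-- the congruences. -/
theorem congruences {χ : G → ℂ} (hχ : IsCharacter G χ) (εa : ℤ)
    (hfus : ∀ s ∈ S, orderOf s = 4 → χ s = (εa : ℂ)) :
    ∃ (f : ℕ) (c : ℤ), χ 1 = (f : ℂ) ∧ χ (tt S e) = (c : ℂ) ∧ -(f : ℤ) ≤ c ∧
      (4 : ℤ) ∣ (f : ℤ) - c ∧ (8 : ℤ) ∣ (f : ℤ) + c - 2 * εa := by
  classical
  have : Fintype S := Fintype.ofFinite S
  -- degree
  obtain ⟨f, hf⟩ := IsCharacter.exists_apply_one hχ
  -- restriction to `S`
  have hresS : IsCharacter S (fun s : S => χ s) := Cfsg.Agent.Lib.Helper80.isCharacter_restrict S hχ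
  obtain ⟨n, hn⟩ := IsCharacter.exists_nat_classInner hresS ⟨fun _ => 1, isIrrCharacter_one⟩
  have hcardS : (Nat.card S : ℂ) = 8 := by
    rw [card_S S e]; norm_num
  have hsumS : χ 1 + χ (tt S e) + 6 * (εa : ℂ) = 8 * (n : ℂ) := by
    unfold classInner at hn
    simp only [map_one, mul_one] at hn
    rw [sum_S S e χ (εa : ℂ) hfus, hcardS] at hn
    rw [← hn]; ring
  -- restriction to `⟨a⟩`
  set a₁ : G := psi S e (a 1) with ha₁
  have hao : orderOf a₁ = 4 := orderOf_a1 S e
  set A : Subgroup G := Subgroup.zpowers a₁ with hA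
  have : Fintype A := Fintype.ofFinite A
  have hresA : IsCharacter A (fun s : A => χ s) := Cfsg.Agent.Lib.Helper80.isCharacter_restrict A hχ
  obtain ⟨lam, hlam, -⟩ := Cfsg.Agent.Lib.Helper52.exists_lam (G := G) A ⊥ bot_le
    (by intro c _ k hk; rw [Subgroup.mem_bot] at hk ⊢; rw [hk]; group)
    (by rw [Subgroup.card_bot]; exact odd_one) a₁ (Subgroup.mem_zpowers a₁) 0
    (by rw [hao]; norm_num) (by rw [bot_sup_eq])
  obtain ⟨m, hm⟩ := IsCharacter.exists_nat_classInner hresA
    ⟨_, Cfsg.Agent.Lib.Helper77.isIrrCharacter_of_monoidHom lam⟩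
  have hfin : IsOfFinOrder a₁ := isOfFinOrder_of_finite a₁
  have hlampow : ∀ k : ℕ, ((lam ⟨a₁ ^ k, Subgroup.pow_mem _ (Subgroup.mem_zpowers a₁) k⟩ : ℂˣ) : ℂ)
      = Complex.I ^ k := by
    intro k
    have : (⟨a₁ ^ k, Subgroup.pow_mem _ (Subgroup.mem_zpowers a₁) k⟩ : A) =
        (⟨a₁, Subgroup.mem_zpowers a₁⟩ : A) ^ k := by
      apply Subtype.ext; simp
    rw [this, map_pow, hlam, Units.val_pow_eq_pow_val, Cfsg.Agent.Lib.Helper52.unitI_val]
  have hcardA : (Nat.card A : ℂ) = 4 := by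
    rw [hA, Nat.card_zpowers, hao]; norm_num
  have hsumA : χ 1 - χ (tt S e) = 4 * (m : ℂ) := by
    unfold classInner at hm
    have h1 : ∑ x : A, χ x * conj (((lam x : ℂˣ) : ℂ)) =
        ∑ i : Fin (orderOf a₁), χ (a₁ ^ (i : ℕ)) * conj (Complex.I ^ (i : ℕ)) := by
      symm
      apply Fintype.sum_equiv (finEquivZPowers hfin)
      intro i
      rw [finEquivZPowers_apply]
      simp only
      rw [hlampow]
    rw [h1, Fin.sum_univ_eq_sum_range (fun i => χ (a₁ ^ i) * conj (Complex.I ^ i)) (orderOf a₁),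
      hao, hcardA] at hm
    rw [Finset.sum_range_succ, Finset.sum_range_succ, Finset.sum_range_succ,
      Finset.sum_range_one] at hm
    have e2 : a₁ ^ 2 = tt S e := a1_sq S e
    have e1 : χ (a₁ ^ 1) = (εa : ℂ) := by
      rw [pow_one]; exact hfus _ (psi_mem S e _) hao
    have e3 : χ (a₁ ^ 3) = (εa : ℂ) := by
      apply hfus _ (Subgroup.pow_mem _ (psi_mem S e _) 3)
      rw [orderOf_pow, hao]; norm_num
    rw [pow_zero, e1, e2, e3] at hm
    have hI3 : (Complex.I : ℂ) ^ 3 = -Complex.I := by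
      rw [show (3 : ℕ) = 2 + 1 by norm_num, pow_add, Complex.I_sq]; ring
    rw [pow_zero, pow_one, Complex.I_sq, hI3] at hm
    simp only [map_one, map_neg, Complex.conj_I, mul_one, neg_neg] at hm
    rw [← hm]; ring
  -- conclusions
  rw [hf] at hsumS hsumA
  have hc : χ (tt S e) = (((f : ℤ) - 4 * (m : ℤ) : ℤ) : ℂ) := by
    push_cast
    linear_combination -hsumA
  refine ⟨f, (f : ℤ) - 4 * m, hf, hc, ?_, ?_, ?_⟩
  · -- the bound
    have hb := Cfsg.Agent.Lib.Helper80.norm_char_le hχ (tt S e)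
    have hdeg : (charDegree χ : ℂ) = (f : ℂ) := by
      rw [← IsCharacter.apply_one_eq_charDegree hχ, hf]
    have hdeg' : charDegree χ = f := by exact_mod_cast hdeg
    rw [hc, hdeg'] at hb
    have h2 : ‖(((f : ℤ) - 4 * (m : ℤ) : ℤ) : ℂ)‖ = |(((f : ℤ) - 4 * (m : ℤ) : ℤ) : ℝ)| :=
      Complex.norm_intCast _
    rw [h2] at hb
    have h3 := (abs_le.mp hb).1
    have h4 : (-(f : ℤ) : ℝ) ≤ (((f : ℤ) - 4 * (m : ℤ) : ℤ) : ℝ) := by
      push_cast at h3 ⊢
      linarith
    exact_mod_cast h4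
  · exact ⟨m, by ring⟩
  · rw [hc] at hsumS
    have h5 : ((f : ℤ) + ((f : ℤ) - 4 * m) + 6 * εa : ℤ) = 8 * n := by
      have : (((f : ℤ) + ((f : ℤ) - 4 * m) + 6 * εa : ℤ) : ℂ) = ((8 * n : ℤ) : ℂ) := by
        push_cast
        push_cast at hsumS
        linear_combination hsumS
      exact_mod_cast this
    exact ⟨n - εa, by linarith⟩

end Cfsg.Agent.Lib.Helper4.Q8
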