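import Mathlib
import Cfsg.Agent.Lib.Helper4.Q8Char
import Cfsg.Agent.Lib.Helper52.Q8Theta
import Cfsg.Agent.Lib.Helper52.CyclicInter
import Cfsg.Agent.Lib.Helper46.Q8Fusion
import Cfsg.Agent.Lib.Helper55.Cores2

/-!
# The Brauer–Suzuki theorem for Sylow 2-subgroups `Q₈` (helper4): assembly

With pieces by helper52 (`q8_theta`, `central_of_cyclic_inter`) and helper46 (`q8_fusion`).
-/

set_option autoImplicit false

namespace Cfsg.Agent.Lib.Helper4.Q8

open QuaternionGroup Cfsg Cfsg.Agent.Lib.Helper78

universe u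

section sub

variable {G : Type u} [Group G] (S : Subgroup G) (e : S ≃* QuaternionGroup 2)

include e in
/-- proper subgroups of `S ≅ Q₈` are cyclic. -/
theorem isCyclic_of_ne [Finite G] {H : Subgroup G} (hHS : H ≤ S) (hne : H ≠ S) : IsCyclic H := by
  classical
  by_cases h : ∃ s ∈ H, orderOf s = 4
  · obtain ⟨s, hsH, hs4⟩ := h
    have hcard : Nat.card H = 4 := by
      have h1 : Nat.card H ∣ 8 := by
        rw [← card_S S e]
        exact Subgroup.card_dvd_of_le hHS
      have h2 : 4 ∣ Nat.card H := by
        have := orderOf_dvd_natCard (⟨s, hsH⟩ : H)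
        rwa [Subgroup.orderOf_mk, hs4] at this
      have h3 : Nat.card H ≠ 8 := by
        intro h8
        apply hne
        apply Subgroup.eq_of_le_of_card_ge hHS
        rw [h8, card_S S e]
      have h4 : Nat.card H ∈ Nat.divisors 8 := Nat.mem_divisors.mpr ⟨h1, by norm_num⟩
      have h5 : Nat.divisors 8 = {1, 2, 4, 8} := by decide
      rw [h5] at h4
      simp only [Finset.mem_insert, Finset.mem_singleton] at h4
      omega
    apply isCyclic_of_orderOf_eq_card (⟨s, hsH⟩ : H)
    rw [Subgroup.orderOf_mk, hs4, hcard]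
  · push Not at h
    have hsub : H ≤ Subgroup.zpowers (tt S e) := by
      intro x hx
      by_cases h1 : x = 1
      · rw [h1]; exact one_mem _
      by_cases h2 : x = tt S e
      · rw [h2]; exact Subgroup.mem_zpowers _
      exact absurd (orderOf_eq_four S e (hHS hx) h1 h2) (h x hx)
    exact Subgroup.isCyclic_of_le hsub

include e in
/-- `S` is not abelian. -/
theorem not_comm : ¬ ∀ x ∈ S, ∀ y ∈ S, x * y = y * x := by
  intro h
  have h1 := h _ (psi_mem S e (a 1)) _ (psi_mem S e (xa 0))
  rw [← map_mul, ← map_mul] at h1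
  have h2 := psi_injective S e h1
  revert h2
  decide

/-- the central elements of `S` are `1` and `t`. -/
theorem eq_one_or_tt_of_central {s : G} (hs : s ∈ S) (hc : ∀ x ∈ S, x * s = s * x) :
    s = 1 ∨ s = tt S e := by
  obtain ⟨q, rfl⟩ := exists_psi_eq S e hs
  have h1 : ∀ q' : QuaternionGroup 2, q' * q = q * q' := by
    intro q'
    have := hc _ (psi_mem S e q')
    rw [← map_mul, ← map_mul] at this
    exact psi_injective S e this
  have h2 : ∀ q : QuaternionGroup 2, (∀ q' : QuaternionGroup 2, q' * q = q * q') →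
      q = 1 ∨ q = a 2 := by decide
  rcases h2 q h1 with rfl | rfl
  · left; exact map_one _
  · right; rfl

end sub

section main

variable {G : Type u} [Group G] [Finite G] (S : Sylow 2 G)
  (e : (S : Subgroup G) ≃* QuaternionGroup 2)

theorem central_of_not_le (N : Subgroup G) [N.Normal]
    (hO : ∀ K : Subgroup G, K.Normal → Odd (Nat.card K) → K = ⊥)
    (htN : tt (S : Subgroup G) e ∈ N) (hS : ¬ (S : Subgroup G) ≤ N) :
    tt (S : Subgroup G) e ∈ Subgroup.center G := by
  apply Cfsg.Agent.Lib.Helper52.central_of_cyclic_inter S N hO _ _ (orderOf_tt _ e) htN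
  apply isCyclic_of_ne (S : Subgroup G) e inf_le_left
  intro h
  apply hS
  rw [← h]; exact inf_le_right

theorem hO_of_normal (hO : ∀ K : Subgroup G, K.Normal → Odd (Nat.card K) → K = ⊥)
    (N : Subgroup G) [N.Normal] :
    ∀ K : Subgroup N, K.Normal → Odd (Nat.card K) → K = ⊥ := by
  intro K hK hodd
  have h1 : pPrimeCore 2 G = ⊥ := by
    apply hO _ (Cfsg.Agent.Lib.Helper55.pPrimeCore_normal' 2)
    exact Nat.Coprime.odd_of_right (Cfsg.Agent.Lib.Helper55.card_pPrimeCore_coprime (G := G) 2)
  have h2 := Cfsg.Agent.Lib.Helper55.pPrimeCore_eq_bot_of_normal 2 N h1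
  have h3 : K ≤ pPrimeCore 2 N :=
    Cfsg.Agent.Lib.Helper55.le_pPrimeCore hK (Nat.coprime_two_right.mpr hodd)
  rw [h2] at h3
  exact le_bot_iff.mp h3

theorem central_of_central_in_normal
    (hO : ∀ K : Subgroup G, K.Normal → Odd (Nat.card K) → K = ⊥)
    (N : Subgroup G) [N.Normal] (htN : tt (S : Subgroup G) e ∈ N)
    (hc : (⟨tt (S : Subgroup G) e, htN⟩ : N) ∈ Subgroup.center N) :
    tt (S : Subgroup G) e ∈ Subgroup.center G := by
  have hchar : (Subgroup.center N).Characteristic := inferInstance
  have hn : ((Subgroup.center N).map N.subtype).Normal :=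
    ConjAct.normal_of_characteristic_of_normal
  apply central_of_not_le S e ((Subgroup.center N).map N.subtype) hO
  · exact Subgroup.mem_map.mpr ⟨⟨tt (S : Subgroup G) e, htN⟩, hc, rfl⟩
  · intro hle
    apply not_comm (S : Subgroup G) e
    intro x hx y hy
    obtain ⟨x', hx', rfl⟩ := Subgroup.mem_map.mp (hle hx)
    obtain ⟨y', hy', rfl⟩ := Subgroup.mem_map.mp (hle hy)
    have h1 := Subgroup.mem_center_iff.mp hx' y'
    have h2 := congrArg (fun z : N => (z : G)) h1
    simp only [Subgroup.coe_mul] at h2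
    simp only [Subgroup.coe_subtype]
    exact h2.symm

theorem exists_proper_normal :
    ∃ N : Subgroup G, N.Normal ∧ N ≠ ⊤ ∧ tt (S : Subgroup G) e ∈ N := by
  classical
  by_cases hidx : ∃ M : Subgroup G, M.Normal ∧ M.index = 2
  · obtain ⟨M, hMn, hM2⟩ := hidx
    refine ⟨M, hMn, ?_, ?_⟩
    · rintro rfl
      simp at hM2
    · rw [← a1_sq]
      exact Subgroup.sq_mem_of_index_two hM2 _
  · push Not at hidx
    have hfus := Cfsg.Agent.Lib.Helper46.q8_fusion S e hidx
    let _ := Fintype.ofFinite G
    obtain ⟨Θ, hcf, hint, hΘ1, htriv, hnorm, hsupp, hconst, hreg, -⟩ :=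
      Cfsg.Agent.Lib.Helper52.q8_theta S e
    obtain ⟨χ, hχ1, hχt⟩ :=
      exists_irr_tt_mem_ker S e Θ hcf hint hΘ1 htriv hnorm hsupp hconst hreg hfus
    refine ⟨Cfsg.Agent.Lib.Helper77.irrKer χ, inferInstance, ?_, ?_⟩
    · intro htop
      have hall : ∀ g, (χ : G → ℂ) g = (χ : G → ℂ) 1 := fun g =>
        (Cfsg.Agent.Lib.Helper77.mem_irrKer χ g).mp (by rw [htop]; trivial)
      have h1 := classInner_irr χ.2 (isIrrCharacter_one (G := G))
      rw [if_neg hχ1] at h1
      unfold classInner at h1
      have h2 : ∑ g : G, (χ : G → ℂ) g * (starRingEnd ℂ) ((fun _ : G => (1 : ℂ)) g) =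
          (Nat.card G : ℂ) * (χ : G → ℂ) 1 := by
        simp only [map_one, mul_one, hall]
        rw [Finset.sum_const, Finset.card_univ, nsmul_eq_mul, Nat.card_eq_fintype_card]
      rw [h2] at h1
      have hG : (Nat.card G : ℂ) ≠ 0 := by exact_mod_cast Nat.card_pos.ne'
      rw [← mul_assoc, inv_mul_cancel₀ hG, one_mul] at h1
      obtain ⟨d, hd, hd'⟩ := Cfsg.Agent.Lib.Helper52.irr_degree_pos χ
      rw [h1] at hd'
      have : (d : ℂ) ≠ 0 := by exact_mod_cast hd.ne'
      exact this hd'.symm
    · exact (Cfsg.Agent.Lib.Helper77.mem_irrKer χ _).mpr hχt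

end main

/-- the main induction. -/
theorem tt_mem_center_aux : ∀ (n : ℕ) (G : Type u) [Group G] [Finite G] (S : Sylow 2 G)
    (e : (S : Subgroup G) ≃* QuaternionGroup 2),
    (∀ K : Subgroup G, K.Normal → Odd (Nat.card K) → K = ⊥) → Nat.card G = n →
    tt (S : Subgroup G) e ∈ Subgroup.center G := by
  intro n
  induction n using Nat.strong_induction_on with
  | _ n ih =>
    intro G _ _ S e hO hn
    obtain ⟨N, hNn, hNtop, htN⟩ := exists_proper_normal S e
    have := hNn
    by_cases hS : (S : Subgroup G) ≤ N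
    · -- induction on `N`
      have hlt : Nat.card N < n := by
        rw [← hn]
        apply lt_of_le_of_ne (Subgroup.card_le_card_group N)
        intro h
        exact hNtop ((Subgroup.card_eq_iff_eq_top N).mp h)
      set S' : Sylow 2 N := S.subtype hS with hS'
      have hcoe : (S' : Subgroup N) = (S : Subgroup G).subgroupOf N := rfl
      let e' : (S' : Subgroup N) ≃* QuaternionGroup 2 :=
        (MulEquiv.subgroupCongr hcoe).trans ((Subgroup.subgroupOfEquivOfLe hS).trans e)
      have hIH := ih (Nat.card N) hlt N S' e' (hO_of_normal hO N) rfl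
      apply central_of_central_in_normal S e hO N htN
      have heq : tt (S' : Subgroup N) e' = ⟨tt (S : Subgroup G) e, htN⟩ := by
        apply Subtype.ext
        have h2 : orderOf ((tt (S' : Subgroup N) e' : N) : G) = 2 := by
          rw [Subgroup.orderOf_coe]
          exact orderOf_tt _ e'
        have h3 : ((tt (S' : Subgroup N) e' : N) : G) ∈ (S : Subgroup G) := by
          have h4 : tt (S' : Subgroup N) e' ∈ (S : Subgroup G).subgroupOf N :=
            tt_mem (S' : Subgroup N) e'
          exact Subgroup.mem_subgroupOf.mp h4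
        exact eq_tt_of_orderOf_two (S : Subgroup G) e h3 h2
      rw [← heq]
      exact hIH
    · exact central_of_not_le S e N hO htN hS

section final

variable {G : Type u} [Group G] [Finite G] (S : Sylow 2 G)
  (e : (S : Subgroup G) ≃* QuaternionGroup 2)

theorem tt_mem_center (hO : ∀ K : Subgroup G, K.Normal → Odd (Nat.card K) → K = ⊥) :
    tt (S : Subgroup G) e ∈ Subgroup.center G :=
  tt_mem_center_aux (Nat.card G) G S e hO rfl

theorem center_eq_zpowers (hO : ∀ K : Subgroup G, K.Normal → Odd (Nat.card K) → K = ⊥) :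
    Subgroup.center G = Subgroup.zpowers (tt (S : Subgroup G) e) := by
  have : Fact (Nat.Prime 2) := ⟨Nat.prime_two⟩
  apply le_antisymm
  · intro z hz
    have hzc : ∀ g : G, g * z = z * g := fun g => Subgroup.mem_center_iff.mp hz g
    -- `z` is a 2-element
    have hord : orderOf z ≠ 0 := (orderOf_pos z).ne'
    obtain ⟨k, m, hm, hkm⟩ := Nat.exists_eq_two_pow_mul_odd hord
    set w := z ^ (2 ^ k) with hw
    have hwc : ∀ g : G, g * w = w * g := by
      intro g
      have : w ∈ Subgroup.center G := Subgroup.pow_mem _ hz _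
      exact Subgroup.mem_center_iff.mp this g
    have hwo : orderOf w = m := by
      rw [hw, orderOf_pow_of_dvd (by positivity) (by rw [hkm]; exact dvd_mul_right _ _), hkm,
        Nat.mul_div_cancel_left _ (by positivity)]
    have hnorm : (Subgroup.zpowers w).Normal := by
      constructor
      intro x hx g
      have hxc : g * x = x * g := by
        obtain ⟨i, rfl⟩ := Subgroup.mem_zpowers_iff.mp hx
        have : w ^ i ∈ Subgroup.center G :=
          Subgroup.zpow_mem _ (Subgroup.mem_center_iff.mpr hwc) _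
        exact Subgroup.mem_center_iff.mp this g
      rw [hxc, mul_assoc, mul_inv_cancel, mul_one]
      exact hx
    have hbot := hO _ hnorm (by rw [Nat.card_zpowers, hwo]; exact hm)
    have hw1 : w = 1 := by
      have : w ∈ Subgroup.zpowers w := Subgroup.mem_zpowers w
      rw [hbot] at this
      exact Subgroup.mem_bot.mp this
    have hp : IsPGroup 2 (Subgroup.zpowers z) := by
      rw [IsPGroup.iff_card, Nat.card_zpowers]
      have h1 : orderOf z ∣ 2 ^ k := orderOf_dvd_of_pow_eq_one hw1
      obtain ⟨j, -, hj⟩ := (Nat.dvd_prime_pow Nat.prime_two).mp h1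
      exact ⟨j, hj⟩
    obtain ⟨g, hg⟩ := exists_conj_mem_sylow S hp
    have h1 := hg z (Subgroup.mem_zpowers z)
    have h2 : g * z * g⁻¹ = z := by
      rw [hzc g, mul_assoc, mul_inv_cancel, mul_one]
    rw [h2] at h1
    rcases eq_one_or_tt_of_central (S : Subgroup G) e h1 (fun x _ => hzc x) with h | h
    · rw [h]; exact one_mem _
    · rw [h]; exact Subgroup.mem_zpowers _
  · rw [Subgroup.zpowers_le]
    exact tt_mem_center S e hO

include S e in
theorem card_center (hO : ∀ K : Subgroup G, K.Normal → Odd (Nat.card K) → K = ⊥) :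
    Nat.card (Subgroup.center G) = 2 := by
  rw [center_eq_zpowers S e hO, Nat.card_zpowers, orderOf_tt]

end final

end Cfsg.Agent.Lib.Helper4.Q8
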