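import Mathlib
import Cfsg.Prelude.Def_Characters
import Cfsg.Agent.Lib.Helper25.CharBasic

/-!
# PF section 10: abstract inner-product bookkeeping (helper4)

Pure linear algebra with `Cfsg.classInner` on functions `G → ℂ`: Bessel's inequality for a finite
orthonormal family, and the two "norm count" lemmas behind Peterfalvi (10.7)/(10.8):

* `bridge0_abs` : the bridge `Φ = ∑ᵢ E i j₀ - χ`;
* `texp_abs`    : the expansion of `X = Ind (νᵢ - ξ)`.

No group theory is used; `E i j` plays the role of the cyclic TI family `η_{ij}`.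
-/

set_option autoImplicit false

namespace Cfsg.Agent.Lib.Helper4.PFTen

open Cfsg Cfsg.Agent.Lib.Helper25

variable {G : Type*} [Group G] [Fintype G]

theorem classInner_self_eq (f : G → ℂ) :
    classInner f f = (((Nat.card G : ℝ)⁻¹ * ∑ g, ‖f g‖ ^ 2 : ℝ) : ℂ) := by
  unfold classInner
  push_cast
  congr 1
  apply Finset.sum_congr rfl
  intro g _
  rw [Complex.mul_conj, Complex.normSq_eq_norm_sq]
  push_cast
  rfl

theorem classInner_self_re_nonneg (f : G → ℂ) : 0 ≤ (classInner f f).re := by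
  rw [classInner_self_eq, Complex.ofReal_re]
  positivity

theorem classInner_self_im (f : G → ℂ) : (classInner f f).im = 0 := by
  rw [classInner_self_eq, Complex.ofReal_im]

theorem eq_zero_of_classInner_self (f : G → ℂ) (h : classInner f f = 0) : f = 0 := by
  rw [classInner_self_eq] at h
  have h' : (Nat.card G : ℝ)⁻¹ * ∑ g, ‖f g‖ ^ 2 = 0 := by exact_mod_cast h
  have hcard : (0 : ℝ) < (Nat.card G : ℝ)⁻¹ := by
    have : 0 < Nat.card G := Nat.card_pos
    positivity
  have hsum : ∑ g, ‖f g‖ ^ 2 = 0 := by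
    rcases mul_eq_zero.mp h' with h1 | h1
    · exact absurd h1 hcard.ne'
    · exact h1
  funext g
  have hg := (Finset.sum_eq_zero_iff_of_nonneg (fun g _ => by positivity)).mp hsum g (Finset.mem_univ g)
  have : ‖f g‖ = 0 := by
    have := pow_eq_zero_iff (two_ne_zero) |>.mp hg
    exact this
  simpa using this

/-- Bessel's inequality for a finite orthonormal family. -/
theorem bessel {α : Type*} [Fintype α] [DecidableEq α] (e : α → G → ℂ)
    (he : ∀ a b, classInner (e a) (e b) = if a = b then 1 else 0) (Φ : G → ℂ) :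
    ∑ a, ‖classInner Φ (e a)‖ ^ 2 ≤ (classInner Φ Φ).re := by
  set c : α → ℂ := fun a => classInner Φ (e a) with hc
  set r : G → ℂ := Φ - ∑ a, c a • e a with hr
  have h0 := classInner_self_re_nonneg r
  have key : classInner r r = classInner Φ Φ - ((∑ a, ‖c a‖ ^ 2 : ℝ) : ℂ) := by
    have h1 : classInner Φ (∑ a, c a • e a) = ((∑ a, ‖c a‖ ^ 2 : ℝ) : ℂ) := by
      rw [classInner_sum_right]
      push_cast
      apply Finset.sum_congr rfl
      intro a _
      rw [classInner_smul_right]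
      exact Complex.conj_mul' (c a)
    have h2 : classInner (∑ a, c a • e a) Φ = ((∑ a, ‖c a‖ ^ 2 : ℝ) : ℂ) := by
      rw [← classInner_conj_symm, h1]
      simp
    have h3 : classInner (∑ a, c a • e a) (∑ a, c a • e a) = ((∑ a, ‖c a‖ ^ 2 : ℝ) : ℂ) := by
      rw [classInner_sum_left]
      push_cast
      apply Finset.sum_congr rfl
      intro a _
      rw [classInner_smul_left, classInner_sum_right]
      rw [Finset.sum_eq_single a]
      · rw [classInner_smul_right, he a a, if_pos rfl, mul_one]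
        exact Complex.mul_conj' (c a)
      · intro b _ hba
        rw [classInner_smul_right, he a b, if_neg (Ne.symm hba), mul_zero]
      · intro h; exact absurd (Finset.mem_univ a) h
    rw [hr, classInner_sub_left, classInner_sub_right, classInner_sub_right, h1, h2, h3]
    ring
  rw [key] at h0
  rw [Complex.sub_re, Complex.ofReal_re] at h0
  linarith

/-- sum over a finite type with a base point, when the function is constant off the base point -/
theorem sum_base_const {ι : Type*} [Fintype ι] [DecidableEq ι] (i₀ : ι) (f : ι → ℤ) (s : ℤ)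
    (hf : ∀ i, i ≠ i₀ → f i = s) : ∑ i, f i = f i₀ + ((Fintype.card ι : ℤ) - 1) * s := by
  rw [← Finset.add_sum_erase Finset.univ f (Finset.mem_univ i₀)]
  congr 1
  rw [Finset.sum_congr rfl (fun i hi => hf i (Finset.ne_of_mem_erase hi)), Finset.sum_const,
    Finset.card_erase_of_mem (Finset.mem_univ i₀), Finset.card_univ, nsmul_eq_mul]
  have : 1 ≤ Fintype.card ι := Fintype.card_pos_iff.mpr ⟨i₀⟩
  push_cast [Nat.cast_sub this]
  ring

/-- **Abstract form of the bridge (A1)**: `Φ = ∑ᵢ E i j₀ - χ`. -/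
theorem bridge0_abs {ι κ : Type*} [Fintype ι] [Fintype κ] [DecidableEq ι] [DecidableEq κ]
    (i₀ : ι) (j₀ : κ) (hκ : ∃ j, j ≠ j₀) (q : ℕ) (hq : Fintype.card ι = q) (hq3 : 3 ≤ q)
    (E : ι → κ → G → ℂ)
    (hE : ∀ i j i' j', classInner (E i j) (E i' j') = if i = i' ∧ j = j' then 1 else 0)
    (Φ χ : G → ℂ) (hΦ : classInner Φ Φ = (q : ℂ) + 1)
    (hχ : classInner χ χ = 1) (hΦχ : classInner Φ χ = -1)
    (hχE : ∀ i j, classInner χ (E i j) = 0)
    (c : ι → κ → ℤ) (hc : ∀ i j, classInner Φ (E i j) = c i j)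
    (h00 : c i₀ j₀ = 1)
    (hrect : ∀ i j, c i j = c i j₀ + c i₀ j - 1)
    (hcol : ∀ j, j ≠ j₀ → ∑ i, c i j = 0)
    (hsym : ∀ i i', i ≠ i₀ → i' ≠ i₀ → c i j₀ = c i' j₀) :
    Φ = (∑ i, E i j₀) - χ := by
  classical
  -- the orthonormal family `E ∪ {χ}`
  let e : Option (ι × κ) → G → ℂ := fun o => o.elim χ (fun x => E x.1 x.2)
  have he : ∀ a b, classInner (e a) (e b) = if a = b then 1 else 0 := by
    intro a b
    cases a with
    | none =>
      cases b with
      | none => simpa [e] using hχ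
      | some y => simpa [e] using hχE y.1 y.2
    | some x =>
      cases b with
      | none =>
        have := classInner_eq_zero_symm (hχE x.1 x.2)
        simpa [e] using this
      | some y =>
        have := hE x.1 x.2 y.1 y.2
        simp only [e, Option.elim_some, this, Option.some.injEq]
        by_cases h : x = y
        · subst h; simp
        · have : ¬ (x.1 = y.1 ∧ x.2 = y.2) := fun h' => h (Prod.ext h'.1 h'.2)
          simp [h, this]
  have hB := bessel e he Φ
  rw [hΦ] at hB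
  have hre : ((q : ℂ) + 1).re = (q : ℝ) + 1 := by simp
  rw [hre, Fintype.sum_option] at hB
  simp only [e, Option.elim_none, Option.elim_some, hΦχ, norm_neg, norm_one, one_pow] at hB
  -- so `∑_{i,j} c i j ^ 2 ≤ q`
  have hB2 : ∑ x : ι × κ, ((c x.1 x.2 : ℤ) : ℝ) ^ 2 ≤ q := by
    have h1 : ∑ x : ι × κ, ‖classInner Φ (E x.1 x.2)‖ ^ 2 = ∑ x : ι × κ, ((c x.1 x.2 : ℤ) : ℝ) ^ 2 := by
      apply Finset.sum_congr rfl
      intro x _
      rw [hc x.1 x.2]
      have : ‖((c x.1 x.2 : ℤ) : ℂ)‖ = |((c x.1 x.2 : ℤ) : ℝ)| := by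
        rw [← Complex.ofReal_intCast, Complex.norm_real, Real.norm_eq_abs]
      rw [this, sq_abs]
    rw [h1] at hB
    linarith
  -- pick `i₁ ≠ i₀`
  have hcard2 : 1 < Fintype.card ι := by omega
  obtain ⟨i₁, hi₁⟩ := Fintype.exists_ne_of_one_lt_card hcard2 i₀
  set s : ℤ := c i₁ j₀ with hs
  have hsall : ∀ i, i ≠ i₀ → c i j₀ = s := fun i hi => hsym i i₁ hi hi₁
  -- bound `s ^ 2 ≤ 1`
  have hs2 : ((q : ℝ) - 1) * (s : ℝ) ^ 2 + 1 ≤ q := by
    have hsub : ∑ i : ι, ((c i j₀ : ℤ) : ℝ) ^ 2 ≤ ∑ x : ι × κ, ((c x.1 x.2 : ℤ) : ℝ) ^ 2 := by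
      have : ∑ i : ι, ((c i j₀ : ℤ) : ℝ) ^ 2 =
          ∑ x ∈ (Finset.univ : Finset ι).map ⟨fun i => (i, j₀), fun a b h => by simpa using h⟩,
            ((c x.1 x.2 : ℤ) : ℝ) ^ 2 := by
        rw [Finset.sum_map]
        rfl
      rw [this]
      apply Finset.sum_le_sum_of_subset_of_nonneg (Finset.subset_univ _)
      intro x _ _
      positivity
    have hrow : ∑ i : ι, ((c i j₀ : ℤ) : ℝ) ^ 2 = 1 + ((q : ℝ) - 1) * (s : ℝ) ^ 2 := by
      rw [← Finset.add_sum_erase Finset.univ _ (Finset.mem_univ i₀), h00]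
      congr 1
      · norm_num
      · rw [Finset.sum_congr rfl (fun i hi => by rw [hsall i (Finset.ne_of_mem_erase hi)]),
          Finset.sum_const, Finset.card_erase_of_mem (Finset.mem_univ i₀), Finset.card_univ, hq,
          nsmul_eq_mul]
        have : 1 ≤ q := by omega
        push_cast [Nat.cast_sub this]
        ring
    linarith
  have hq1 : (0 : ℝ) < (q : ℝ) - 1 := by
    have : (3 : ℝ) ≤ q := by exact_mod_cast hq3
    linarith
  have hs2' : (s : ℝ) ^ 2 ≤ 1 := by
    by_contra hcon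
    push Not at hcon
    have : ((q : ℝ) - 1) * 1 < ((q : ℝ) - 1) * (s : ℝ) ^ 2 := by
      apply mul_lt_mul_of_pos_left hcon hq1
    linarith
  have hs2'' : s ^ 2 ≤ 1 := by exact_mod_cast hs2'
  have hq3' : (3 : ℤ) ≤ q := by exact_mod_cast hq3
  -- the column relation for `j ≠ j₀`: `q * c i₀ j = (q - 1) * (1 - s)`
  have hcolrel : ∀ j, j ≠ j₀ → (q : ℤ) * c i₀ j = ((q : ℤ) - 1) * (1 - s) := by
    intro j hj
    have hcolj := hcol j hj
    have hconst : ∀ i, i ≠ i₀ → c i j = s + c i₀ j - 1 := by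
      intro i hi
      rw [hrect i j, hsall i hi]
    rw [sum_base_const i₀ (fun i => c i j) (s + c i₀ j - 1) hconst, hq] at hcolj
    linarith
  have hs1 : s = 1 := by
    obtain ⟨j₁, hj₁⟩ := hκ
    have hrel := hcolrel j₁ hj₁
    have hdiv : (q : ℤ) ∣ 1 - s := ⟨1 - s - c i₀ j₁, by linarith⟩
    have hsabs : -1 ≤ s ∧ s ≤ 1 := by
      constructor <;> nlinarith
    obtain ⟨k, hk⟩ := hdiv
    have : k = 0 := by
      by_contra hk0
      rcases lt_or_gt_of_ne hk0 with h | h
      · have : (q : ℤ) * k ≤ (q : ℤ) * (-1) := by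
          apply mul_le_mul_of_nonneg_left (by omega) (by omega)
        omega
      · have : (q : ℤ) * 1 ≤ (q : ℤ) * k := by
          apply mul_le_mul_of_nonneg_left (by omega) (by omega)
        omega
    rw [this, mul_zero] at hk
    omega
  have hcj0 : ∀ i, c i j₀ = 1 := by
    intro i
    by_cases hi : i = i₀
    · rw [hi, h00]
    · rw [hsall i hi, hs1]
  -- now compute `‖Φ - T‖² = 0`
  obtain ⟨T, hT⟩ : ∃ T : G → ℂ, T = (∑ i, E i j₀) - χ := ⟨_, rfl⟩
  have hΦE : classInner Φ (∑ i, E i j₀) = (q : ℂ) := by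
    rw [classInner_sum_right]
    rw [Finset.sum_congr rfl (fun i _ => by rw [hc i j₀, hcj0 i])]
    simp [hq]
  have hΦT : classInner Φ T = (q : ℂ) + 1 := by
    rw [hT, classInner_sub_right, hΦE, hΦχ]
    ring
  have hTΦ : classInner T Φ = (q : ℂ) + 1 := by
    rw [← classInner_conj_symm, hΦT]
    simp
  have hEE : classInner (∑ i, E i j₀) (∑ i, E i j₀) = (q : ℂ) := by
    rw [classInner_sum_left]
    have : ∀ i ∈ (Finset.univ : Finset ι), classInner (E i j₀) (∑ i', E i' j₀) = 1 := by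
      intro i _
      rw [classInner_sum_right, Finset.sum_eq_single i]
      · rw [hE]; simp
      · intro b _ hb
        rw [hE]
        simp [Ne.symm hb]
      · intro h; exact absurd (Finset.mem_univ i) h
    rw [Finset.sum_congr rfl this]
    simp [hq]
  have hχS : classInner χ (∑ i, E i j₀) = 0 := by
    rw [classInner_sum_right]
    exact Finset.sum_eq_zero (fun i _ => hχE i j₀)
  have hSχ : classInner (∑ i, E i j₀) χ = 0 := classInner_eq_zero_symm hχS
  have hTT : classInner T T = (q : ℂ) + 1 := by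
    rw [hT, classInner_sub_left, classInner_sub_right, classInner_sub_right, hEE, hSχ, hχS, hχ]
    ring
  have hzero : classInner (Φ - T) (Φ - T) = 0 := by
    rw [classInner_sub_left, classInner_sub_right, classInner_sub_right, hΦ, hΦT, hTΦ, hTT]
    ring
  have := eq_zero_of_classInner_self _ hzero
  rw [← hT]
  exact sub_eq_zero.mp this

/-- Bessel for the family `E ∪ {χ}` with integer coefficients, as an inequality in `ℤ`. -/
theorem bessel_int_family {ι κ : Type*} [Fintype ι] [Fintype κ] [DecidableEq ι] [DecidableEq κ]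
    (E : ι → κ → G → ℂ)
    (hE : ∀ i j i' j', classInner (E i j) (E i' j') = if i = i' ∧ j = j' then 1 else 0)
    (χ : G → ℂ) (hχ : classInner χ χ = 1) (hχE : ∀ i j, classInner χ (E i j) = 0)
    (X : G → ℂ) (N : ℤ) (hX : classInner X X = (N : ℂ))
    (a : ι → κ → ℤ) (ha : ∀ k l, classInner X (E k l) = a k l)
    (m : ℤ) (hm : classInner X χ = m) :
    ∑ k, ∑ l, a k l ^ 2 + m ^ 2 ≤ N := by
  classical
  let e : Option (ι × κ) → G → ℂ := fun o => o.elim χ (fun x => E x.1 x.2)
  have he : ∀ a b, classInner (e a) (e b) = if a = b then 1 else 0 := by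
    intro a b
    cases a with
    | none =>
      cases b with
      | none => simpa [e] using hχ
      | some y => simpa [e] using hχE y.1 y.2
    | some x =>
      cases b with
      | none =>
        have := classInner_eq_zero_symm (hχE x.1 x.2)
        simpa [e] using this
      | some y =>
        have := hE x.1 x.2 y.1 y.2
        simp only [e, Option.elim_some, this, Option.some.injEq]
        by_cases h : x = y
        · subst h; simp
        · have : ¬ (x.1 = y.1 ∧ x.2 = y.2) := fun h' => h (Prod.ext h'.1 h'.2)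
          simp [h, this]
  have hB := bessel e he X
  rw [hX, Fintype.sum_option] at hB
  simp only [e, Option.elim_none, Option.elim_some, hm] at hB
  have hnorm : ∀ z : ℤ, ‖((z : ℤ) : ℂ)‖ ^ 2 = ((z ^ 2 : ℤ) : ℝ) := by
    intro z
    have : ‖((z : ℤ) : ℂ)‖ = |((z : ℤ) : ℝ)| := by
      rw [← Complex.ofReal_intCast, Complex.norm_real, Real.norm_eq_abs]
    rw [this, sq_abs]
    push_cast
    ring
  have h1 : ∑ x : ι × κ, ‖classInner X (E x.1 x.2)‖ ^ 2 = ((∑ k, ∑ l, a k l ^ 2 : ℤ) : ℝ) := by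
    rw [Fintype.sum_prod_type]
    push_cast
    apply Finset.sum_congr rfl
    intro k _
    apply Finset.sum_congr rfl
    intro l _
    rw [ha k l, hnorm]
    push_cast
    ring
  rw [h1, hnorm] at hB
  have hre : ((N : ℤ) : ℂ).re = ((N : ℤ) : ℝ) := by simp
  rw [hre] at hB
  have : (((∑ k, ∑ l, a k l ^ 2) + m ^ 2 : ℤ) : ℝ) ≤ ((N : ℤ) : ℝ) := by
    push_cast
    push_cast at hB
    linarith
  exact_mod_cast this


/-- two functions with `⟨Φ,Φ⟩ = ⟨Φ,T⟩ = ⟨T,T⟩ = N` (a real number) are equal -/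
theorem eq_of_inner_eq {Φ T : G → ℂ} (N : ℝ) (h1 : classInner Φ Φ = (N : ℂ))
    (h2 : classInner Φ T = (N : ℂ)) (h3 : classInner T T = (N : ℂ)) : Φ = T := by
  have h2' : classInner T Φ = (N : ℂ) := by
    rw [← classInner_conj_symm, h2]
    simp
  have hzero : classInner (Φ - T) (Φ - T) = 0 := by
    rw [classInner_sub_left, classInner_sub_right, classInner_sub_right, h1, h2, h2', h3]
    ring
  exact sub_eq_zero.mp (eq_zero_of_classInner_self _ hzero)

section rows

variable {ι κ : Type*} [Fintype ι] [Fintype κ] [DecidableEq ι] [DecidableEq κ]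
  (E : ι → κ → G → ℂ)

/-- the row sum `R k = ∑ₗ E k l` -/
noncomputable def rowSum (k : ι) : G → ℂ := ∑ l, E k l

/-- the column sum `C j = ∑ᵢ E i j` -/
noncomputable def colSum (j : κ) : G → ℂ := ∑ i, E i j

variable {E}
variable (hE : ∀ i j i' j', classInner (E i j) (E i' j') = if i = i' ∧ j = j' then 1 else 0)
include hE

omit [Fintype ι] in
theorem classInner_E_rowSum (k k' : ι) (l : κ) :
    classInner (E k l) (rowSum E k') = if k = k' then 1 else 0 := by
  unfold rowSum
  rw [classInner_sum_right]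
  by_cases h : k = k'
  · subst h
    rw [Finset.sum_eq_single l]
    · rw [hE]; simp
    · intro b _ hb
      rw [hE]; simp [Ne.symm hb]
    · intro h; exact absurd (Finset.mem_univ l) h
  · rw [if_neg h]
    apply Finset.sum_eq_zero
    intro b _
    rw [hE]; simp [h]

theorem classInner_rowSum_rowSum (k k' : ι) :
    classInner (rowSum E k) (rowSum E k') = if k = k' then (Fintype.card κ : ℂ) else 0 := by
  have : classInner (rowSum E k) (rowSum E k') = ∑ l : κ, classInner (E k l) (rowSum E k') := by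
    unfold rowSum
    exact classInner_sum_left _ _ _
  rw [this, Finset.sum_congr rfl (fun l _ => classInner_E_rowSum hE k k' l)]
  by_cases h : k = k'
  · simp [h]
  · simp [h]

end rows

/-- **Parity form of the bridge (A1)**: no symmetry between the `c i j₀` is assumed, only that their
sum over `i ≠ i₀` is even (Galois conjugation by `-1` on the characters of the cyclic group `W₁` of
odd order). -/
theorem bridge0_abs_par {ι κ : Type*} [Fintype ι] [Fintype κ] [DecidableEq ι] [DecidableEq κ]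
    (i₀ : ι) (j₀ : κ) (hκ : ∃ j, j ≠ j₀) (q : ℕ) (hq : Fintype.card ι = q)
    (E : ι → κ → G → ℂ)
    (hE : ∀ i j i' j', classInner (E i j) (E i' j') = if i = i' ∧ j = j' then 1 else 0)
    (Φ χ : G → ℂ) (hΦ : classInner Φ Φ = (q : ℂ) + 1)
    (hχ : classInner χ χ = 1) (hΦχ : classInner Φ χ = -1)
    (hχE : ∀ i j, classInner χ (E i j) = 0)
    (c : ι → κ → ℤ) (hc : ∀ i j, classInner Φ (E i j) = c i j)
    (h00 : c i₀ j₀ = 1)
    (hrect : ∀ i j, c i j = c i j₀ + c i₀ j - 1)
    (hcol : ∀ j, j ≠ j₀ → ∑ i, c i j = 0)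
    (hpar : Even (∑ i ∈ Finset.univ.erase i₀, c i j₀)) :
    (∀ i, c i j₀ = 1) ∧ (∀ j, j ≠ j₀ → c i₀ j = 0) ∧ Φ = colSum E j₀ - χ := by
  classical
  have hq1 : 1 ≤ q := by
    rw [← hq]; exact Fintype.card_pos_iff.mpr ⟨i₀⟩
  -- Bessel in `ℤ`
  have hB : ∑ k, ∑ l, c k l ^ 2 + (-1 : ℤ) ^ 2 ≤ ((q : ℤ) + 1) := by
    apply bessel_int_family E hE χ hχ hχE Φ ((q : ℤ) + 1) (by rw [hΦ]; push_cast; ring) c hc (-1)
    rw [hΦχ]; push_cast; ring
  set S : ℤ := ∑ i ∈ Finset.univ.erase i₀, c i j₀ with hS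
  set Q : ℤ := ∑ i ∈ Finset.univ.erase i₀, c i j₀ ^ 2 with hQ
  -- `|S| ≤ Q`
  have hSQ : S ≤ Q ∧ -S ≤ Q := by
    constructor
    · apply Finset.sum_le_sum
      intro i _
      nlinarith [sq_nonneg (c i j₀), sq_nonneg (c i j₀ - 1)]
    · rw [hS, ← Finset.sum_neg_distrib]
      apply Finset.sum_le_sum
      intro i _
      nlinarith [sq_nonneg (c i j₀), sq_nonneg (c i j₀ + 1)]
  -- the double sum dominates column `j₀` plus one more entry
  have hdom : ∀ j, j ≠ j₀ → 1 + Q + c i₀ j ^ 2 ≤ ∑ k, ∑ l, c k l ^ 2 := by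
    intro j hj
    have hrow0 : 1 + c i₀ j ^ 2 ≤ ∑ l, c i₀ l ^ 2 := by
      have : ∑ l ∈ ({j₀, j} : Finset κ), c i₀ l ^ 2 ≤ ∑ l, c i₀ l ^ 2 :=
        Finset.sum_le_sum_of_subset_of_nonneg (Finset.subset_univ _) (fun _ _ _ => sq_nonneg _)
      rw [Finset.sum_pair (Ne.symm hj), h00] at this
      linarith
    have hrows : ∀ k ∈ Finset.univ.erase i₀, c k j₀ ^ 2 ≤ ∑ l, c k l ^ 2 := by
      intro k _
      exact Finset.single_le_sum (f := fun l => c k l ^ 2) (fun _ _ => sq_nonneg _)
        (Finset.mem_univ j₀)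
    rw [← Finset.add_sum_erase Finset.univ (fun k => ∑ l, c k l ^ 2) (Finset.mem_univ i₀)]
    have := Finset.sum_le_sum hrows
    linarith
  -- the column relation
  have hcolrel : ∀ j, j ≠ j₀ → (q : ℤ) * (1 - c i₀ j) = 1 + S := by
    intro j hj
    have h1 := hcol j hj
    rw [← Finset.add_sum_erase Finset.univ (fun i => c i j) (Finset.mem_univ i₀)] at h1
    have h2 : ∑ i ∈ Finset.univ.erase i₀, c i j =
        S + ((q : ℤ) - 1) * (c i₀ j - 1) := by
      rw [Finset.sum_congr rfl (fun i _ => hrect i j)]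
      rw [Finset.sum_sub_distrib, Finset.sum_add_distrib, Finset.sum_const, Finset.sum_const,
        Finset.card_erase_of_mem (Finset.mem_univ i₀), Finset.card_univ, hq]
      simp only [nsmul_eq_mul]
      push_cast [Nat.cast_sub hq1]
      ring
    rw [h2] at h1
    linarith
  -- every `c i₀ j` (`j ≠ j₀`) vanishes
  have ht0 : ∀ j, j ≠ j₀ → c i₀ j = 0 := by
    intro j hj
    by_contra hne
    have hrel := hcolrel j hj
    have hd := hdom j hj
    -- `c i₀ j` is even
    have heven : Even (c i₀ j) := by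
      obtain ⟨r, hr⟩ := hpar
      by_contra hodd
      rw [Int.not_even_iff_odd] at hodd
      obtain ⟨u, hu⟩ := hodd
      -- then `1 - c i₀ j` is even, so `1 + S` is even, but `S` is even
      have h3 : (q : ℤ) * (1 - c i₀ j) = 1 + (r + r) := by rw [hrel, hr]
      rw [hu] at h3
      have h2 : (q : ℤ) * (1 - (2 * u + 1)) = -2 * ((q : ℤ) * u) := by ring
      rw [h2] at h3
      generalize (q : ℤ) * u = w at h3
      omega
    obtain ⟨u, hu⟩ := heven
    have hu0 : u ≠ 0 := by
      intro h; apply hne; rw [hu, h]; ring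
    have hsq : 4 ≤ c i₀ j ^ 2 := by
      rw [hu]
      have : 1 ≤ u ^ 2 := by
        rcases lt_or_gt_of_ne hu0 with h | h <;> nlinarith
      nlinarith
    -- `|1 + S| ≥ q`
    have hQ' : Q ≤ (q : ℤ) - 1 - 4 := by linarith
    have hqpos : (1 : ℤ) ≤ q := by exact_mod_cast hq1
    have habs : (q : ℤ) ≤ 1 + S ∨ (q : ℤ) ≤ -(1 + S) := by
      rw [← hrel]
      rcases lt_or_gt_of_ne hu0 with h | h
      · left
        have : (1 : ℤ) ≤ 1 - c i₀ j := by rw [hu]; omega
        nlinarith
      · right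
        have : (1 - c i₀ j) ≤ -1 := by rw [hu]; omega
        nlinarith
    rcases habs with h | h
    · linarith [hSQ.1]
    · linarith [hSQ.2]
  -- hence `S = q - 1`, `Q ≤ q - 1`
  obtain ⟨j₁, hj₁⟩ := hκ
  have hS1 : S = (q : ℤ) - 1 := by
    have := hcolrel j₁ hj₁
    rw [ht0 j₁ hj₁] at this
    linarith
  have hQ1 : Q ≤ (q : ℤ) - 1 := by
    have := hdom j₁ hj₁
    rw [ht0 j₁ hj₁] at this
    linarith
  -- every term `c i j₀ ^ 2 - c i j₀` is zero
  have hzero : ∑ i ∈ Finset.univ.erase i₀, (c i j₀ ^ 2 - c i j₀) = 0 := by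
    apply le_antisymm
    · rw [Finset.sum_sub_distrib]; linarith
    · apply Finset.sum_nonneg
      intro i _
      nlinarith [sq_nonneg (c i j₀), sq_nonneg (c i j₀ - 1), sq_nonneg (2 * c i j₀ - 1)]
  have h01 : ∀ i ∈ Finset.univ.erase i₀, c i j₀ ^ 2 - c i j₀ = 0 := by
    apply (Finset.sum_eq_zero_iff_of_nonneg ?_).mp hzero
    intro i _
    nlinarith [sq_nonneg (c i j₀), sq_nonneg (c i j₀ - 1), sq_nonneg (2 * c i j₀ - 1)]
  have hle1 : ∀ i ∈ Finset.univ.erase i₀, c i j₀ ≤ 1 := by
    intro i hi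
    have := h01 i hi
    nlinarith [sq_nonneg (c i j₀ - 1)]
  have hzero2 : ∑ i ∈ Finset.univ.erase i₀, (1 - c i j₀) = 0 := by
    rw [Finset.sum_sub_distrib, Finset.sum_const, Finset.card_erase_of_mem (Finset.mem_univ i₀),
      Finset.card_univ, hq]
    simp only [nsmul_eq_mul, mul_one]
    push_cast [Nat.cast_sub hq1]
    linarith
  have hall1 : ∀ i ∈ Finset.univ.erase i₀, 1 - c i j₀ = 0 := by
    apply (Finset.sum_eq_zero_iff_of_nonneg ?_).mp hzero2
    intro i hi
    linarith [hle1 i hi]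
  have hcj0 : ∀ i, c i j₀ = 1 := by
    intro i
    by_cases hi : i = i₀
    · rw [hi, h00]
    · have := hall1 i (Finset.mem_erase.mpr ⟨hi, Finset.mem_univ i⟩)
      linarith
  refine ⟨hcj0, ht0, ?_⟩
  -- now `‖Φ - T‖² = 0`
  have hEcol : ∀ i, classInner (E i j₀) (colSum E j₀) = 1 := by
    intro i
    unfold colSum
    rw [classInner_sum_right, Finset.sum_eq_single i]
    · rw [hE]; simp
    · intro b _ hb
      rw [hE]; simp [Ne.symm hb]
    · intro h; exact absurd (Finset.mem_univ i) h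
  have hΦE : classInner Φ (colSum E j₀) = (q : ℂ) := by
    unfold colSum
    rw [classInner_sum_right]
    rw [Finset.sum_congr rfl (fun i _ => by rw [hc i j₀, hcj0 i])]
    simp [hq]
  have hEE : classInner (colSum E j₀) (colSum E j₀) = (q : ℂ) := by
    have : classInner (colSum E j₀) (colSum E j₀) = ∑ i, classInner (E i j₀) (colSum E j₀) := by
      unfold colSum
      exact classInner_sum_left _ _ _
    rw [this, Finset.sum_congr rfl (fun i _ => hEcol i)]
    simp [hq]
  have hχS : classInner χ (colSum E j₀) = 0 := by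
    unfold colSum
    rw [classInner_sum_right]
    exact Finset.sum_eq_zero (fun i _ => hχE i j₀)
  have hSχ : classInner (colSum E j₀) χ = 0 := classInner_eq_zero_symm hχS
  apply eq_of_inner_eq ((q : ℝ) + 1)
  · rw [hΦ]; push_cast; ring
  · rw [classInner_sub_right, hΦE, hΦχ]; push_cast; ring
  · rw [classInner_sub_left, classInner_sub_right, classInner_sub_right, hEE, hSχ, hχS, hχ]
    push_cast; ring


/-- Hypotheses on a class function `X` (think `X = τ_T(νᵢ - ξ)` in Case 1 of Peterfalvi (10.8)):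
norm `p + 1`, integral coefficients on the `E k l` obeying the rectangle rule with
`a i₀ j₀ = 0`, constant along the base row off the base point, and
`⟨X, χ⟩ = ∑ₖ a k j₀` (i.e. `⟨X, ∑ₖ E k j₀ - χ⟩ = 0`). -/
structure TexpHyp {ι κ : Type*} [Fintype ι] (i₀ : ι) (j₀ : κ) (E : ι → κ → G → ℂ)
    (χ : G → ℂ) (p : ℕ) (X : G → ℂ) : Prop where
  norm : classInner X X = (p : ℂ) + 1
  coef : ∃ a : ι → κ → ℤ, (∀ k l, classInner X (E k l) = a k l) ∧ a i₀ j₀ = 0 ∧
    (∀ k l, a k l = a k j₀ + a i₀ l) ∧ (∀ l l', l ≠ j₀ → l' ≠ j₀ → a i₀ l = a i₀ l') ∧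
    classInner X χ = ((∑ k, a k j₀ : ℤ) : ℂ)

section texp

variable {ι κ : Type*} [Fintype ι] [Fintype κ] [DecidableEq ι] [DecidableEq κ]
  {i₀ : ι} {j₀ : κ} {p q : ℕ} {E : ι → κ → G → ℂ} {χ : G → ℂ}

/-- `⟨ε(R k₁ + χ), ε(R k₁ + χ)⟩ = p + 1` and friends -/
theorem classInner_rowSum_add (hp : Fintype.card κ = p)
    (hE : ∀ i j i' j', classInner (E i j) (E i' j') = if i = i' ∧ j = j' then 1 else 0)
    (hχ : classInner χ χ = 1) (hχE : ∀ i j, classInner χ (E i j) = 0) (k k' : ι) :
    classInner (rowSum E k + χ) (rowSum E k' + χ) = (if k = k' then (p : ℂ) else 0) + 1 := by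
  have h1 : classInner χ (rowSum E k') = 0 := by
    unfold rowSum
    rw [classInner_sum_right]
    exact Finset.sum_eq_zero (fun l _ => hχE k' l)
  have h2 : classInner (rowSum E k) χ = 0 := by
    apply classInner_eq_zero_symm
    unfold rowSum
    rw [classInner_sum_right]
    exact Finset.sum_eq_zero (fun l _ => hχE k l)
  rw [classInner_add_left, classInner_add_right, classInner_add_right,
    classInner_rowSum_rowSum hE, h1, h2, hχ, hp]
  ring

/-- **Abstract form of the expansion in Case 1 of (10.8)**: `X` is either orthogonal to all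
`E k l` and to `χ`, or `X = ε (∑ₗ E k₁ l + χ)` for one `k₁ ≠ i₀` and a sign `ε`. -/
theorem texp_abs (hp : Fintype.card κ = p) (hp3 : 3 ≤ p) (hq : Fintype.card ι = q) (hq3 : 3 ≤ q)
    (hE : ∀ i j i' j', classInner (E i j) (E i' j') = if i = i' ∧ j = j' then 1 else 0)
    (hχ : classInner χ χ = 1) (hχE : ∀ i j, classInner χ (E i j) = 0)
    {X : G → ℂ} (hX : TexpHyp i₀ j₀ E χ p X) :
    ((∀ k l, classInner X (E k l) = 0) ∧ classInner X χ = 0) ∨
      ∃ k₁, k₁ ≠ i₀ ∧ ∃ ε : ℤ, (ε = 1 ∨ ε = -1) ∧ X = (ε : ℂ) • (rowSum E k₁ + χ) := by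
  classical
  obtain ⟨a, ha, h00, hrect, hb, hm⟩ := hX.coef
  set m : ℤ := ∑ k, a k j₀ with hmdef
  have hB : ∑ k, ∑ l, a k l ^ 2 + m ^ 2 ≤ (p : ℤ) + 1 :=
    bessel_int_family E hE χ hχ hχE X ((p : ℤ) + 1) (by rw [hX.norm]; push_cast; ring) a ha m hm
  have hp3' : (3 : ℤ) ≤ p := by exact_mod_cast hp3
  have hq3' : (3 : ℤ) ≤ q := by exact_mod_cast hq3
  have hq1 : 1 ≤ q := by omega
  -- the constant `b`
  have hcard2 : 1 < Fintype.card κ := by omega
  obtain ⟨j₁, hj₁⟩ := Fintype.exists_ne_of_one_lt_card hcard2 j₀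
  set b : ℤ := a i₀ j₁ with hbdef
  have hball : ∀ l, l ≠ j₀ → a i₀ l = b := fun l hl => hb l j₁ hl hj₁
  -- row sums
  have hrow : ∀ k, ∑ l, a k l ^ 2 = a k j₀ ^ 2 + ((p : ℤ) - 1) * (a k j₀ + b) ^ 2 := by
    intro k
    have := sum_base_const j₀ (fun l => a k l ^ 2) ((a k j₀ + b) ^ 2)
      (fun l hl => by show a k l ^ 2 = _; rw [hrect k l, hball l hl])
    rw [this, hp]
  rw [Finset.sum_congr rfl (fun k _ => hrow k)] at hB
  -- `b = 0`
  have hb0 : b = 0 := by
    by_contra hbne
    have hb1 : 1 ≤ b ^ 2 := by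
      rcases lt_or_gt_of_ne hbne with h | h <;> nlinarith
    set R : ι → ℤ := fun k => a k j₀ ^ 2 + ((p : ℤ) - 1) * (a k j₀ + b) ^ 2 with hR
    have hR0 : R i₀ = ((p : ℤ) - 1) * b ^ 2 := by
      simp only [hR, h00]; ring
    have hRge : ∀ k ∈ Finset.univ.erase i₀, 0 ≤ R k - 1 := by
      intro k _
      simp only [hR]
      by_cases hk : a k j₀ = 0
      · rw [hk]; nlinarith
      · have : 1 ≤ a k j₀ ^ 2 := by
          rcases lt_or_gt_of_ne hk with h | h <;> nlinarith
        nlinarith [sq_nonneg (a k j₀ + b)]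
    have hsplit : ∑ k, R k = R i₀ + (((q : ℤ) - 1) + ∑ k ∈ Finset.univ.erase i₀, (R k - 1)) := by
      rw [← Finset.add_sum_erase Finset.univ R (Finset.mem_univ i₀)]
      congr 1
      rw [Finset.sum_sub_distrib, Finset.sum_const, Finset.card_erase_of_mem (Finset.mem_univ i₀),
        Finset.card_univ, hq]
      simp only [nsmul_eq_mul, mul_one]
      push_cast [Nat.cast_sub hq1]
      ring
    have hsumnn : 0 ≤ ∑ k ∈ Finset.univ.erase i₀, (R k - 1) := Finset.sum_nonneg hRge
    have hB2 : ∑ k, R k + m ^ 2 ≤ (p : ℤ) + 1 := hB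
    rw [hsplit, hR0] at hB2
    have hm0 : m ^ 2 = 0 := by nlinarith [sq_nonneg m]
    have hsum0 : ∑ k ∈ Finset.univ.erase i₀, (R k - 1) = 0 := by nlinarith [sq_nonneg m]
    have hR1 : ∀ k ∈ Finset.univ.erase i₀, R k - 1 = 0 :=
      (Finset.sum_eq_zero_iff_of_nonneg hRge).mp hsum0
    have hak : ∀ k ∈ Finset.univ.erase i₀, a k j₀ = -b := by
      intro k hk
      have h1 := hR1 k hk
      simp only [hR] at h1
      by_contra hne
      have : a k j₀ + b ≠ 0 := fun h => hne (by linarith)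
      have : 1 ≤ (a k j₀ + b) ^ 2 := by
        rcases lt_or_gt_of_ne this with h | h <;> nlinarith
      nlinarith [sq_nonneg (a k j₀)]
    have hmval : m = -(((q : ℤ) - 1) * b) := by
      rw [hmdef, ← Finset.add_sum_erase Finset.univ (fun k => a k j₀) (Finset.mem_univ i₀), h00,
        Finset.sum_congr rfl hak, Finset.sum_const, Finset.card_erase_of_mem (Finset.mem_univ i₀),
        Finset.card_univ, hq]
      simp only [nsmul_eq_mul]
      push_cast [Nat.cast_sub hq1]
      ring
    have hm0' : m = 0 := by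
      have := pow_eq_zero_iff (two_ne_zero) |>.mp hm0
      exact this
    rw [hm0'] at hmval
    have : ((q : ℤ) - 1) * b = 0 := by linarith
    rcases mul_eq_zero.mp this with h | h
    · omega
    · exact hbne h
  -- now everything is in terms of the `a k j₀`
  have hi0l : ∀ l, a i₀ l = 0 := by
    intro l
    by_cases hl : l = j₀
    · rw [hl, h00]
    · rw [hball l hl, hb0]
  have hakl : ∀ k l, a k l = a k j₀ := by
    intro k l
    rw [hrect k l, hi0l l, add_zero]
  set S2 : ℤ := ∑ k, a k j₀ ^ 2 with hS2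
  have hB3 : (p : ℤ) * S2 + m ^ 2 ≤ (p : ℤ) + 1 := by
    have : ∑ k, (a k j₀ ^ 2 + ((p : ℤ) - 1) * (a k j₀ + b) ^ 2) = (p : ℤ) * S2 := by
      rw [hS2, Finset.mul_sum]
      apply Finset.sum_congr rfl
      intro k _
      rw [hb0]; ring
    rw [this] at hB
    exact hB
  have hS2nn : 0 ≤ S2 := Finset.sum_nonneg (fun k _ => sq_nonneg _)
  have hS2le : S2 ≤ 1 := by
    by_contra h
    push Not at h
    nlinarith [sq_nonneg m]
  by_cases hall : ∀ k, a k j₀ = 0
  · left
    refine ⟨fun k l => by rw [ha k l, hakl k l, hall k]; simp, ?_⟩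
    rw [hm, hmdef, Finset.sum_eq_zero (fun k _ => hall k)]
    simp
  · right
    push Not at hall
    obtain ⟨k₁, hk₁⟩ := hall
    have hk₁sq : 1 ≤ a k₁ j₀ ^ 2 := by
      rcases lt_or_gt_of_ne hk₁ with h | h <;> nlinarith
    have hsplit : S2 = a k₁ j₀ ^ 2 + ∑ k ∈ Finset.univ.erase k₁, a k j₀ ^ 2 := by
      rw [hS2, ← Finset.add_sum_erase Finset.univ (fun k => a k j₀ ^ 2) (Finset.mem_univ k₁)]
    have hrestnn : 0 ≤ ∑ k ∈ Finset.univ.erase k₁, a k j₀ ^ 2 :=
      Finset.sum_nonneg (fun k _ => sq_nonneg _)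
    have hrest0 : ∑ k ∈ Finset.univ.erase k₁, a k j₀ ^ 2 = 0 := by linarith
    have hεsq : a k₁ j₀ ^ 2 = 1 := by linarith
    have hothers : ∀ k, k ≠ k₁ → a k j₀ = 0 := by
      intro k hk
      have := (Finset.sum_eq_zero_iff_of_nonneg (fun k _ => sq_nonneg (a k j₀))).mp hrest0 k
        (Finset.mem_erase.mpr ⟨hk, Finset.mem_univ k⟩)
      exact pow_eq_zero_iff (two_ne_zero) |>.mp this
    set ε : ℤ := a k₁ j₀ with hε
    have hε1 : ε = 1 ∨ ε = -1 := by
      have : (ε - 1) * (ε + 1) = 0 := by ring_nf; linarith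
      rcases mul_eq_zero.mp this with h | h
      · left; linarith
      · right; linarith
    have hk₁i₀ : k₁ ≠ i₀ := by
      intro h
      apply hk₁
      rw [hε, h, h00]
    have hmε : m = ε := by
      rw [hmdef, Finset.sum_eq_single k₁ (fun k _ hk => hothers k hk)
        (fun h => absurd (Finset.mem_univ k₁) h)]
    refine ⟨k₁, hk₁i₀, ε, hε1, ?_⟩
    have hεε : (ε : ℂ) * (ε : ℂ) = 1 := by
      have : ε * ε = 1 := by nlinarith
      exact_mod_cast this
    have hconj : (starRingEnd ℂ) (ε : ℂ) = (ε : ℂ) := by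
      rw [← Complex.ofReal_intCast, Complex.conj_ofReal]
    have hXR : classInner X (rowSum E k₁) = (p : ℂ) * (ε : ℂ) := by
      unfold rowSum
      rw [classInner_sum_right]
      rw [Finset.sum_congr rfl (fun l _ => by rw [ha k₁ l, hakl k₁ l])]
      rw [Finset.sum_const, Finset.card_univ, hp, nsmul_eq_mul, ← hε]
    apply eq_of_inner_eq ((p : ℝ) + 1)
    · rw [hX.norm]; push_cast; ring
    · rw [classInner_smul_right, classInner_add_right, hXR, hm, hmε, hconj]
      push_cast
      linear_combination ((p : ℂ) + 1) * hεε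
    · rw [classInner_smul_left, classInner_smul_right, hconj,
        classInner_rowSum_add hp hE hχ hχE k₁ k₁, if_pos rfl]
      push_cast
      linear_combination ((p : ℂ) + 1) * hεε


/-- coefficient of `E k l` in `ε (R k₁ + χ)` -/
theorem classInner_secondKind_E
    (hE : ∀ i j i' j', classInner (E i j) (E i' j') = if i = i' ∧ j = j' then 1 else 0)
    (hχE : ∀ i j, classInner χ (E i j) = 0) (k₁ k : ι) (l : κ) (ε : ℂ) :
    classInner (ε • (rowSum E k₁ + χ)) (E k l) = if k₁ = k then ε else 0 := by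
  have h1 : classInner (rowSum E k₁) (E k l) = if k₁ = k then 1 else 0 := by
    have h2 := classInner_E_rowSum hE k k₁ l
    have h3 := classInner_conj_symm (E k l) (rowSum E k₁)
    rw [h2] at h3
    rw [← h3]
    by_cases h : k = k₁
    · simp [h]
    · have : ¬ k₁ = k := fun h' => h h'.symm
      simp [h, this]
  rw [classInner_smul_left, classInner_add_left, h1, hχE]
  by_cases h : k₁ = k <;> simp [h]

/-- If `X - X' = R i - R i'` with `i ≠ i'`, both satisfying `TexpHyp`, then `X` is of the second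
kind. -/
theorem texp_second_kind (hp : Fintype.card κ = p) (hp3 : 3 ≤ p) (hq : Fintype.card ι = q)
    (hq3 : 3 ≤ q)
    (hE : ∀ i j i' j', classInner (E i j) (E i' j') = if i = i' ∧ j = j' then 1 else 0)
    (hχ : classInner χ χ = 1) (hχE : ∀ i j, classInner χ (E i j) = 0)
    {X X' : G → ℂ} (hX : TexpHyp i₀ j₀ E χ p X) (hX' : TexpHyp i₀ j₀ E χ p X')
    {i i' : ι} (hii' : i ≠ i') (hdiff : X - X' = rowSum E i - rowSum E i') :
    ∃ k₁, k₁ ≠ i₀ ∧ ∃ ε : ℤ, (ε = 1 ∨ ε = -1) ∧ X = (ε : ℂ) • (rowSum E k₁ + χ) := by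
  classical
  rcases texp_abs hp hp3 hq hq3 hE hχ hχE hX with ⟨h0, -⟩ | h2
  · exfalso
    -- coefficients of `X' = X - R i + R i'`
    have hX'eq : X' = X - (rowSum E i - rowSum E i') := by rw [← hdiff]; abel
    have hRE : ∀ k k' : ι, classInner (rowSum E k) (E k' j₀) = if k = k' then 1 else 0 := by
      intro k k'
      have h2 := classInner_E_rowSum hE k' k j₀
      have h3 := classInner_conj_symm (E k' j₀) (rowSum E k)
      rw [h2] at h3
      rw [← h3]
      by_cases h : k' = k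
      · simp [h]
      · have : ¬ k = k' := fun h' => h h'.symm
        simp [h, this]
    have hc : ∀ k, classInner X' (E k j₀) =
        -((if i = k then (1 : ℂ) else 0) - (if i' = k then 1 else 0)) := by
      intro k
      rw [hX'eq, classInner_sub_left, classInner_sub_left, h0, hRE, hRE]
      ring
    have hci : classInner X' (E i j₀) = -1 := by
      rw [hc i]; simp [hii'.symm]
    have hci' : classInner X' (E i' j₀) = 1 := by
      rw [hc i']; simp [hii']
    rcases texp_abs hp hp3 hq hq3 hE hχ hχE hX' with ⟨h0', -⟩ | ⟨k₁, -, ε, -, hXε⟩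
    · rw [h0'] at hci
      norm_num at hci
    · rw [hXε, classInner_secondKind_E hE hχE] at hci hci'
      by_cases h1 : k₁ = i
      · have h2 : ¬ k₁ = i' := fun h => hii' (h1.symm.trans h)
        rw [if_neg h2] at hci'
        norm_num at hci'
      · rw [if_neg h1] at hci
        norm_num at hci
  · exact h2

/-- two vectors of the second kind never differ by a vector of norm `2` -/
theorem secondKind_norm_diff (hp : Fintype.card κ = p) (hp3 : 3 ≤ p)
    (hE : ∀ i j i' j', classInner (E i j) (E i' j') = if i = i' ∧ j = j' then 1 else 0)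
    (hχ : classInner χ χ = 1) (hχE : ∀ i j, classInner χ (E i j) = 0)
    {k k' : ι} {ε ε' : ℤ} (hε : ε = 1 ∨ ε = -1) (hε' : ε' = 1 ∨ ε' = -1) :
    classInner ((ε : ℂ) • (rowSum E k + χ) - (ε' : ℂ) • (rowSum E k' + χ))
      ((ε : ℂ) • (rowSum E k + χ) - (ε' : ℂ) • (rowSum E k' + χ)) ≠ 2 := by
  have hconj : ∀ z : ℤ, (starRingEnd ℂ) (z : ℂ) = (z : ℂ) := by
    intro z
    rw [← Complex.ofReal_intCast, Complex.conj_ofReal]
  have hp3' : (3 : ℝ) ≤ p := by exact_mod_cast hp3
  have hexp : ∀ (a b : ℂ) (u v : G → ℂ), classInner (a • u - b • v) (a • u - b • v) =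
      a * (starRingEnd ℂ) a * classInner u u - a * (starRingEnd ℂ) b * classInner u v -
        b * (starRingEnd ℂ) a * classInner v u + b * (starRingEnd ℂ) b * classInner v v := by
    intro a b u v
    simp only [classInner_sub_left, classInner_sub_right, classInner_smul_left,
      classInner_smul_right]
    ring
  rw [hexp, hconj, hconj,
    classInner_rowSum_add hp hE hχ hχE k k, classInner_rowSum_add hp hE hχ hχE k k',
    classInner_rowSum_add hp hE hχ hχE k' k, classInner_rowSum_add hp hE hχ hχE k' k', if_pos rfl,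
    if_pos rfl]
  intro h
  have hre := congrArg Complex.re h
  by_cases hkk : k = k'
  · have hkk' : k' = k := hkk.symm
    rw [if_pos hkk, if_pos hkk'] at hre
    rcases hε with rfl | rfl <;> rcases hε' with rfl | rfl <;>
      · simp at hre
        try nlinarith
  · have hkk' : ¬ k' = k := fun h' => hkk h'.symm
    rw [if_neg hkk, if_neg hkk'] at hre
    rcases hε with rfl | rfl <;> rcases hε' with rfl | rfl <;>
      · simp at hre
        try nlinarith

/-- **Case 1 of (10.8), abstract end**: `X = τ(νᵢ - ξ)`, `Y = τ(νᵢ - ξ̄)`, `X' = τ(νᵢ' - ξ)`,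
`Y' = τ(νᵢ' - ξ̄)` cannot all exist. -/
theorem case1_false (hp : Fintype.card κ = p) (hp3 : 3 ≤ p) (hq : Fintype.card ι = q)
    (hq3 : 3 ≤ q)
    (hE : ∀ i j i' j', classInner (E i j) (E i' j') = if i = i' ∧ j = j' then 1 else 0)
    (hχ : classInner χ χ = 1) (hχE : ∀ i j, classInner χ (E i j) = 0)
    {X Y X' Y' : G → ℂ} (hX : TexpHyp i₀ j₀ E χ p X) (hY : TexpHyp i₀ j₀ E χ p Y)
    (hX' : TexpHyp i₀ j₀ E χ p X') (hY' : TexpHyp i₀ j₀ E χ p Y')
    {i i' : ι} (hii' : i ≠ i') (hXX' : X - X' = rowSum E i - rowSum E i')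
    (hYY' : Y - Y' = rowSum E i - rowSum E i')
    (hXY : classInner (X - Y) (X - Y) = 2) : False := by
  obtain ⟨k, -, ε, hε, hXε⟩ := texp_second_kind hp hp3 hq hq3 hE hχ hχE hX hX' hii' hXX'
  obtain ⟨k', -, ε', hε', hYε⟩ := texp_second_kind hp hp3 hq hq3 hE hχ hχE hY hY' hii' hYY'
  rw [hXε, hYε] at hXY
  exact secondKind_norm_diff hp hp3 hE hχ hχE hε hε' hXY

end texp

end Cfsg.Agent.Lib.Helper4.PFTen
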