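import Mathlib
import Cfsg.Prelude.Def_Involutions
import Cfsg.Agent.Lib.Helper4.Invol

set_option autoImplicit false

namespace Cfsg.Agent.Lib.Helper4

variable {G : Type*} [Group G]

theorem mem_map_conj_iff' (H : Subgroup G) (g z : G) :
    z ∈ H.map (MulAut.conj g).toMonoidHom ↔ g⁻¹ * z * g ∈ H := by
  rw [Subgroup.mem_map]
  constructor
  · rintro ⟨h, hh, rfl⟩
    have : g⁻¹ * ((MulAut.conj g).toMonoidHom h) * g = h := by
      simp [MulAut.conj_apply, mul_assoc]
    rw [this]; exact hh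
  · intro h
    refine ⟨g⁻¹ * z * g, h, ?_⟩
    simp [MulAut.conj_apply, mul_assoc]

theorem odd_card_iff_no_involution [Finite G] (K : Subgroup G) :
    Odd (Nat.card K) ↔ ∀ s ∈ K, orderOf s ≠ 2 := by
  constructor
  · intro hodd s hs h2
    have := orderOf_dvd_natCard (⟨s, hs⟩ : K)
    rw [Subgroup.orderOf_mk, h2] at this
    exact (Nat.not_even_iff_odd.mpr hodd) (even_iff_two_dvd.mpr this)
  · intro h
    by_contra hne
    rw [Nat.not_odd_iff_even] at hne
    haveI : Fact (Nat.Prime 2) := ⟨Nat.prime_two⟩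
    obtain ⟨x, hx⟩ := exists_prime_orderOf_dvd_card' 2 (even_iff_two_dvd.mp hne)
    rw [← Subgroup.orderOf_coe] at hx
    exact h x.1 x.2 hx

/-- Elementwise reformulation of `Cfsg.IsStronglyEmbedded`. -/
theorem isStronglyEmbedded_iff [Finite G] (H : Subgroup G) :
    Cfsg.IsStronglyEmbedded H ↔ H ≠ ⊤ ∧ Even (Nat.card H) ∧
      ∀ g : G, g ∉ H → ∀ s : G, s ∈ H → g⁻¹ * s * g ∈ H → orderOf s ≠ 2 := by
  unfold Cfsg.IsStronglyEmbedded
  constructor
  · rintro ⟨h1, h2, h3⟩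
    refine ⟨h1, h2, fun g hg s hs hs' => ?_⟩
    have := (odd_card_iff_no_involution _).mp (h3 g hg) s
    apply this
    rw [Subgroup.mem_inf]
    exact ⟨hs, (mem_map_conj_iff' H g s).mpr hs'⟩
  · rintro ⟨h1, h2, h3⟩
    refine ⟨h1, h2, fun g hg => ?_⟩
    rw [odd_card_iff_no_involution]
    intro s hs
    rw [Subgroup.mem_inf] at hs
    exact h3 g hg s hs.1 ((mem_map_conj_iff' H g s).mp hs.2)

end Cfsg.Agent.Lib.Helper4
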