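import Mathlib
import Cfsg.Agent.Lib.Helper77.DefOneDefs

set_option autoImplicit false
set_option linter.unusedSectionVars false

/-!
PROJECT BC, defect-one stage, MODULE (T5) of board post #2293:
a simple module with a stable `μ`-semi-invariant (`μ` trivial on `C_G(P)`) has the central
character of the trivial module.
-/

namespace Cfsg.Agent.Lib.Helper4.DefOneT5

open Cfsg.Agent.Lib.Helper77.DefOne

/-- Sum over a finite set stable under a free action of a finite group `Q` of an equivariant
function is a `Q`-trace. -/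
theorem free_orbit_sum {Q : Type*} [Group Q] [Fintype Q] {X : Type*}
    {A : Type*} [AddCommMonoid A]
    (act : Q → X → X) (hact1 : ∀ x, act 1 x = x)
    (hactmul : ∀ q r x, act (q * r) x = act q (act r x))
    (T : Q → A →+ A) (f : X → A) (hf : ∀ q x, f (act q x) = T q (f x))
    (S : Finset X) (hS : ∀ q, ∀ x ∈ S, act q x ∈ S)
    (hfree : ∀ x ∈ S, ∀ q, act q x = x → q = 1) :
    ∃ y : A, ∑ x ∈ S, f x = ∑ q : Q, T q y := by
  classical
  induction S using Finset.strongInduction with
  | H S ih =>
    rcases S.eq_empty_or_nonempty with rfl | ⟨x, hx⟩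
    · exact ⟨0, by simp⟩
    · set O : Finset X := Finset.univ.image (fun q : Q => act q x) with hO
      have hOS : O ⊆ S := by
        intro y hy
        obtain ⟨q, -, rfl⟩ := Finset.mem_image.1 hy
        exact hS q x hx
      have hxO : x ∈ O := Finset.mem_image.2 ⟨1, Finset.mem_univ _, hact1 x⟩
      have hlt : S \ O ⊂ S := by
        refine Finset.ssubset_iff_subset_ne.2 ⟨Finset.sdiff_subset, ?_⟩
        intro h
        have : x ∈ S \ O := by rw [h]; exact hx
        exact (Finset.mem_sdiff.1 this).2 hxO
      have hstab : ∀ q, ∀ y ∈ S \ O, act q y ∈ S \ O := by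
        intro q y hy
        obtain ⟨hyS, hyO⟩ := Finset.mem_sdiff.1 hy
        refine Finset.mem_sdiff.2 ⟨hS q y hyS, ?_⟩
        intro h
        obtain ⟨r, -, hr⟩ := Finset.mem_image.1 h
        apply hyO
        refine Finset.mem_image.2 ⟨q⁻¹ * r, Finset.mem_univ _, ?_⟩
        rw [hactmul, hr, ← hactmul, inv_mul_cancel, hact1]
      obtain ⟨y', hy'⟩ := ih (S \ O) hlt hstab
        (fun y hy => hfree y (Finset.mem_sdiff.1 hy).1)
      refine ⟨f x + y', ?_⟩
      rw [← Finset.sum_sdiff hOS, hy']
      have hinj : Set.InjOn (fun q : Q => act q x) (Finset.univ : Finset Q) := by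
        intro q _ r _ hqr
        have h1 : act (r⁻¹ * q) x = x := by
          rw [hactmul]
          simp only at hqr
          rw [hqr, ← hactmul, inv_mul_cancel, hact1]
        have := hfree x hx _ h1
        rw [inv_mul_eq_one] at this
        exact this.symm
      rw [hO, Finset.sum_image hinj]
      simp only [hf, map_add, Finset.sum_add_distrib]
      rw [add_comm]


variable {F : Type*} [Field F] {G : Type*} [Group G] [Fintype G]
  {V : Type*} [AddCommGroup V] [Module F V] {p : ℕ} [Fact p.Prime] [CharP F p]

/-- coefficients of a central element are a class function -/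
theorem coeff_conj_of_central (a : MonoidAlgebra F G) (ha : ∀ b, b * a = a * b) (h g : G) :
    a.coeff (h * g * h⁻¹) = a.coeff g := by
  have := congrArg (fun x => x.coeff (h * g)) (ha (MonoidAlgebra.single h 1))
  simp only [MonoidAlgebra.coeff_single_mul_apply, MonoidAlgebra.coeff_mul_single_apply,
    inv_mul_cancel_left, one_mul, mul_one] at this
  exact this.symm

theorem asAlgebraHom_eq_sum (ρ : Representation F G V) (a : MonoidAlgebra F G) :
    ρ.asAlgebraHom a = ∑ g : G, a.coeff g • ρ g := by
  rw [Representation.asAlgebraHom_def, MonoidAlgebra.lift_apply]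
  rw [Finsupp.sum_fintype]
  intro g
  simp


theorem T5 [IsAlgClosed F] [FiniteDimensional F V] (P : Sylow p G) (hP : Nat.card P = p)
    (ρ : Representation F G V) [ρ.IsIrreducible]
    (μ : Subgroup.normalizer ((P : Subgroup G) : Set G) →* Fˣ)
    (hμC : ∀ n : Subgroup.normalizer ((P : Subgroup G) : Set G),
      (n : G) ∈ Subgroup.centralizer ((P : Subgroup G) : Set G) → μ n = 1)
    (z : V) (hz : IsStableSemiInv ρ (P : Subgroup G) μ z)
    (a : MonoidAlgebra F G) (ha : ∀ b, b * a = a * b) :
    ρ.asAlgebraHom a = aug a • LinearMap.id := by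
  classical
  obtain ⟨hsemi, hnot⟩ := hz
  have hP' : Nat.card (↥(P : Subgroup G)) = p := hP
  -- nontrivial elements of `P` generate
  have hgen : ∀ (u : ↥(P : Subgroup G)), u ≠ 1 → ∀ g : G, (u : G) * g = g * u →
      ∀ v ∈ (P : Subgroup G), v * g = g * v := by
    intro u hu g hug v hv
    have hmem : (⟨v, hv⟩ : ↥(P : Subgroup G)) ∈ Subgroup.zpowers u :=
      mem_zpowers_of_prime_card hP' hu
    obtain ⟨k, hk⟩ := Subgroup.mem_zpowers_iff.1 hmem
    have hv' : v = (u : G) ^ k := by
      have := congrArg Subtype.val hk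
      simpa using this.symm
    rw [hv']
    exact (Commute.zpow_left (show Commute (u : G) g from hug) k).eq
  have hcomm : ∀ u ∈ (P : Subgroup G), ∀ v ∈ (P : Subgroup G), v * u = u * v := by
    intro u hu v hv
    by_cases h1 : (⟨u, hu⟩ : ↥(P : Subgroup G)) = 1
    · have : u = 1 := congrArg Subtype.val h1
      simp [this]
    · exact hgen ⟨u, hu⟩ h1 u rfl v hv
  have hPC : ∀ u ∈ (P : Subgroup G), u ∈ Subgroup.centralizer ((P : Subgroup G) : Set G) := by
    intro u hu
    rw [Subgroup.mem_centralizer_iff]
    intro v hv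
    exact hcomm u hu v hv
  have hCN : ∀ g ∈ Subgroup.centralizer ((P : Subgroup G) : Set G),
      g ∈ Subgroup.normalizer ((P : Subgroup G) : Set G) := by
    intro g hg
    rw [Subgroup.mem_normalizer_iff]
    intro h
    rw [Subgroup.mem_centralizer_iff] at hg
    constructor
    · intro hh
      have := hg h hh
      rw [← this]
      simpa using hh
    · intro hh
      have := hg _ hh
      have h2 : h = g * h * g⁻¹ := by
        have h3 : g * h * g⁻¹ * g = g * (g * h * g⁻¹) := this
        have h4 : g * h = g * (g * h * g⁻¹) := by simpa using h3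
        exact mul_left_cancel h4
      rw [h2]; exact hh
  have hfixC : ∀ g ∈ Subgroup.centralizer ((P : Subgroup G) : Set G), ρ g z = z := by
    intro g hg
    have := hsemi ⟨g, hCN g hg⟩
    rw [hμC ⟨g, hCN g hg⟩ hg] at this
    simpa using this
  -- Schur
  obtain ⟨c, hc⟩ : ∃ c : F, ρ.asAlgebraHom a = c • LinearMap.id := by
    have hint : ∀ g : G, ρ.asAlgebraHom a ∘ₗ ρ g = ρ g ∘ₗ ρ.asAlgebraHom a := by
      intro g
      have h1 : ρ.asAlgebraHom a ∘ₗ ρ g = ρ.asAlgebraHom (a * MonoidAlgebra.single g 1) := by
        rw [map_mul, Representation.asAlgebraHom_single_one]; rfl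
      have h2 : ρ g ∘ₗ ρ.asAlgebraHom a = ρ.asAlgebraHom (MonoidAlgebra.single g 1 * a) := by
        rw [map_mul, Representation.asAlgebraHom_single_one]; rfl
      rw [h1, h2, ha]
    obtain ⟨c, hc⟩ := (Representation.IsIrreducible.algebraMap_intertwiningMap_bijective_of_isAlgClosed
      (ρ := ρ)).2 ⟨ρ.asAlgebraHom a, hint⟩
    refine ⟨c, ?_⟩
    have := congrArg Representation.IntertwiningMap.toLinearMap hc
    exact this.symm
  set C := Subgroup.centralizer ((P : Subgroup G) : Set G) with hC
  -- conjugation action of `P` on `G`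
  let act : ↥(P : Subgroup G) → G → G := fun u g => (u : G) * g * (u : G)⁻¹
  have hact1 : ∀ x, act 1 x = x := by intro x; simp [act]
  have hactmul : ∀ q r x, act (q * r) x = act q (act r x) := by
    intro q r x; simp [act, mul_assoc]
  let S : Finset G := Finset.univ.filter (fun g => g ∉ C)
  have hSstab : ∀ q, ∀ x ∈ S, act q x ∈ S := by
    intro q x hx
    simp only [S, Finset.mem_filter, Finset.mem_univ, true_and] at hx ⊢
    intro h
    apply hx
    have hq := hPC q q.2
    have : x = (q : G)⁻¹ * (q * x * (q : G)⁻¹) * q := by group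
    rw [this]
    exact C.mul_mem (C.mul_mem (C.inv_mem hq) h) hq
  have hSfree : ∀ x ∈ S, ∀ q, act q x = x → q = 1 := by
    intro x hx q hq
    by_contra hne
    simp only [S, Finset.mem_filter, Finset.mem_univ, true_and] at hx
    apply hx
    rw [Subgroup.mem_centralizer_iff]
    intro v hv
    have hqx : (q : G) * x = x * q := by
      have h1 : (q : G) * x * (q : G)⁻¹ = x := hq
      calc (q : G) * x = (q : G) * x * (q : G)⁻¹ * q := by group
        _ = x * q := by rw [h1]
    exact hgen q hne x hqx v hv
  -- vector sum over the non-centralizing elements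
  obtain ⟨y, hy⟩ := free_orbit_sum act hact1 hactmul (fun u => (ρ (u : G)).toAddMonoidHom)
    (fun g => a.coeff g • ρ g z) (by
      intro q x
      simp only [act]
      rw [coeff_conj_of_central a ha]
      simp only [map_mul, LinearMap.toAddMonoidHom_coe, Module.End.mul_apply, map_smul]
      congr 2
      exact congrArg _ (hfixC _ (hPC _ (inv_mem q.2)))) S hSstab hSfree
  obtain ⟨r, hr⟩ := free_orbit_sum act hact1 hactmul (fun _ => AddMonoidHom.id F)
    (fun g => a.coeff g) (by
      intro q x; simp only [act]; rw [coeff_conj_of_central a ha]; rfl) S hSstab hSfree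
  have hr0 : ∑ x ∈ S, a.coeff x = 0 := by
    rw [hr]
    simp only [AddMonoidHom.id_apply, Finset.sum_const, Finset.card_univ]
    rw [← Nat.card_eq_fintype_card, hP', nsmul_eq_mul, CharP.cast_eq_zero, zero_mul]
  have hy' : ∑ x ∈ S, a.coeff x • ρ x z = trOne ρ (P : Subgroup G) y := by
    rw [hy, trOne_apply]
    simp only [LinearMap.toAddMonoidHom_coe]
    rw [← Finset.sum_subtype (Finset.univ.filter (fun g : G => g ∈ (P : Subgroup G)))
      (by simp) (fun g => ρ g y)]
  have haug : aug a = ∑ g ∈ Finset.univ.filter (fun g => g ∈ C), a.coeff g := by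
    rw [aug_apply, ← Finset.sum_filter_add_sum_filter_not Finset.univ (fun g => g ∈ C)]
    have : ∑ x ∈ Finset.univ.filter (fun g => ¬ g ∈ C), a.coeff x = 0 := hr0
    rw [this, add_zero]
  have hz' : c • z = aug a • z + trOne ρ (P : Subgroup G) y := by
    have h1 : ρ.asAlgebraHom a z = c • z := by rw [hc]; simp
    rw [← h1, asAlgebraHom_eq_sum, LinearMap.sum_apply]
    rw [← Finset.sum_filter_add_sum_filter_not Finset.univ (fun g => g ∈ C)]
    congr 1
    · rw [haug, Finset.sum_smul]
      refine Finset.sum_congr rfl fun g hg => ?_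
      simp only [Finset.mem_filter, Finset.mem_univ, true_and] at hg
      simp [hfixC g hg]
  have hca : c = aug a := by
    by_contra hne
    apply hnot
    have hne' : c - aug a ≠ 0 := sub_ne_zero.2 hne
    refine ⟨(c - aug a)⁻¹ • y, ?_⟩
    have h2 : trOne ρ (P : Subgroup G) y = (c - aug a) • z := by
      rw [sub_smul, hz']; abel
    rw [map_smul, h2, smul_smul, inv_mul_cancel₀ hne', one_smul]
  rw [hc, hca]

end Cfsg.Agent.Lib.Helper4.DefOneT5
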