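import Mathlib
import Cfsg.Agent.S0016
import Cfsg.Agent.Lib.Helper4.SylowTwo
import Cfsg.Agent.Lib.Helper12.ZassDefs

/-!
# Tools for module AT2 of the Zassenhaus theorem (S0690)

Generalised quaternion 2-subgroups of a group satisfying `Free3`, index-two facts,
Sylow conjugation inside a subgroup.
-/

set_option autoImplicit false

namespace Cfsg.Agent.Lib.Helper4.Zass

open Cfsg.Agent.Lib.Helper12.Zass

variable {G : Type*} [Group G]

/-! ### index two -/

theorem relIndex_two_of_card [Finite G] {H K : Subgroup G} (hle : H ≤ K)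
    (hc : Nat.card K = 2 * Nat.card H) : H.relIndex K = 2 := by
  have h1 := Subgroup.card_mul_index (H.subgroupOf K)
  rw [Nat.card_congr (Subgroup.subgroupOfEquivOfLe hle).toEquiv, hc] at h1
  have hpos : 0 < Nat.card H := Nat.card_pos
  unfold Subgroup.relIndex
  exact Nat.eq_of_mul_eq_mul_left hpos (by rw [h1]; ring)

theorem sq_mem_of_card [Finite G] {H K : Subgroup G} (hle : H ≤ K)
    (hc : Nat.card K = 2 * Nat.card H) {t : G} (ht : t ∈ K) : t ^ 2 ∈ H := by
  have h2 : (H.subgroupOf K).index = 2 := relIndex_two_of_card hle hc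
  have := Subgroup.sq_mem_of_index_two h2 (⟨t, ht⟩ : K)
  simpa [Subgroup.mem_subgroupOf] using this

theorem conj_mem_of_card [Finite G] {H K : Subgroup G} (hle : H ≤ K)
    (hc : Nat.card K = 2 * Nat.card H) {t q : G} (ht : t ∈ K) (hq : q ∈ H) :
    t * q * t⁻¹ ∈ H := by
  have h2 : (H.subgroupOf K).index = 2 := relIndex_two_of_card hle hc
  have hn := Subgroup.normal_of_index_eq_two h2
  have := hn.conj_mem (⟨q, hle hq⟩ : K) (by simpa [Subgroup.mem_subgroupOf] using hq)
    (⟨t, ht⟩ : K)
  simpa [Subgroup.mem_subgroupOf] using this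

/-! ### commuting elements -/

theorem closure_comm {S : Set G} (hS : ∀ x ∈ S, ∀ y ∈ S, x * y = y * x) :
    ∀ a ∈ Subgroup.closure S, ∀ b ∈ Subgroup.closure S, a * b = b * a := by
  have step1 : Subgroup.closure S ≤ Subgroup.centralizer S :=
    (Subgroup.closure_le _).mpr
      (fun x hx => Subgroup.mem_centralizer_iff.mpr (fun y hy => hS y hy x hx))
  have step2 : Subgroup.closure S ≤ Subgroup.centralizer (Subgroup.closure S : Set G) :=
    (Subgroup.closure_le _).mpr
      (fun x hx => Subgroup.mem_centralizer_iff.mpr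
        (fun y hy => (Subgroup.mem_centralizer_iff.mp (step1 hy) x hx).symm))
  intro a ha b hb
  exact (Subgroup.mem_centralizer_iff.mp (step2 hb) a ha)

/-- In a group all of whose abelian subgroups are cyclic, an element commuting with `s` whose
order divides the order of `s` is a power of `s`. -/
theorem mem_zpowers_of_commute [Finite G] (h : Free3 G) {s t : G} (hc : s * t = t * s)
    (ho : orderOf t ∣ orderOf s) : t ∈ Subgroup.zpowers s := by
  classical
  have hab := closure_comm (S := ({s, t} : Set G)) (by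
    intro x hx y hy
    simp only [Set.mem_insert_iff, Set.mem_singleton_iff] at hx hy
    rcases hx with rfl | rfl <;> rcases hy with rfl | rfl
    · rfl
    · exact hc
    · exact hc.symm
    · rfl)
  set A := Subgroup.closure ({s, t} : Set G) with hA
  haveI := h.cyc A hab
  have hs : s ∈ A := Subgroup.subset_closure (by simp)
  have ht : t ∈ A := Subgroup.subset_closure (by simp)
  haveI : Fintype A := Fintype.ofFinite _
  set n := orderOf s with hn'
  have hn : 0 < n := orderOf_pos s
  have hle := IsCyclic.card_pow_eq_one_le (α := A) hn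
  have hso : orderOf (⟨s, hs⟩ : A) = n := by
    rw [← Subgroup.orderOf_coe]
  set S : Finset A := Finset.image (fun k : ℕ => (⟨s, hs⟩ : A) ^ k) (Finset.range n) with hS
  have hScard : S.card = n := by
    rw [hS, Finset.card_image_of_injOn, Finset.card_range]
    intro k hk l hl hkl
    apply pow_injOn_Iio_orderOf (x := (⟨s, hs⟩ : A))
    · rw [hso]; simpa using hk
    · rw [hso]; simpa using hl
    · exact hkl
  have hSsub : S ⊆ Finset.univ.filter (fun x : A => x ^ n = 1) := by
    intro y hy
    obtain ⟨k, _, rfl⟩ := Finset.mem_image.mp hy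
    simp only [Finset.mem_filter, Finset.mem_univ, true_and]
    rw [← pow_mul, mul_comm, pow_mul, ← hso, pow_orderOf_eq_one, one_pow]
  have heq : S = Finset.univ.filter (fun x : A => x ^ n = 1) :=
    Finset.eq_of_subset_of_card_le hSsub (by rw [hScard]; exact hle)
  have hmem : (⟨t, ht⟩ : A) ∈ S := by
    rw [heq]
    simp only [Finset.mem_filter, Finset.mem_univ, true_and]
    apply Subtype.ext
    simp only [Subgroup.coe_pow, Subgroup.coe_one]
    exact orderOf_dvd_iff_pow_eq_one.mp ho
  obtain ⟨k, _, hk⟩ := Finset.mem_image.mp hmem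
  have : s ^ k = t := by
    have := congrArg Subtype.val hk
    simpa using this
  rw [← this]
  exact Subgroup.pow_mem _ (Subgroup.mem_zpowers s) k

/-! ### elements of given order in cyclic groups -/

theorem exists_pow_of_mem_zpowers [Finite G] {x y : G} (hy : y ∈ Subgroup.zpowers x) :
    ∃ k < orderOf x, y = x ^ k := by
  classical
  rw [mem_zpowers_iff_mem_range_orderOf] at hy
  obtain ⟨k, hk, rfl⟩ := Finset.mem_image.mp hy
  exact ⟨k, Finset.mem_range.mp hk, rfl⟩

theorem eq_or_eq_inv_of_mem_zpowers [Finite G] {x y : G} (hx : orderOf x = 4)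
    (hy : orderOf y = 4) (hm : y ∈ Subgroup.zpowers x) : y = x ∨ y = x⁻¹ := by
  obtain ⟨k, hk, rfl⟩ := exists_pow_of_mem_zpowers hm
  rw [hx] at hk
  have ho := orderOf_pow (n := k) x
  rw [hy, hx] at ho
  interval_cases k
  · simp at ho
  · left; simp
  · norm_num at ho
  · right
    have h4 : x ^ 4 = 1 := by rw [← hx]; exact pow_orderOf_eq_one x
    rw [eq_inv_iff_mul_eq_one, ← pow_succ]
    exact h4

theorem eq_sq_or_of_mem_zpowers [Finite G] {a v : G} (ha : orderOf a = 8)
    (hv : orderOf v = 4) (hm : v ∈ Subgroup.zpowers a) : v = a ^ 2 ∨ v = (a ^ 2)⁻¹ := by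
  obtain ⟨k, hk, rfl⟩ := exists_pow_of_mem_zpowers hm
  rw [ha] at hk
  have ho := orderOf_pow (n := k) a
  rw [hv, ha] at ho
  have h8 : a ^ 8 = 1 := by rw [← ha]; exact pow_orderOf_eq_one a
  interval_cases k
  · simp at ho
  · norm_num at ho
  · left; rfl
  · norm_num at ho
  · norm_num at ho
  · norm_num at ho
  · right
    rw [eq_inv_iff_mul_eq_one, ← pow_add]
    exact h8
  · norm_num at ho

/-! ### generalised quaternion subgroups -/

/-- `T` is a 2-subgroup of order `2N` with a cyclic subgroup `⟨a⟩` of order `N` such that all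
elements outside `⟨a⟩` have order 4 and invert `a`. -/
structure GQ (N : ℕ) (T : Subgroup G) (a : G) : Prop where
  mem : a ∈ T
  ord : orderOf a = N
  card : Nat.card T = 2 * N
  out : ∀ t ∈ T, t ∉ Subgroup.zpowers a → orderOf t = 4 ∧ t * a * t⁻¹ = a⁻¹

theorem exists_gq [Finite G] (h : Free3 G) (T : Subgroup G) (k : ℕ)
    (hT : Nat.card T = 2 ^ (k + 2)) (hnc : ¬ IsCyclic T) : ∃ a, GQ (2 ^ (k + 1)) T a := by
  haveI : Fact (Nat.Prime 2) := ⟨Nat.prime_two⟩
  have hp : IsPGroup 2 T := IsPGroup.of_card hT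
  have huniq : ∀ H K : Subgroup T, Nat.card H = 2 → Nat.card K = 2 → H = K := by
    intro H K hH hK
    obtain ⟨t, ht⟩ := exists_prime_orderOf_dvd_card' (G := K) 2 (by rw [hK])
    apply Subgroup.eq_of_le_of_card_ge
    · intro s hs
      by_cases hs1 : s = 1
      · rw [hs1]; exact K.one_mem
      · have hso : orderOf (⟨s, hs⟩ : H) = 2 := by
          have hd : orderOf (⟨s, hs⟩ : H) ∣ 2 := hH ▸ orderOf_dvd_natCard _
          have hne : orderOf (⟨s, hs⟩ : H) ≠ 1 := by
            rw [Ne, orderOf_eq_one_iff]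
            intro h1
            apply hs1
            simpa using congrArg Subtype.val h1
          rcases (Nat.dvd_prime Nat.prime_two).mp hd with h1 | h1
          · exact absurd h1 hne
          · exact h1
        have e1 : orderOf ((s : T) : G) = 2 := by
          rw [Subgroup.orderOf_coe, ← hso, ← Subgroup.orderOf_coe (⟨s, hs⟩ : H)]
        have e2 : orderOf (((t : K) : T) : G) = 2 := by
          rw [Subgroup.orderOf_coe, Subgroup.orderOf_coe, ht]
        have e3 := h.inv _ _ e1 e2
        have e4 : s = ((t : K) : T) := Subtype.ext e3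
        rw [e4]
        exact t.2
    · rw [hH, hK]
  rcases Cfsg.Agent.S0016.result 2 hp huniq with hc | ⟨_, n, ⟨e⟩⟩
  · exact absurd hc hnc
  · haveI : NeZero (2 ^ n) := ⟨by positivity⟩
    have hcard : Nat.card T = 4 * 2 ^ n := by
      rw [Nat.card_congr e.toEquiv, Nat.card_eq_fintype_card, QuaternionGroup.card]
    have hnk : n = k := by
      have : 2 ^ (n + 2) = 2 ^ (k + 2) := by rw [← hT, hcard]; ring
      have := Nat.pow_right_injective (le_refl 2) this
      omega
    subst hnk
    refine ⟨((e.symm (QuaternionGroup.a 1) : T) : G), ⟨(e.symm (QuaternionGroup.a 1)).2, ?_, ?_, ?_⟩⟩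
    · rw [Subgroup.orderOf_coe, MulEquiv.orderOf_eq, QuaternionGroup.orderOf_a_one]
      ring
    · rw [hT]; ring
    · intro t ht hnt
      have hcases : ∀ q : QuaternionGroup (2 ^ n), e ⟨t, ht⟩ = q →
          orderOf t = 4 ∧ t * ((e.symm (QuaternionGroup.a 1) : T) : G) * t⁻¹ =
            ((e.symm (QuaternionGroup.a 1) : T) : G)⁻¹ := by
        intro q hq
        cases q with
        | a i =>
          exfalso
          apply hnt
          have h1 : (⟨t, ht⟩ : T) = (e.symm (QuaternionGroup.a 1)) ^ i.val := by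
            rw [← map_pow, QuaternionGroup.a_one_pow, ZMod.natCast_zmod_val, ← hq,
              MulEquiv.symm_apply_apply]
          have h2 := congrArg Subtype.val h1
          simp only [Subgroup.coe_pow] at h2
          rw [h2]
          exact Subgroup.pow_mem _ (Subgroup.mem_zpowers _) _
        | xa i =>
          constructor
          · have h0 : orderOf t = orderOf (⟨t, ht⟩ : T) := (Subgroup.orderOf_coe (⟨t, ht⟩ : T))
            rw [h0, ← MulEquiv.orderOf_eq e, hq, QuaternionGroup.orderOf_xa]
          · have h1 : QuaternionGroup.xa i * QuaternionGroup.a 1 * (QuaternionGroup.xa i)⁻¹ =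
                (QuaternionGroup.a 1 : QuaternionGroup (2 ^ n))⁻¹ := by
              rw [mul_inv_eq_iff_eq_mul, QuaternionGroup.xa_mul_a, eq_inv_mul_iff_mul_eq,
                QuaternionGroup.a_mul_xa]
              simp
            have h2 : (⟨t, ht⟩ : T) * e.symm (QuaternionGroup.a 1) * (⟨t, ht⟩ : T)⁻¹ =
                (e.symm (QuaternionGroup.a 1))⁻¹ := by
              apply e.injective
              rw [map_mul, map_mul, map_inv, map_inv, hq, MulEquiv.apply_symm_apply, h1]
            have h3 := congrArg Subtype.val h2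
            simpa using h3
      exact hcases _ rfl

namespace GQ

variable {N : ℕ} {T : Subgroup G} {a : G}

theorem zpowers_le (hg : GQ N T a) : Subgroup.zpowers a ≤ T :=
  (Subgroup.zpowers_le).mpr hg.mem

/-- Conjugation by any element of `T` sends `a` to `a` or `a⁻¹`. -/
theorem conj_eq_or (hg : GQ N T a) {t : G} (ht : t ∈ T) :
    t * a * t⁻¹ = a ∨ t * a * t⁻¹ = a⁻¹ := by
  by_cases hm : t ∈ Subgroup.zpowers a
  · left
    obtain ⟨k, rfl⟩ := Subgroup.mem_zpowers_iff.mp hm
    rw [mul_inv_eq_iff_eq_mul]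
    exact ((Commute.refl a).zpow_left k).eq
  · right
    exact (hg.out t ht hm).2

theorem relIndex [Finite G] (hg : GQ N T a) : (Subgroup.zpowers a).relIndex T = 2 := by
  apply relIndex_two_of_card hg.zpowers_le
  rw [Nat.card_zpowers, hg.ord, hg.card]

end GQ

/-! ### conjugating `QSub` -/

theorem QSub.conj {x : G} {Q : Subgroup G} (hQ : QSub x Q) (g : G) :
    QSub (g * x * g⁻¹) (Q.map (MulAut.conj g).toMonoidHom) := by
  obtain ⟨h1, h2, q, hq, hne⟩ := hQ
  refine ⟨?_, ?_, g * q * g⁻¹, ⟨q, hq, by simp⟩, ?_⟩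
  · rw [Subgroup.card_map_of_injective (MulAut.conj g).injective, h1]
  · rintro _ ⟨r, hr, rfl⟩
    refine ⟨x * r * x⁻¹, h2 r hr, ?_⟩
    simp [mul_assoc]
  · intro he
    apply hne
    have : g * (x * q * x⁻¹) * g⁻¹ = g * q * g⁻¹ := by
      rw [← he]; group
    simpa using this

/-! ### Sylow conjugation inside a subgroup -/

theorem exists_conj_mem_sylow_of_le [Finite G] {p : ℕ} [Fact p.Prime] (P : Sylow p G)
    {N R : Subgroup G} (hPN : (P : Subgroup G) ≤ N) (hRN : R ≤ N) (hR : IsPGroup p R) :
    ∃ n ∈ N, ∀ r ∈ R, n * r * n⁻¹ ∈ (P : Subgroup G) := by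
  have hR' : IsPGroup p (R.subgroupOf N) := hR.comap_subtype
  obtain ⟨n, hn⟩ := Cfsg.Agent.Lib.Helper4.exists_conj_mem_sylow (P.subtype hPN) hR'
  refine ⟨n, n.2, fun r hr => ?_⟩
  have h1 := hn ⟨r, hRN hr⟩ (by simpa [Subgroup.mem_subgroupOf] using hr)
  have h2 : n * ⟨r, hRN hr⟩ * n⁻¹ ∈ ((P.subtype hPN : Sylow p N) : Subgroup N) := h1
  rw [Sylow.coe_subtype, Subgroup.mem_subgroupOf] at h2
  simpa using h2

/-- A subgroup of order `2^4` is a Sylow 2-subgroup if `32` does not divide the group order. -/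
theorem exists_sylow_of_card [Finite G] (T : Subgroup G) (hT : Nat.card T = 16)
    (h32 : ¬ 32 ∣ Nat.card G) : ∃ P : Sylow 2 G, (P : Subgroup G) = T := by
  haveI : Fact (Nat.Prime 2) := ⟨Nat.prime_two⟩
  have h16 : 2 ^ 4 ∣ Nat.card G := by
    have := Subgroup.card_subgroup_dvd_card T
    rw [hT] at this
    exact this
  have hne : Nat.card G ≠ 0 := Nat.card_pos.ne'
  have h4 := (Nat.Prime.pow_dvd_iff_le_factorization Nat.prime_two hne).mp h16
  have h5 : ¬ 5 ≤ (Nat.card G).factorization 2 := by
    intro h5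
    apply h32
    have := (Nat.Prime.pow_dvd_iff_le_factorization (k := 5) Nat.prime_two hne).mpr h5
    exact this
  have hf : (Nat.card G).factorization 2 = 4 := by omega
  exact ⟨Sylow.ofCard T (by rw [hT, hf]; norm_num), Sylow.coe_ofCard _ _⟩

/-! ### normalisers of cyclic subgroups -/

theorem mem_normalizer_zpowers [Finite G] {s t : G} (hst : s * t * s⁻¹ ∈ Subgroup.zpowers t) :
    s ∈ Subgroup.normalizer (Subgroup.zpowers t : Set G) := by
  apply Subgroup.mem_normalizer_fintype
  intro n hn
  obtain ⟨k, rfl⟩ := Subgroup.mem_zpowers_iff.mp hn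
  rw [← conj_zpow]
  exact Subgroup.zpow_mem _ hst k

theorem conj_mem_zpowers_of_mem_normalizer {s t : G}
    (hs : s ∈ Subgroup.normalizer (Subgroup.zpowers t : Set G)) :
    s * t * s⁻¹ ∈ Subgroup.zpowers t :=
  (Subgroup.mem_normalizer_iff.mp hs t).mp (Subgroup.mem_zpowers t)

end Cfsg.Agent.Lib.Helper4.Zass
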