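import Mathlib
import Cfsg.Agent.Lib.Helper4.ZassGQ

/-!
# Module AT2 of the Zassenhaus theorem (S0690), part a: the 2-local set-up
-/

set_option autoImplicit false

namespace Cfsg.Agent.Lib.Helper4.Zass

open Cfsg.Agent.Lib.Helper12.Zass

variable {G : Type*} [Group G]

/-! ### quaternion pairs -/

/-- `s`, `t` of order 4 with `t` inverting `s`. -/
structure QP (s t : G) : Prop where
  os : orderOf s = 4
  ot : orderOf t = 4
  conj : t * s * t⁻¹ = s⁻¹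

theorem orderOf_sq_of_four [Finite G] {s : G} (hs : orderOf s = 4) : orderOf (s ^ 2) = 2 := by
  rw [orderOf_pow, hs]; norm_num

theorem pow_four_of_four {s : G} (hs : orderOf s = 4) : s ^ 4 = 1 := by
  rw [← hs]; exact pow_orderOf_eq_one s

theorem sq_ne_one_of_four {s : G} (hs : orderOf s = 4) : s ^ 2 ≠ 1 := by
  intro h2
  have := orderOf_dvd_of_pow_eq_one h2
  rw [hs] at this
  omega

theorem ne_inv_of_four {s : G} (hs : orderOf s = 4) : s ≠ s⁻¹ := by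
  intro h1
  apply sq_ne_one_of_four hs
  rw [sq]
  exact eq_inv_iff_mul_eq_one.mp h1

theorem inv_pow_three_of_four {s : G} (hs : orderOf s = 4) : s⁻¹ = s ^ 3 := by
  rw [inv_eq_iff_mul_eq_one, ← pow_succ']
  exact pow_four_of_four hs

namespace QP

variable {s t : G}

theorem sq_eq [Finite G] (h : Free3 G) (hq : QP s t) : s ^ 2 = t ^ 2 :=
  h.inv _ _ (orderOf_sq_of_four hq.os) (orderOf_sq_of_four hq.ot)

theorem ne (hq : QP s t) : s * t ≠ t * s := by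
  intro hc
  apply ne_inv_of_four hq.os
  rw [← hq.conj, ← hc]
  group

theorem ts_eq (hq : QP s t) : t * s = s⁻¹ * t := by
  rw [← hq.conj]; group

theorem tst [Finite G] (h : Free3 G) (hq : QP s t) : t * s * t = s := by
  rw [hq.ts_eq, mul_assoc, ← sq, ← hq.sq_eq h, sq, ← mul_assoc, inv_mul_cancel, one_mul]

theorem symm [Finite G] (h : Free3 G) (hq : QP s t) : QP t s := by
  refine ⟨hq.ot, hq.os, ?_⟩
  rw [mul_inv_eq_iff_eq_mul, eq_inv_mul_iff_mul_eq, ← mul_assoc]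
  exact hq.tst h

theorem sts [Finite G] (h : Free3 G) (hq : QP s t) : s * t * s = t :=
  (hq.symm h).tst h

theorem inv_left (hq : QP s t) : QP s⁻¹ t := by
  refine ⟨by rw [orderOf_inv]; exact hq.os, hq.ot, ?_⟩
  rw [← conj_inv, hq.conj]

end QP

/-! ### `Q` is not cyclic -/

theorem not_isCyclic_of_QSub [Finite G] {x : G} (hx : orderOf x = 3) {Q : Subgroup G}
    (hQ : QSub x Q) : ¬ IsCyclic Q := by
  intro hc
  obtain ⟨hcard, hnorm, q, hq, hne⟩ := hQ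
  obtain ⟨g, hg⟩ := IsCyclic.exists_generator (α := Q)
  have hgo : orderOf (g : G) = 8 := by
    rw [Subgroup.orderOf_coe, orderOf_eq_card_of_forall_mem_zpowers hg, hcard]
  have hpow : ∀ r ∈ Q, ∃ k : ℕ, r = (g : G) ^ k := by
    intro r hr
    have h1 := hg ⟨r, hr⟩
    have h2 : r ∈ Subgroup.zpowers (g : G) := by
      obtain ⟨k, hk⟩ := Subgroup.mem_zpowers_iff.mp h1
      have := congrArg Subtype.val hk
      simp only [Subgroup.coe_zpow] at this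
      rw [← this]
      exact Subgroup.zpow_mem _ (Subgroup.mem_zpowers _) k
    obtain ⟨k, _, hk⟩ := exists_pow_of_mem_zpowers h2
    exact ⟨k, hk⟩
  set q₀ : G := (g : G) with hq₀
  obtain ⟨k, e1⟩ := hpow _ (hnorm q₀ g.2)
  have e2 : x * q₀ ^ k * x⁻¹ = (q₀ ^ k) ^ k := by rw [← conj_pow, e1]
  have e3 : x * (q₀ ^ k) ^ k * x⁻¹ = ((q₀ ^ k) ^ k) ^ k := by rw [← conj_pow, e2]
  have hx3 : x ^ 3 = 1 := by rw [← hx]; exact pow_orderOf_eq_one x
  have e4 : x * (x * (x * q₀ * x⁻¹) * x⁻¹) * x⁻¹ = q₀ := by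
    calc x * (x * (x * q₀ * x⁻¹) * x⁻¹) * x⁻¹ = x ^ 3 * q₀ * (x ^ 3)⁻¹ := by
          simp only [pow_succ, pow_zero, one_mul, mul_inv_rev, mul_assoc]
      _ = q₀ := by rw [hx3]; simp
  have e5 : q₀ ^ (k ^ 3) = q₀ ^ 1 := by
    rw [pow_one]
    calc q₀ ^ (k ^ 3) = ((q₀ ^ k) ^ k) ^ k := by rw [← pow_mul, ← pow_mul]; ring_nf
      _ = q₀ := by rw [← e3, ← e2, ← e1]; exact e4
  have e6 : k ^ 3 ≡ 1 [MOD 8] := by
    rw [← hgo]
    exact pow_eq_pow_iff_modEq.mp e5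
  have e7 : k % 8 = 1 := by
    have h1 : k ^ 3 % 8 = 1 := e6
    rw [Nat.pow_mod] at h1
    have hr : k % 8 < 8 := Nat.mod_lt _ (by norm_num)
    generalize k % 8 = r at h1 hr
    interval_cases r <;> simp_all
  have e8 : x * q₀ * x⁻¹ = q₀ := by
    rw [e1, ← pow_mod_orderOf, hgo, e7, pow_one]
  apply hne
  obtain ⟨l, rfl⟩ := hpow q hq
  rw [← conj_pow, e8]

/-! ### the set-up in a subgroup of order 16 -/

theorem exists_setup16 [Finite G] (h : Free3 G) (x : G) (hx : orderOf x = 3) (Q : Subgroup G)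
    (hQ : QSub x Q) (h16 : 16 ∣ Nat.card G) :
    ∃ (T : Subgroup G) (a j : G), GQ 8 T a ∧ Q ≤ T ∧ j ∈ Q ∧ a ^ 2 ∈ Q ∧
      a ^ 2 * j ≠ j * a ^ 2 ∧ (∀ q ∈ Q, a * q * a⁻¹ ∈ Q) := by
  haveI : Fact (Nat.Prime 2) := ⟨Nat.prime_two⟩
  have hQnc := not_isCyclic_of_QSub hx hQ
  have hQcard : Nat.card Q = 2 ^ (1 + 2) := by rw [hQ.1]; norm_num
  obtain ⟨b, hb⟩ := exists_gq h Q 1 hQcard hQnc
  obtain ⟨T, hTcard, hQT⟩ := Sylow.exists_subgroup_card_pow_succ (p := 2) (n := 3)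
    (by norm_num; exact h16) (H := Q) (by rw [hQ.1]; norm_num)
  have hTnc : ¬ IsCyclic T := by
    intro hc
    apply hQnc
    haveI : IsCyclic (Q.subgroupOf T) := inferInstance
    exact isCyclic_of_surjective (Subgroup.subgroupOfEquivOfLe hQT)
      (Subgroup.subgroupOfEquivOfLe hQT).surjective
  obtain ⟨a, ha⟩ := exists_gq h T 2 (by rw [hTcard]) hTnc
  have ha8 : orderOf a = 8 := by rw [ha.ord]; norm_num
  have hTQ : Nat.card T = 2 * Nat.card Q := by rw [hTcard, hQ.1]; norm_num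
  have hi : a ^ 2 ∈ Q := sq_mem_of_card hQT hTQ ha.mem
  have hnorm : ∀ q ∈ Q, a * q * a⁻¹ ∈ Q := fun q hq => conj_mem_of_card hQT hTQ ha.mem hq
  have hio : orderOf (a ^ 2) = 4 := by rw [orderOf_pow, ha8]; norm_num
  have hb4 : orderOf b = 4 := by rw [hb.ord]; norm_num
  -- an element of `Q` outside `⟨b⟩`
  have hex : ∃ t ∈ Q, t ∉ Subgroup.zpowers b := by
    by_contra hcon
    push Not at hcon
    have hle : Q ≤ Subgroup.zpowers b := hcon
    have := Subgroup.card_dvd_of_le hle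
    rw [Nat.card_zpowers, hb4, hQ.1] at this
    omega
  obtain ⟨t, htQ, htb⟩ := hex
  obtain ⟨ht4, htconj⟩ := hb.out t htQ htb
  have hbt : QP b t := ⟨hb4, ht4, htconj⟩
  refine ⟨T, a, ?_⟩
  by_cases him : a ^ 2 ∈ Subgroup.zpowers b
  · refine ⟨t, ha, hQT, htQ, hi, ?_, hnorm⟩
    rcases eq_or_eq_inv_of_mem_zpowers hb4 hio him with he | he
    · rw [he]; exact hbt.ne
    · rw [he]; exact hbt.inv_left.ne
  · refine ⟨b, ha, hQT, hb.mem, hi, ?_, hnorm⟩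
    obtain ⟨_, hiconj⟩ := hb.out _ hi him
    have : QP b (a ^ 2) := ⟨hb4, hio, hiconj⟩
    exact fun hc => this.ne hc.symm

/-! ### `32` does not divide the order -/

theorem not_dvd_32 [Finite G] (h : Free3 G) (x : G) (hx : orderOf x = 3) (Q : Subgroup G)
    (hQ : QSub x Q) (T : Subgroup G) (a j : G) (hg : GQ 8 T a) (hQT : Q ≤ T) (hj : j ∈ Q)
    (hi : a ^ 2 ∈ Q) (hij : a ^ 2 * j ≠ j * a ^ 2) (hnorm : ∀ q ∈ Q, a * q * a⁻¹ ∈ Q) :
    ¬ 32 ∣ Nat.card G := by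
  intro h32
  haveI : Fact (Nat.Prime 2) := ⟨Nat.prime_two⟩
  have hTcard : Nat.card T = 2 ^ 4 := by rw [hg.card]; norm_num
  obtain ⟨T₂, hT₂card, hTT₂⟩ := Sylow.exists_subgroup_card_pow_succ (p := 2) (n := 4)
    (by norm_num; exact h32) (H := T) hTcard
  have hT₂nc : ¬ IsCyclic T₂ := by
    intro hc
    apply hij
    obtain ⟨g, hg'⟩ := IsCyclic.exists_generator (α := T₂)
    have h1 := hg' ⟨a ^ 2, hTT₂ (hQT hi)⟩
    have h2 := hg' ⟨j, hTT₂ (hQT hj)⟩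
    obtain ⟨k, hk⟩ := Subgroup.mem_zpowers_iff.mp h1
    obtain ⟨l, hl⟩ := Subgroup.mem_zpowers_iff.mp h2
    have h3 : (⟨a ^ 2, hTT₂ (hQT hi)⟩ : T₂) * ⟨j, hTT₂ (hQT hj)⟩ =
        ⟨j, hTT₂ (hQT hj)⟩ * ⟨a ^ 2, hTT₂ (hQT hi)⟩ := by
      rw [← hk, ← hl, ← zpow_add, ← zpow_add, add_comm]
    exact congrArg Subtype.val h3
  obtain ⟨a₂, ha₂⟩ := exists_gq h T₂ 3 (by rw [hT₂card]) hT₂nc
  have ha₂16 : orderOf a₂ = 16 := by rw [ha₂.ord]; norm_num
  have haT₂ : a ∈ T₂ := hTT₂ hg.mem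
  have ham : a ∈ Subgroup.zpowers a₂ := by
    by_contra hcon
    have := (ha₂.out a haT₂ hcon).1
    rw [hg.ord] at this
    omega
  obtain ⟨m, hm, hma⟩ := exists_pow_of_mem_zpowers ham
  have ho := orderOf_pow (n := m) a₂
  rw [← hma, hg.ord, ha₂16] at ho
  have hgcd : Nat.gcd 16 m = 2 := by
    have h1 : Nat.gcd 16 m ∣ 16 := Nat.gcd_dvd_left 16 m
    have h2 : Nat.gcd 16 m ≤ 16 := Nat.le_of_dvd (by norm_num) h1
    have h3 : 0 < Nat.gcd 16 m := Nat.gcd_pos_of_pos_left _ (by norm_num)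
    generalize Nat.gcd 16 m = d at *
    interval_cases d <;> omega
  have h2m : 2 ∣ m := by
    have := Nat.gcd_dvd_right 16 m
    rwa [hgcd] at this
  set c := a₂ ^ (m / 2) with hc
  have hc2 : c ^ 2 = a := by
    rw [hc, ← pow_mul, Nat.div_mul_cancel h2m, ← hma]
  have hjT₂ : j ∈ T₂ := hTT₂ (hQT hj)
  have hjn : j ∉ Subgroup.zpowers a₂ := by
    intro hjm
    apply hij
    obtain ⟨k, hk⟩ := Subgroup.mem_zpowers_iff.mp hjm
    rw [← hk, hma, ← pow_mul]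
    exact ((Commute.refl a₂).pow_left _).zpow_right k |>.eq
  have hja₂ := (ha₂.out j hjT₂ hjn).2
  have hjc : j * c * j⁻¹ = c⁻¹ := by
    rw [hc, ← conj_pow, hja₂, inv_pow]
  have hjc' : j * c⁻¹ = c * j := by
    have : j * c⁻¹ * j⁻¹ = c := by rw [← conj_inv, hjc, inv_inv]
    calc j * c⁻¹ = (j * c⁻¹ * j⁻¹) * j := by group
      _ = c * j := by rw [this]
  have hcj : c * j * c⁻¹ = a * j := by
    rw [mul_assoc, hjc', ← mul_assoc, ← sq, hc2]
  have hQ' := QSub.conj hQ c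
  have hy' : orderOf (c * x * c⁻¹) = 3 := by
    have := MulEquiv.orderOf_eq (MulAut.conj c) x
    rw [MulAut.conj_apply] at this
    rw [this, hx]
  have hca : c * a ^ 2 * c⁻¹ = a ^ 2 := by
    rw [← hc2]; group
  exact h.app4 x (c * x * c⁻¹) a j Q (Q.map (MulAut.conj c).toMonoidHom) hx hy' hQ hQ'
    hg.ord hnorm hi hj hij ⟨a ^ 2, hi, by simpa using hca⟩ ⟨j, hj, by simpa using hcj⟩

end Cfsg.Agent.Lib.Helper4.Zass
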