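import Mathlib
import Cfsg.Agent.S3225
import Cfsg.Agent.Lib.Helper4.ZassAT2a

/-!
# Module AT2 of the Zassenhaus theorem (S0690), part b: Thompson transfer and the element `a₃`
-/

set_option autoImplicit false

namespace Cfsg.Agent.Lib.Helper4.Zass

open Cfsg.Agent.Lib.Helper12.Zass

variable {G : Type*} [Group G]

theorem no_index_two (hperf : commutator G = ⊤) (M : Subgroup G) : M.index ≠ 2 := by
  intro h2
  haveI : M.Normal := Subgroup.normal_of_index_eq_two h2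
  haveI : Fact (Nat.Prime 2) := ⟨Nat.prime_two⟩
  have hc : Nat.card (G ⧸ M) = 2 := h2
  haveI : IsCyclic (G ⧸ M) := isCyclic_of_prime_card hc
  have hle : commutator G ≤ M :=
    Subgroup.Normal.quotient_commutative_iff_commutator_le.mp inferInstance
  rw [hperf, top_le_iff] at hle
  rw [hle, Subgroup.index_top] at h2
  omega

theorem conj_inv_of_pm {s v i : G} (hv : v = i ∨ v = i⁻¹) (h : s * v * s⁻¹ = v⁻¹) :
    s * i * s⁻¹ = i⁻¹ := by
  rcases hv with rfl | rfl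
  · exact h
  · rw [← conj_inv] at h
    exact inv_injective h

theorem isPGroup_two_zpowers_four {s : G} (hs : orderOf s = 4) :
    IsPGroup 2 (Subgroup.zpowers s) := by
  apply IsPGroup.of_card (n := 2)
  rw [Nat.card_zpowers, hs]; norm_num

theorem orderOf_conj_eq (g x : G) : orderOf (g * x * g⁻¹) = orderOf x := by
  have := MulEquiv.orderOf_eq (MulAut.conj g) x
  rwa [MulAut.conj_apply] at this

/-- Thompson transfer produces a square root `a₃` of `u = a j` inverted by `i = a²`. -/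
theorem exists_a3 [Finite G] (h : Free3 G) (hperf : commutator G = ⊤) (T : Subgroup G)
    (a j : G) (hg : GQ 8 T a) (hjT : j ∈ T) (hij : a ^ 2 * j ≠ j * a ^ 2)
    (h32 : ¬ 32 ∣ Nat.card G) :
    ∃ a₃ : G, a₃ ^ 2 = a * j ∧ a ^ 2 * a₃ * (a ^ 2)⁻¹ = a₃⁻¹ := by
  haveI : Fact (Nat.Prime 2) := ⟨Nat.prime_two⟩
  have ha8 : orderOf a = 8 := hg.ord
  set i := a ^ 2 with hi
  set u := a * j with hu
  have hio : orderOf i = 4 := by rw [hi, orderOf_pow, ha8]; norm_num
  have hjn : j ∉ Subgroup.zpowers a := by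
    intro hjm
    apply hij
    obtain ⟨k, hk⟩ := Subgroup.mem_zpowers_iff.mp hjm
    rw [← hk]
    exact ((Commute.refl a).pow_left 2).zpow_right k |>.eq
  obtain ⟨hj4, hja⟩ := hg.out j hjT hjn
  have huT : u ∈ T := mul_mem hg.mem hjT
  have hun : u ∉ Subgroup.zpowers a := by
    intro hum
    apply hjn
    have : j = a⁻¹ * u := by rw [hu]; group
    rw [this]
    exact mul_mem (inv_mem (Subgroup.mem_zpowers a)) hum
  obtain ⟨hu4, hua⟩ := hg.out u huT hun
  have hui : u * i * u⁻¹ = i⁻¹ := by rw [hi, ← conj_pow, hua, inv_pow]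
  have hQPiu : QP i u := ⟨hio, hu4, hui⟩
  have hiu : i * u * i⁻¹ = u⁻¹ := (hQPiu.symm h).conj
  have hTcard : Nat.card T = 16 := by rw [hg.card]
  obtain ⟨P, hP⟩ := exists_sylow_of_card T hTcard h32
  have hev : Even (Nat.card G) := by
    have h1 := Subgroup.card_subgroup_dvd_card T
    rw [hTcard] at h1
    exact (even_iff_two_dvd).mpr (Dvd.dvd.trans (by norm_num) h1)
  obtain ⟨g, hgv⟩ := Cfsg.Agent.S3225.result hev (no_index_two hperf) P (Subgroup.zpowers a)
    (by rw [hP]; exact hg.zpowers_le) (by rw [hP]; exact hg.relIndex) 2 (by norm_num)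
    (by
      intro y hy hyn
      rw [hP] at hy
      rw [(hg.out y hy hyn).1]; norm_num)
    u (by rw [hP]; exact huT) (by rw [hu4]; norm_num)
  set v := g * u * g⁻¹ with hv
  have hv4 : orderOf v = 4 := by rw [hv, orderOf_conj_eq, hu4]
  have hvi : v = i ∨ v = i⁻¹ := eq_sq_or_of_mem_zpowers ha8 hv4 hgv
  set i₀ := g * i * g⁻¹ with hi₀
  have hi₀v : i₀ * v * i₀⁻¹ = v⁻¹ := by
    calc i₀ * v * i₀⁻¹ = g * (i * u * i⁻¹) * g⁻¹ := by rw [hi₀, hv]; group
      _ = g * u⁻¹ * g⁻¹ := by rw [hiu]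
      _ = v⁻¹ := by rw [hv]; group
  have hi₀i : i₀ * i * i₀⁻¹ = i⁻¹ := conj_inv_of_pm hvi hi₀v
  have hi₀4 : orderOf i₀ = 4 := by rw [hi₀, orderOf_conj_eq, hio]
  -- Sylow conjugation inside the normaliser of `⟨i⟩`
  have hTN : (P : Subgroup G) ≤ Subgroup.normalizer (Subgroup.zpowers i : Set G) := by
    intro t ht
    rw [hP] at ht
    apply mem_normalizer_zpowers
    rcases hg.conj_eq_or ht with he | he
    · have : t * i * t⁻¹ = i := by rw [hi, ← conj_pow, he]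
      rw [this]; exact Subgroup.mem_zpowers i
    · have : t * i * t⁻¹ = i⁻¹ := by rw [hi, ← conj_pow, he, inv_pow]
      rw [this]; exact inv_mem (Subgroup.mem_zpowers i)
  have hi₀N : Subgroup.zpowers i₀ ≤ Subgroup.normalizer (Subgroup.zpowers i : Set G) := by
    rw [Subgroup.zpowers_le]
    apply mem_normalizer_zpowers
    rw [hi₀i]; exact inv_mem (Subgroup.mem_zpowers i)
  have hR : IsPGroup 2 (Subgroup.zpowers i₀ ⊔ Subgroup.zpowers i : Subgroup G) :=
    IsPGroup.to_sup_of_normal_right' (isPGroup_two_zpowers_four hi₀4)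
      (isPGroup_two_zpowers_four hio) hi₀N
  have hRN : Subgroup.zpowers i₀ ⊔ Subgroup.zpowers i ≤
      Subgroup.normalizer (Subgroup.zpowers i : Set G) :=
    sup_le hi₀N Subgroup.le_normalizer
  obtain ⟨n, hnN, hn⟩ := exists_conj_mem_sylow_of_le P hTN hRN hR
  set i₁ := n * i₀ * n⁻¹ with hi₁
  have hi₁T : i₁ ∈ T := by
    rw [← hP]
    exact hn i₀ (Subgroup.mem_sup_left (Subgroup.mem_zpowers i₀))
  have hni : n * i * n⁻¹ = i ∨ n * i * n⁻¹ = i⁻¹ :=
    eq_or_eq_inv_of_mem_zpowers hio (by rw [orderOf_conj_eq, hio])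
      (conj_mem_zpowers_of_mem_normalizer hnN)
  have hi₁i' : i₁ * (n * i * n⁻¹) * i₁⁻¹ = (n * i * n⁻¹)⁻¹ := by
    calc i₁ * (n * i * n⁻¹) * i₁⁻¹ = n * (i₀ * i * i₀⁻¹) * n⁻¹ := by rw [hi₁]; group
      _ = n * i⁻¹ * n⁻¹ := by rw [hi₀i]
      _ = (n * i * n⁻¹)⁻¹ := by group
  have hi₁i : i₁ * i * i₁⁻¹ = i⁻¹ := conj_inv_of_pm hni hi₁i'
  have hi₁n : i₁ ∉ Subgroup.zpowers a := by
    intro hm
    obtain ⟨k, hk⟩ := Subgroup.mem_zpowers_iff.mp hm
    have hc : i₁ * i = i * i₁ := by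
      rw [← hk, hi]
      exact (((Commute.refl a).pow_left 2).zpow_right k).eq.symm
    apply ne_inv_of_four hio
    rw [← hi₁i, hc]; group
  obtain ⟨_, hi₁a⟩ := hg.out i₁ hi₁T hi₁n
  set w := n * g with hw
  have hwi : w * i * w⁻¹ = i₁ := by rw [hi₁, hi₀, hw]; group
  have hwu : w * u * w⁻¹ = i ∨ w * u * w⁻¹ = i⁻¹ := by
    have e : w * u * w⁻¹ = n * v * n⁻¹ := by rw [hv, hw]; group
    rw [e]
    rcases hvi with h1 | h1 <;> rcases hni with h2 | h2
    · left; rw [h1, h2]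
    · right; rw [h1, h2]
    · right; rw [h1, ← conj_inv, h2]
    · left; rw [h1, ← conj_inv, h2, inv_inv]
  set b := w⁻¹ * a * w with hb
  have hb2 : b ^ 2 = w⁻¹ * i * w := by
    rw [hb, hi]
    have := conj_pow (a := w⁻¹) (b := a) (i := 2)
    rw [inv_inv] at this
    exact this
  have hib : i * b * i⁻¹ = b⁻¹ := by
    have e1 : i = w⁻¹ * i₁ * w := by rw [← hwi]; group
    calc i * b * i⁻¹ = w⁻¹ * (i₁ * a * i₁⁻¹) * w := by
          conv_lhs => rw [e1]
          rw [hb]; group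
      _ = b⁻¹ := by rw [hi₁a, hb]; group
  rcases hwu with h1 | h1
  · refine ⟨b, ?_, hib⟩
    rw [hb2, ← h1]; group
  · refine ⟨b⁻¹, ?_, ?_⟩
    · rw [inv_pow, hb2]
      have : i = (w * u * w⁻¹)⁻¹ := by rw [h1, inv_inv]
      conv_lhs => rw [this]
      group
    · rw [← conj_inv, hib]

end Cfsg.Agent.Lib.Helper4.Zass
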