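import Mathlib
import Cfsg.Agent.Lib.Helper4.ZassAT2a

/-!
# Module AT2 of the Zassenhaus theorem (S0690), part c: the centraliser of `⟨i, u⟩`
has order prime to 3
-/

set_option autoImplicit false

namespace Cfsg.Agent.Lib.Helper4.Zass

open Cfsg.Agent.Lib.Helper12.Zass

open scoped Pointwise

variable {G : Type*} [Group G]

/-! ### general lemmas -/

theorem conj_mem_closure {S : Set G} {y : G}
    (hS : ∀ s ∈ S, y * s * y⁻¹ ∈ Subgroup.closure S) :
    ∀ q ∈ Subgroup.closure S, y * q * y⁻¹ ∈ Subgroup.closure S := by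
  intro q hq
  induction hq using Subgroup.closure_induction with
  | mem s hs => exact hS s hs
  | one => simp
  | mul p q _ _ hp hq =>
    have : y * (p * q) * y⁻¹ = (y * p * y⁻¹) * (y * q * y⁻¹) := by group
    rw [this]; exact mul_mem hp hq
  | inv p _ hp =>
    have : y * p⁻¹ * y⁻¹ = (y * p * y⁻¹)⁻¹ := by group
    rw [this]; exact inv_mem hp

theorem mem_normalizer_closure [Finite G] {S : Set G} {y : G}
    (hS : ∀ s ∈ S, y * s * y⁻¹ ∈ Subgroup.closure S) :
    y ∈ Subgroup.normalizer (Subgroup.closure S : Set G) :=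
  Subgroup.mem_normalizer_fintype (fun q hq => conj_mem_closure hS q hq)

theorem conj_mem_of_mem_normalizer {K : Subgroup G} {y q : G}
    (hy : y ∈ Subgroup.normalizer (K : Set G)) (hq : q ∈ K) : y * q * y⁻¹ ∈ K :=
  (Subgroup.mem_normalizer_iff.mp hy q).mp hq

theorem conj_mem_centralizer {K : Subgroup G} {a c : G}
    (ha : a ∈ Subgroup.normalizer (K : Set G))
    (hc : c ∈ Subgroup.centralizer (K : Set G)) :
    a * c * a⁻¹ ∈ Subgroup.centralizer (K : Set G) := by
  rw [Subgroup.mem_centralizer_iff]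
  intro k hk
  have hk' : a⁻¹ * k * a ∈ K := by
    have := conj_mem_of_mem_normalizer (inv_mem ha) hk
    simpa using this
  have h1 := Subgroup.mem_centralizer_iff.mp hc _ hk'
  calc k * (a * c * a⁻¹) = a * ((a⁻¹ * k * a) * c) * a⁻¹ := by group
    _ = a * (c * (a⁻¹ * k * a)) * a⁻¹ := by rw [h1]
    _ = a * c * a⁻¹ * k := by group

theorem mem_centralizer_closure_pair {i u c : G} (h1 : c * i = i * c) (h2 : c * u = u * c) :
    c ∈ Subgroup.centralizer (Subgroup.closure ({i, u} : Set G) : Set G) := by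
  have hle : Subgroup.closure ({i, u} : Set G) ≤ Subgroup.centralizer ({c} : Set G) := by
    rw [Subgroup.closure_le]
    intro s hs
    simp only [Set.mem_insert_iff, Set.mem_singleton_iff] at hs
    rw [SetLike.mem_coe, Subgroup.mem_centralizer_iff]
    intro d hd
    rw [Set.mem_singleton_iff] at hd
    subst hd
    rcases hs with rfl | rfl
    · exact h1
    · exact h2
  rw [Subgroup.mem_centralizer_iff]
  intro k hk
  have := Subgroup.mem_centralizer_iff.mp (hle hk) c (Set.mem_singleton c)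
  exact this.symm

/-- conjugation by a normalising element as an automorphism of a subgroup -/
def conjAut (C : Subgroup G) (a : G) (h1 : ∀ c ∈ C, a * c * a⁻¹ ∈ C)
    (h2 : ∀ c ∈ C, a⁻¹ * c * a ∈ C) : MulAut C where
  toFun c := ⟨a * c * a⁻¹, h1 c c.2⟩
  invFun c := ⟨a⁻¹ * c * a, h2 c c.2⟩
  left_inv c := by
    apply Subtype.ext
    simp [mul_assoc]
  right_inv c := by
    apply Subtype.ext
    simp [mul_assoc]
  map_mul' c d := by
    apply Subtype.ext
    simp [mul_assoc]

theorem conjAut_apply (C : Subgroup G) (a : G) (h1 : ∀ c ∈ C, a * c * a⁻¹ ∈ C)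
    (h2 : ∀ c ∈ C, a⁻¹ * c * a ∈ C) (c : C) :
    ((conjAut C a h1 h2 c : C) : G) = a * c * a⁻¹ := rfl

/-- The unique involution is central. -/
theorem sq_central [Finite G] (h : Free3 G) {s : G} (hs : orderOf s = 4) (g : G) :
    g * s ^ 2 = s ^ 2 * g := by
  have h1 : orderOf (g * s ^ 2 * g⁻¹) = 2 := by
    have := MulEquiv.orderOf_eq (MulAut.conj g) (s ^ 2)
    rw [MulAut.conj_apply] at this
    rw [this, orderOf_sq_of_four hs]
  have h2 := h.inv _ _ h1 (orderOf_sq_of_four hs)
  calc g * s ^ 2 = (g * s ^ 2 * g⁻¹) * g := by group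
    _ = s ^ 2 * g := by rw [h2]

/-- In a `p`-subgroup two elements of order `p` generate the same subgroup. -/
theorem mem_zpowers_of_pgroup [Finite G] (h : Free3 G) {p : ℕ} [Fact p.Prime] (P : Subgroup G)
    (hP : IsPGroup p P) {y y' : G} (hy : y ∈ P) (hy' : y' ∈ P) (hyo : orderOf y = p)
    (hyo' : orderOf y' = p) : y' ∈ Subgroup.zpowers y := by
  have hp : p.Prime := Fact.out
  haveI : Nontrivial P := by
    refine ⟨⟨⟨y, hy⟩, 1, ?_⟩⟩
    intro he
    have : y = 1 := congrArg Subtype.val he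
    rw [this, orderOf_one] at hyo
    exact hp.one_lt.ne hyo
  have := hP.center_nontrivial
  have hcp : IsPGroup p (Subgroup.center P) := hP.to_subgroup _
  have hdvd : p ∣ Nat.card (Subgroup.center P) := by
    rcases hcp.card_eq_or_dvd with h1 | h1
    · exfalso
      have := Finite.one_lt_card (α := Subgroup.center P)
      omega
    · exact h1
  obtain ⟨c, hc⟩ := exists_prime_orderOf_dvd_card' (G := Subgroup.center P) p hdvd
  set c₀ : G := ((c : P) : G) with hc₀
  have hc₀o : orderOf c₀ = p := by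
    rw [hc₀, Subgroup.orderOf_coe, Subgroup.orderOf_coe, hc]
  have hcomm : ∀ q ∈ P, q * c₀ = c₀ * q := by
    intro q hq
    have := Subgroup.mem_center_iff.mp c.2 ⟨q, hq⟩
    exact congrArg Subtype.val this
  have h1 : c₀ ∈ Subgroup.zpowers y :=
    mem_zpowers_of_commute h (hcomm y hy) (by rw [hc₀o, hyo])
  have h2 : y' ∈ Subgroup.zpowers c₀ :=
    mem_zpowers_of_commute h (hcomm y' hy').symm (by rw [hc₀o, hyo'])
  exact (Subgroup.zpowers_le.mpr h1) h2

/-! ### the centraliser claim -/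

/-- The centraliser of `K = ⟨i, u⟩` has order prime to 3. -/
theorem three_not_dvd_centralizer [Finite G] (h : Free3 G) (x : G) (hx : orderOf x = 3)
    (Q : Subgroup G) (hQ : QSub x Q) (a j i u : G) (hQP : QP i u) (ha2 : a ^ 2 = i)
    (hau : a * u * a⁻¹ = i * u) (hu : u = a * j) (hiQ : i ∈ Q) (hjQ : j ∈ Q)
    (hij : i * j ≠ j * i) :
    ¬ 3 ∣ Nat.card (Subgroup.centralizer (Subgroup.closure ({i, u} : Set G) : Set G)) := by
  intro h3
  haveI : Fact (Nat.Prime 2) := ⟨Nat.prime_two⟩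
  haveI : Fact (Nat.Prime 3) := ⟨Nat.prime_three⟩
  set K := Subgroup.closure ({i, u} : Set G) with hK
  set C := Subgroup.centralizer (K : Set G) with hC
  have hiK : i ∈ K := Subgroup.subset_closure (by simp)
  have huK : u ∈ K := Subgroup.subset_closure (by simp)
  have hCi : ∀ c ∈ C, c * i = i * c := fun c hc =>
    (Subgroup.mem_centralizer_iff.mp hc i hiK).symm
  have hCu : ∀ c ∈ C, c * u = u * c := fun c hc =>
    (Subgroup.mem_centralizer_iff.mp hc u huK).symm
  -- (f1) the Sylow 2-subgroup of `C` has order 2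
  have h4 : ¬ 4 ∣ Nat.card C := by
    intro h4
    obtain ⟨H, hH⟩ := Sylow.exists_subgroup_card_pow_prime 2 (n := 2) (G := C)
      (by norm_num; exact h4)
    haveI := IsPGroup.isMulCommutative_of_card_eq_prime_sq hH
    set H' := H.map C.subtype with hH'
    have hH'card : Nat.card H' = 4 := by
      rw [hH', Subgroup.card_map_of_injective C.subtype_injective, hH]; norm_num
    have hab : ∀ a ∈ H', ∀ b ∈ H', a * b = b * a := by
      rintro _ ⟨a', ha', rfl⟩ _ ⟨b', hb', rfl⟩
      have := mul_comm' (⟨a', ha'⟩ : H) ⟨b', hb'⟩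
      have := congrArg (fun z : H => ((z : C) : G)) this
      simpa using this
    haveI := h.cyc H' hab
    obtain ⟨r', hr'⟩ := IsCyclic.exists_ofOrder_eq_natCard (α := H')
    have hr4 : orderOf (r' : G) = 4 := by rw [Subgroup.orderOf_coe, hr', hH'card]
    have hrC : (r' : G) ∈ C := by
      obtain ⟨c, _, hc⟩ := r'.2
      rw [← hc]
      exact c.2
    have him : i ∈ Subgroup.zpowers (r' : G) :=
      mem_zpowers_of_commute h (hCi _ hrC) (by rw [hr4, hQP.os])
    obtain ⟨k, hk⟩ := Subgroup.mem_zpowers_iff.mp him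
    apply hQP.ne
    rw [← hk]
    exact ((Commute.zpow_left (hCu _ hrC) k)).eq
  -- (f2) the number of Sylow 3-subgroups of `C` is odd
  have hodd : ¬ 2 ∣ Nat.card (Sylow 3 C) := by
    obtain ⟨P₀⟩ := (inferInstance : Nonempty (Sylow 3 C))
    rw [Sylow.card_eq_index_normalizer P₀]
    intro h2
    apply h4
    have hzC : i ^ 2 ∈ C := by
      rw [hC, Subgroup.mem_centralizer_iff]
      intro k _
      exact sq_central h hQP.os k
    have hzcen : (⟨i ^ 2, hzC⟩ : C) ∈ Subgroup.center C := by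
      rw [Subgroup.mem_center_iff]
      intro g
      apply Subtype.ext
      exact sq_central h hQP.os g
    have hzN := Subgroup.center_le_normalizer ((P₀ : Subgroup C) : Set C) hzcen
    have hzo : orderOf (⟨i ^ 2, hzC⟩ : C) = 2 := by
      rw [← Subgroup.orderOf_coe]
      exact orderOf_sq_of_four hQP.os
    have h2N : 2 ∣ Nat.card (Subgroup.normalizer ((P₀ : Subgroup C) : Set C)) := by
      rw [← hzo]
      exact Subgroup.orderOf_dvd_natCard _ hzN
    have := Subgroup.card_mul_index (Subgroup.normalizer ((P₀ : Subgroup C) : Set C))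
    rw [← this]
    exact Nat.mul_dvd_mul h2N h2
  -- conjugation by `a` on `C`
  have hai : a * i * a⁻¹ = i := by rw [← ha2]; group
  have haN : a ∈ Subgroup.normalizer (K : Set G) := by
    apply mem_normalizer_closure
    intro s hs
    simp only [Set.mem_insert_iff, Set.mem_singleton_iff] at hs
    rcases hs with rfl | rfl
    · rw [hai]; exact hiK
    · rw [hau]; exact mul_mem hiK huK
  have h1 : ∀ c ∈ C, a * c * a⁻¹ ∈ C := fun c hc => conj_mem_centralizer haN hc
  have h2 : ∀ c ∈ C, a⁻¹ * c * a ∈ C := fun c hc => by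
    have := conj_mem_centralizer (inv_mem haN) hc
    simpa using this
  set α := conjAut C a h1 h2 with hα
  have hα2 : α ^ 2 = 1 := by
    apply MulEquiv.ext
    intro c
    apply Subtype.ext
    rw [sq, MulAut.mul_apply, conjAut_apply, conjAut_apply, MulAut.one_apply]
    have hci := hCi c c.2
    calc a * (a * (c : G) * a⁻¹) * a⁻¹ = a ^ 2 * c * (a ^ 2)⁻¹ := by
          simp only [sq, mul_inv_rev, mul_assoc]
      _ = c := by rw [ha2, ← hci]; group
  have hPα : IsPGroup 2 (Subgroup.zpowers α) := by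
    rintro ⟨g, hg⟩
    obtain ⟨n, rfl⟩ := Subgroup.mem_zpowers_iff.mp hg
    refine ⟨1, Subtype.ext ?_⟩
    simp only [pow_one, Subgroup.coe_pow, Subgroup.coe_one]
    rw [← zpow_natCast, ← zpow_mul, mul_comm, zpow_mul, zpow_natCast, hα2, one_zpow]
  obtain ⟨P, hPfix⟩ := hPα.nonempty_fixed_point_of_prime_not_dvd_card (Sylow 3 C) hodd
  have hαP : α • P = P := hPfix ⟨α, Subgroup.mem_zpowers α⟩
  have hαmem : ∀ y ∈ P, α y ∈ P := by
    intro y hy
    have h5 : α • y ∈ α • (P : Subgroup C) := Subgroup.smul_mem_pointwise_smul y α _ hy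
    rw [← Sylow.pointwise_smul_def, hαP] at h5
    exact h5
  -- an element of order 3 of `P`
  have h3P : 3 ∣ Nat.card P := P.dvd_card_of_dvd_card h3
  obtain ⟨y₀', hy₀'⟩ := exists_prime_orderOf_dvd_card' (G := P) 3 h3P
  set y₀ : G := ((y₀' : C) : G) with hy₀
  have hy₀o : orderOf y₀ = 3 := by
    rw [hy₀, Subgroup.orderOf_coe, Subgroup.orderOf_coe, hy₀']
  have hy₀C : y₀ ∈ C := (y₀' : C).2
  set P3 : Subgroup G := (P : Subgroup C).map C.subtype with hP3
  have hP3p : IsPGroup 3 P3 := P.2.map _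
  have hy₀P3 : y₀ ∈ P3 := ⟨(y₀' : C), y₀'.2, rfl⟩
  have hay₀P3 : a * y₀ * a⁻¹ ∈ P3 := ⟨α (y₀' : C), hαmem _ y₀'.2, rfl⟩
  have hay₀o : orderOf (a * y₀ * a⁻¹) = 3 := by
    have := MulEquiv.orderOf_eq (MulAut.conj a) y₀
    rw [MulAut.conj_apply] at this
    rw [this, hy₀o]
  have hmem := mem_zpowers_of_pgroup h P3 hP3p hy₀P3 hay₀P3 hy₀o hay₀o
  obtain ⟨k, hk, hke⟩ := exists_pow_of_mem_zpowers hmem
  rw [hy₀o] at hk
  have hy₀3 : y₀ ^ 3 = 1 := by rw [← hy₀o]; exact pow_orderOf_eq_one y₀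
  have hcases : a * y₀ * a⁻¹ = y₀ ∨ a * y₀ * a⁻¹ = y₀⁻¹ := by
    interval_cases k
    · exfalso
      rw [pow_zero] at hke
      rw [hke, orderOf_one] at hay₀o
      omega
    · left; rw [hke, pow_one]
    · right
      rw [hke, eq_inv_iff_mul_eq_one, ← pow_succ]
      exact hy₀3
  -- `j = a⁻¹ u` normalises `⟨y₀⟩`
  have hj : j = a⁻¹ * u := by rw [hu]; group
  have hjy : j * y₀ * j⁻¹ = a⁻¹ * y₀ * a := by
    have hcu := hCu y₀ hy₀C
    calc j * y₀ * j⁻¹ = a⁻¹ * (u * y₀ * u⁻¹) * a := by rw [hj]; group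
      _ = a⁻¹ * y₀ * a := by rw [← hcu]; group
  have hfin : j * y₀ * j⁻¹ = y₀ ∨ j * y₀ * j⁻¹ = y₀⁻¹ := by
    rw [hjy]
    rcases hcases with he | he
    · left
      calc a⁻¹ * y₀ * a = a⁻¹ * (a * y₀ * a⁻¹) * a := by rw [he]
        _ = y₀ := by group
    · right
      have he' : a * y₀⁻¹ * a⁻¹ = y₀ := by rw [← conj_inv, he, inv_inv]
      calc a⁻¹ * y₀ * a = a⁻¹ * (a * y₀⁻¹ * a⁻¹) * a := by rw [he']
        _ = y₀⁻¹ := by group
  exact h.app3 x y₀ i j Q hx hQ hiQ hjQ hij hy₀o (hCi y₀ hy₀C) hfin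

end Cfsg.Agent.Lib.Helper4.Zass
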