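import Mathlib
import Cfsg.Agent.Lib.Helper4.ZassAT2b
import Cfsg.Agent.Lib.Helper4.ZassAT2c

/-!
# Module AT2 of the Zassenhaus theorem (S0690): `16 ∤ |G|`

`at2` : in a perfect finite group satisfying `Free3`, if some element of order 3 normalises
nontrivially a subgroup of order 8 then 16 does not divide the order of the group.
-/

set_option autoImplicit false

namespace Cfsg.Agent.Lib.Helper4.Zass

open Cfsg.Agent.Lib.Helper12.Zass

variable {G : Type*} [Group G]

/-- Steps e–g: the element `y₁ = a a₃` permutes the three cyclic subgroups of order 4 of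
`K = ⟨i, u⟩` cyclically; a suitable power has order 3 and `app4` applies. -/
theorem final_contra [Finite G] (h : Free3 G) (x : G) (hx : orderOf x = 3) (Q : Subgroup G)
    (hQ : QSub x Q) (T : Subgroup G) (a j : G) (hg : GQ 8 T a) (hQT : Q ≤ T) (hj : j ∈ Q)
    (hi : a ^ 2 ∈ Q) (hij : a ^ 2 * j ≠ j * a ^ 2) (hnorm : ∀ q ∈ Q, a * q * a⁻¹ ∈ Q)
    (a₃ : G) (h3 : a₃ ^ 2 = a * j) (h3i : a ^ 2 * a₃ * (a ^ 2)⁻¹ = a₃⁻¹) : False := by
  haveI : Fact (Nat.Prime 3) := ⟨Nat.prime_three⟩
  have ha8 : orderOf a = 8 := hg.ord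
  have hjT : j ∈ T := hQT hj
  set i := a ^ 2 with hi'
  set u := a * j with hu
  have hio : orderOf i = 4 := by rw [hi', orderOf_pow, ha8]; norm_num
  have hjn : j ∉ Subgroup.zpowers a := by
    intro hjm
    apply hij
    obtain ⟨k, hk⟩ := Subgroup.mem_zpowers_iff.mp hjm
    rw [← hk]
    exact ((Commute.refl a).pow_left 2).zpow_right k |>.eq
  obtain ⟨hj4, hja⟩ := hg.out j hjT hjn
  have huT : u ∈ T := mul_mem hg.mem hjT
  have hun : u ∉ Subgroup.zpowers a := by
    intro hum
    apply hjn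
    have : j = a⁻¹ * u := by rw [hu]; group
    rw [this]
    exact mul_mem (inv_mem (Subgroup.mem_zpowers a)) hum
  obtain ⟨hu4, hua⟩ := hg.out u huT hun
  have hui : u * i * u⁻¹ = i⁻¹ := by rw [hi', ← conj_pow, hua, inv_pow]
  have hQPiu : QP i u := ⟨hio, hu4, hui⟩
  have hQPui : QP u i := hQPiu.symm h
  have hja' : j * a⁻¹ = a * j := by
    have : j * a⁻¹ * j⁻¹ = a := by rw [← conj_inv, hja, inv_inv]
    calc j * a⁻¹ = (j * a⁻¹ * j⁻¹) * j := by group
      _ = a * j := by rw [this]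
  have hau : a * u * a⁻¹ = i * u := by
    calc a * u * a⁻¹ = a * a * (j * a⁻¹) := by rw [hu]; group
      _ = a * a * (a * j) := by rw [hja']
      _ = i * u := by rw [hi', hu, sq]
  have hai : a * i * a⁻¹ = i := by rw [hi']; group
  have E1 : a₃ * u * a₃⁻¹ = u := by rw [← h3]; group
  have hia₃ : i * a₃⁻¹ = a₃ * i := by
    have : i * a₃⁻¹ * i⁻¹ = a₃ := by rw [← conj_inv, h3i, inv_inv]
    calc i * a₃⁻¹ = (i * a₃⁻¹ * i⁻¹) * i := by group
      _ = a₃ * i := by rw [this]
  have E2 : a₃ * i * a₃⁻¹ = u * i := by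
    rw [mul_assoc, hia₃, ← mul_assoc, ← sq, h3]
  set y₁ := a * a₃ with hy₁
  have E3 : y₁ * i * y₁⁻¹ = u := by
    calc y₁ * i * y₁⁻¹ = a * (a₃ * i * a₃⁻¹) * a⁻¹ := by rw [hy₁]; group
      _ = a * (u * i) * a⁻¹ := by rw [E2]
      _ = (a * u * a⁻¹) * (a * i * a⁻¹) := by group
      _ = i * u * i := by rw [hau, hai]
      _ = u := hQPui.tst h
  have E4 : y₁ * u * y₁⁻¹ = i * u := by
    calc y₁ * u * y₁⁻¹ = a * (a₃ * u * a₃⁻¹) * a⁻¹ := by rw [hy₁]; group
      _ = i * u := by rw [E1, hau]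
  have E5 : y₁ * (i * u) * y₁⁻¹ = i := by
    calc y₁ * (i * u) * y₁⁻¹ = (y₁ * i * y₁⁻¹) * (y₁ * u * y₁⁻¹) := by group
      _ = u * (i * u) := by rw [E3, E4]
      _ = u * i * u := by group
      _ = i := hQPiu.tst h
  -- the subgroup `K = ⟨i, u⟩`
  set K := Subgroup.closure ({i, u} : Set G) with hK
  have hiK : i ∈ K := Subgroup.subset_closure (by simp)
  have huK : u ∈ K := Subgroup.subset_closure (by simp)
  have hKT : K ≤ T := by
    rw [hK, Subgroup.closure_le]
    intro s hs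
    simp only [Set.mem_insert_iff, Set.mem_singleton_iff] at hs
    rcases hs with rfl | rfl
    · exact hQT hi
    · exact huT
  have hKN : K ≤ Subgroup.normalizer (Subgroup.zpowers u : Set G) := by
    rw [hK, Subgroup.closure_le]
    intro s hs
    simp only [Set.mem_insert_iff, Set.mem_singleton_iff] at hs
    rcases hs with rfl | rfl
    · apply mem_normalizer_zpowers
      rw [hQPui.conj]
      exact inv_mem (Subgroup.mem_zpowers u)
    · apply mem_normalizer_zpowers
      have : u * u * u⁻¹ = u := by group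
      rw [this]
      exact Subgroup.mem_zpowers u
  have haN : a ∉ Subgroup.normalizer (Subgroup.zpowers u : Set G) := by
    intro hN
    have h1 := conj_mem_zpowers_of_mem_normalizer hN
    rw [hau] at h1
    have hi_mem : i ∈ Subgroup.zpowers u := by
      have := mul_mem h1 (inv_mem (Subgroup.mem_zpowers u))
      simpa using this
    obtain ⟨k, hk⟩ := Subgroup.mem_zpowers_iff.mp hi_mem
    apply hQPiu.ne
    rw [← hk]
    exact ((Commute.refl u).zpow_left k).eq
  have hKcard : Nat.card K = 8 := by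
    have h1 : Nat.card K ∣ 16 := by
      have := Subgroup.card_dvd_of_le hKT
      rwa [hg.card] at this
    have h2 : Nat.card K ≠ 16 := by
      intro h16
      have : K = T := Subgroup.eq_of_le_of_card_ge hKT (by rw [h16, hg.card])
      apply haN
      apply hKN
      rw [this]
      exact hg.mem
    have h3 : 4 ∣ Nat.card K := by
      have := Subgroup.orderOf_dvd_natCard K hiK
      rwa [hio] at this
    have h4 : Nat.card K ≠ 4 := by
      intro h4
      have hle : Subgroup.zpowers i ≤ K := Subgroup.zpowers_le.mpr hiK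
      have : Subgroup.zpowers i = K :=
        Subgroup.eq_of_le_of_card_ge hle (by rw [h4, Nat.card_zpowers, hio])
      have hu_mem : u ∈ Subgroup.zpowers i := by rw [this]; exact huK
      obtain ⟨k, hk⟩ := Subgroup.mem_zpowers_iff.mp hu_mem
      apply hQPiu.ne
      rw [← hk]
      exact ((Commute.refl i).zpow_right k).eq
    have h5 : Nat.card K ≤ 16 := Nat.le_of_dvd (by norm_num) h1
    generalize Nat.card K = c at h1 h2 h3 h4 h5 ⊢
    interval_cases c <;> omega
  have hy₁N : y₁ ∈ Subgroup.normalizer (K : Set G) := by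
    apply mem_normalizer_closure
    intro s hs
    simp only [Set.mem_insert_iff, Set.mem_singleton_iff] at hs
    rcases hs with rfl | rfl
    · rw [E3]; exact huK
    · rw [E4]; exact mul_mem hiK huK
  -- `y₁ ^ 3` centralises `K`
  have h3C := three_not_dvd_centralizer h x hx Q hQ a j i u hQPiu rfl hau hu hi hj hij
  have hci : y₁ ^ 3 * i = i * y₁ ^ 3 := by
    have : y₁ ^ 3 * i * (y₁ ^ 3)⁻¹ = y₁ * (y₁ * (y₁ * i * y₁⁻¹) * y₁⁻¹) * y₁⁻¹ := by
      simp only [pow_succ, pow_zero, one_mul, mul_inv_rev, mul_assoc]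
    rw [E3, E4, E5] at this
    exact mul_inv_eq_iff_eq_mul.mp this
  have hcu : y₁ ^ 3 * u = u * y₁ ^ 3 := by
    have : y₁ ^ 3 * u * (y₁ ^ 3)⁻¹ = y₁ * (y₁ * (y₁ * u * y₁⁻¹) * y₁⁻¹) * y₁⁻¹ := by
      simp only [pow_succ, pow_zero, one_mul, mul_inv_rev, mul_assoc]
    rw [E4, E5, E3] at this
    exact mul_inv_eq_iff_eq_mul.mp this
  have hcC := mem_centralizer_closure_pair hci hcu
  set m := orderOf (y₁ ^ 3) with hm
  have hm3 : ¬ 3 ∣ m := by
    intro h3m
    apply h3C
    exact h3m.trans (Subgroup.orderOf_dvd_natCard _ hcC)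
  have hcop : Nat.Coprime m 3 :=
    ((Nat.Prime.coprime_iff_not_dvd Nat.prime_three).mpr hm3).symm
  set y := y₁ ^ m with hy
  have hy3 : y ^ 3 = 1 := by
    rw [hy, ← pow_mul, mul_comm, pow_mul, hm, pow_orderOf_eq_one]
  have hyi : y * i ≠ i * y := by
    intro hc
    have hZ1 : y₁ ^ m ∈ Subgroup.centralizer ({i} : Set G) := by
      rw [Subgroup.mem_centralizer_iff]
      intro s hs
      rw [Set.mem_singleton_iff] at hs
      rw [hs]
      exact hc.symm
    have hZ3 : y₁ ^ 3 ∈ Subgroup.centralizer ({i} : Set G) := by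
      rw [Subgroup.mem_centralizer_iff]
      intro s hs
      rw [Set.mem_singleton_iff] at hs
      rw [hs]
      exact hci.symm
    have hb : (1 : ℤ) = m * Nat.gcdA m 3 + 3 * Nat.gcdB m 3 := by
      have := Nat.gcd_eq_gcd_ab m 3
      rw [hcop] at this
      exact_mod_cast this
    have hy₁Z : y₁ ∈ Subgroup.centralizer ({i} : Set G) := by
      have e : y₁ = (y₁ ^ m) ^ (Nat.gcdA m 3) * (y₁ ^ 3) ^ (Nat.gcdB m 3) := by
        rw [← zpow_natCast y₁ m, ← zpow_natCast y₁ 3, ← zpow_mul, ← zpow_mul, ← zpow_add]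
        have : ((m : ℕ) : ℤ) * Nat.gcdA m 3 + ((3 : ℕ) : ℤ) * Nat.gcdB m 3 = 1 := by
          rw [hb]; push_cast; ring
        rw [this, zpow_one]
      rw [e]
      exact mul_mem (Subgroup.zpow_mem _ hZ1 _) (Subgroup.zpow_mem _ hZ3 _)
    have h1 := Subgroup.mem_centralizer_iff.mp hy₁Z i (Set.mem_singleton i)
    have h2 : y₁ * i * y₁⁻¹ = i := by rw [← h1]; group
    rw [E3] at h2
    apply hQPiu.ne
    rw [h2]
  have hy1 : y ≠ 1 := by
    intro h1
    apply hyi
    rw [h1, one_mul, mul_one]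
  have hyo : orderOf y = 3 := orderOf_eq_prime hy3 hy1
  have hyN : y ∈ Subgroup.normalizer (K : Set G) := pow_mem hy₁N m
  have hQK : QSub y K :=
    ⟨hKcard, fun q hq => conj_mem_of_mem_normalizer hyN hq, i, hiK,
      fun he => hyi (mul_inv_eq_iff_eq_mul.mp he)⟩
  exact h.app4 x y a j Q K hx hyo hQ hQK ha8 hnorm hi hj hij hiK huK

/-- **Module AT2**: `16 ∤ |G|`. -/
theorem at2 {G : Type*} [Group G] [Finite G] (h : Free3 G) (hperf : commutator G = ⊤) (x : G)
    (hx : orderOf x = 3) (Q : Subgroup G) (hQ : QSub x Q) : ¬ 16 ∣ Nat.card G := by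
  intro h16
  obtain ⟨T, a, j, hg, hQT, hj, hi, hij, hnorm⟩ := exists_setup16 h x hx Q hQ h16
  have h32 := not_dvd_32 h x hx Q hQ T a j hg hQT hj hi hij hnorm
  obtain ⟨a₃, h3, h3i⟩ := exists_a3 h hperf T a j hg (hQT hj) hij h32
  exact final_contra h x hx Q hQ T a j hg hQT hj hi hij hnorm a₃ h3 h3i

end Cfsg.Agent.Lib.Helper4.Zass
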