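import Mathlib
import Cfsg.Agent.Lib.Helper16.PF13Coh
import Cfsg.Agent.Lib.Helper16.PFNineNB
import Cfsg.Agent.Lib.Helper51.PF13SubCoh
import Cfsg.Agent.Lib.Helper58.PFNineElevenMid
import Cfsg.Agent.S1517

/-!
# PF sec.13: the configuration left open by the formalised part of (9.11) (helper4)

Module PF13-[TIGHT-CFG].  For an axis (non-Galois) side `S` of the pair, either `calZ S` is coherent
(helper58's `core_coherent_axis`, `core_coherent_axis_mid`, or uniform degree S1517), or `calZ S`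
has exactly two degrees `e₁ = q a < d e₁ = q u`, every `μ_j` has the larger degree, and there are at
least `2 d` members of degree `e₁`.  In the second case the conclusion of PF13-[ORTH] still holds
(`Lib/Helper4/PFTightAbs.lean` + module PF13-[OT-INST]).
-/

set_option autoImplicit false
set_option linter.unusedVariables false
set_option linter.unusedSectionVars false

namespace Cfsg.Agent.Lib.Helper4.PFTight

open Cfsg Cfsg.Agent.Lib.Helper24.PFCyc Cfsg.Agent.Lib.Helper4.PF Cfsg.Agent.Lib.Helper58.PF9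
  Cfsg.Agent.Lib.Helper16.PF13

section CtxLevel

universe u

variable {L : Type u} [Group L] [Fintype L] {K H U W₁ W₂ H₀ : Subgroup L} {p q : ℕ}

/-- In the non-Galois case: `a ∣ u`, `p ≥ 5`, and `S(H₀C')` has at least `2 u / a` members of
degree `q a`. -/
theorem axis_two_d_count (c : Ctx K H U W₁ W₂ H₀ p q) {H₁ : Subgroup L}
    (hA : IsAxis H U W₁ H₀ H₁ p) :
    (coreC U H₁ H₀).relIndex U ∣ (coreC U H H₀).relIndex U ∧ 5 ≤ p ∧
    2 * ((coreC U H H₀).relIndex U / (coreC U H₁ H₀).relIndex U) ≤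
      {φ : L → ℂ | φ ∈ Sbook K H (H₀ ⊔ ⁅coreC U H H₀, coreC U H H₀⁆) ∧
        φ 1 = ((q * (coreC U H₁ H₀).relIndex U : ℕ) : ℂ)}.ncard := by
  obtain ⟨h1, h2, h3, h4⟩ := axis_index_facts c hA
  set C := coreC U H H₀ with hC
  set a := (coreC U H₁ H₀).relIndex U with ha
  set uu := C.relIndex U with hu
  have hp1 : 0 < p - 1 := Nat.sub_pos_of_lt c.p_prime.one_lt
  have h2a : 2 * a ≤ p - 1 := Nat.le_of_dvd hp1 h2
  refine ⟨h3, by omega, ?_⟩
  have hcount := axis_count_small c hA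
  have hweak := axis_weak_slack c hA
  rw [← ha, ← hC, ← hu] at hweak
  rw [← ha] at hcount
  set N' := {φ : L → ℂ | φ ∈ Sbook K H (H₀ ⊔ ⁅U, U⁆) ∧ IsIrrCharacter L φ ∧
        φ 1 = ((q * a : ℕ) : ℂ)}.ncard with hN'
  have h5 : 2 * a * uu ≤ a ^ 2 * N' := le_trans hweak hcount
  obtain ⟨d, hd⟩ := h3
  have hapos : 0 < a := by omega
  have hdiv : uu / a = d := by rw [hd]; exact Nat.mul_div_cancel_left d hapos
  have h2d : 2 * d ≤ N' := by
    rw [hd] at h5
    have h6 : a ^ 2 * (2 * d) ≤ a ^ 2 * N' := by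
      calc a ^ 2 * (2 * d) = 2 * a * (a * d) := by ring
        _ ≤ a ^ 2 * N' := h5
    exact Nat.le_of_mul_le_mul_left h6 (by positivity)
  rw [hdiv]
  have hfin := Cfsg.Agent.Lib.Helper59.PF9.Sbook_finite (K := K) (H := H) (H₀ ⊔ ⁅C, C⁆)
  have hCU : C ≤ U := coreC_le U H H₀
  have hsub : Sbook K H (H₀ ⊔ ⁅U, U⁆) ⊆ Sbook K H (H₀ ⊔ ⁅C, C⁆) := by
    apply Sbook_anti'
    exact sup_le_sup_left (Subgroup.commutator_mono hCU hCU) _
  have hle : N' ≤ {φ : L → ℂ | φ ∈ Sbook K H (H₀ ⊔ ⁅C, C⁆) ∧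
      φ 1 = ((q * a : ℕ) : ℂ)}.ncard := by
    apply Set.ncard_le_ncard _ (hfin.subset (fun φ hφ => hφ.1))
    rintro φ ⟨h1, -, h3⟩
    exact ⟨hsub h1, h3⟩
  exact le_trans h2d hle

end CtxLevel

section PSideLevel

universe u

variable {G : Type u} [Group G] [Fintype G] {S W₁ U W₂ : Subgroup G} [Fintype S]
  {mu : WChar W₁ W₂ → (↥S → ℂ)} {dl : WChar W₁ W₂ → ℂ} {η : WChar W₁ W₂ → (G → ℂ)}

/-- `C_U(P) = 1` in the language of `coreC` -/
theorem coreC_eq_bot_of_cent (h : PSide S W₁ U W₂ mu dl η)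
    (hctx : Ctx (KM S) (PS S) (U.subgroupOf S) (W₁.subgroupOf S) (W₂.subgroupOf S) ⊥
      (Nat.card W₂) (Nat.card W₁))
    (hC : U ⊓ Subgroup.centralizer ((fittingHallOf S : Subgroup G) : Set G) = ⊥) :
    coreC (U.subgroupOf S) (PS S) ⊥ = ⊥ := by
  rw [eq_bot_iff]
  intro x hx
  have hHn := hctx.H_normal
  rw [mem_coreC_of_normal] at hx
  obtain ⟨hxU, hxc⟩ := hx
  rw [Subgroup.mem_bot]
  have hmem : (x : G) ∈ U ⊓ Subgroup.centralizer ((fittingHallOf S : Subgroup G) : Set G) := by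
    refine Subgroup.mem_inf.mpr ⟨Subgroup.mem_subgroupOf.mp hxU, ?_⟩
    rw [Subgroup.mem_centralizer_iff]
    intro y hy
    have hyS : y ∈ S := by
      have h1 : fittingHallOf S ≤ S := Cfsg.Agent.Lib.Helper4.PF9.fittingHallOf_le S
      exact h1 hy
    have h2 := hxc ⟨y, hyS⟩ (Subgroup.mem_subgroupOf.mpr hy)
    rw [Subgroup.mem_bot] at h2
    have h3 : (x : G) * y * (x : G)⁻¹ * y⁻¹ = 1 := congrArg (fun z : ↥S => (z : G)) h2
    have h4 : (x : G) * y = y * (x : G) := by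
      have := congrArg (fun z => z * y * (x : G)) h3
      simp only [one_mul] at this
      rw [← this]; group
    exact h4.symm
  rw [hC, Subgroup.mem_bot] at hmem
  exact Subtype.ext hmem

/-- **MODULE PF13-[TIGHT-CFG]**: an axis side is coherent or in the two-degree configuration. -/
theorem tight_cfg (h : PSide S W₁ U W₂ mu dl η)
    (hctx : Ctx (KM S) (PS S) (U.subgroupOf S) (W₁.subgroupOf S) (W₂.subgroupOf S) ⊥
      (Nat.card W₂) (Nat.card W₁))
    {H₁ : Subgroup ↥S}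
    (hA : IsAxis (PS S) (U.subgroupOf S) (W₁.subgroupOf S) ⊥ H₁ (Nat.card W₂)) :
    IsCoherent (calZ S) ({1}ᶜ : Set ↥S) (tauM S) ∨
    ∃ e₁ d : ℕ, 2 ≤ d ∧ 0 < e₁ ∧
      (∀ ζ ∈ calZ S, ζ 1 = (e₁ : ℂ) ∨ ζ 1 = ((d * e₁ : ℕ) : ℂ)) ∧
      (∀ ψ : WChar W₁ W₂, TrivOn W₁ ψ → ψ ≠ 1 → muSum mu ψ 1 = ((d * e₁ : ℕ) : ℂ)) ∧
      2 * d ≤ {ζ : ↥S → ℂ | ζ ∈ calZ S ∧ ζ 1 = (e₁ : ℂ)}.ncard ∧ 5 ≤ Nat.card W₂ := by
  classical
  obtain ⟨hZsub, hZchar, hZorth, hZvan, hZmu, hZcases⟩ := Cfsg.Agent.Lib.Helper51.PF13.calZ_facts h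
  -- a nontrivial `ψ` exists, so `calZ S` is nonempty
  have hp2 : 2 ≤ Nat.card W₂ := h.hp.two_le
  set U' := U.subgroupOf S with hU'
  set C := coreC U' (PS S) ⊥ with hC
  set a := (coreC U' H₁ ⊥).relIndex U' with ha
  set uu := C.relIndex U' with hu
  set q := Nat.card W₁ with hq
  have hbot : (⊥ : Subgroup ↥S) ⊔ ⁅C, C⁆ = ⊥ := by
    rw [commutator_US h _ _ (coreC_le _ _ _) (coreC_le _ _ _), sup_idem]
  obtain ⟨hdvd, hp5, hcnt⟩ := axis_two_d_count hctx hA
  rw [← hC, ← ha, ← hu, hbot] at hcnt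
  rw [← hC, ← ha, ← hu] at hdvd
  -- nonemptiness from the count
  obtain ⟨h1a, -, -, -⟩ := axis_index_facts hctx hA
  rw [← ha] at h1a
  have hupos : 0 < uu := by
    rw [hu, Subgroup.relIndex]
    exact Nat.pos_of_ne_zero Subgroup.index_ne_zero_of_finite
  have hd1 : 1 ≤ uu / a := by
    obtain ⟨d, hd⟩ := hdvd
    rw [hd, Nat.mul_div_cancel_left d (by omega)]
    rcases Nat.eq_zero_or_pos d with h0 | h0
    · rw [h0, mul_zero] at hd; omega
    · exact h0
  have hZne : (calZ S).Nonempty := by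
    have hpos : 0 < {ζ : ↥S → ℂ | ζ ∈ calZ S ∧ ζ 1 = ((q * a : ℕ) : ℂ)}.ncard :=
      lt_of_lt_of_le (by omega : 0 < 2 * (uu / a)) hcnt
    obtain ⟨ζ, hζ⟩ := (Set.ncard_pos (((Cfsg.Agent.Lib.Helper59.PF9.Sbook_finite
      (K := KM S) (H := PS S) ⊥).subset (fun φ hφ => hφ.1)))).mp hpos
    exact ⟨ζ, hζ.1⟩
  obtain ⟨R, hR, -, -⟩ := Cfsg.Agent.Lib.Helper51.PF13.subcoherent_calZ h hZne
  by_cases hmid : ∃ φ ∈ Sbook (KM S) (PS S) (⊥ ⊔ ⁅C, C⁆),
      φ 1 ≠ ((q * a : ℕ) : ℂ) ∧ φ 1 ≠ ((q * uu : ℕ) : ℂ)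
  · left
    have := core_coherent_axis_mid hctx hA hmid (tauM S) R (by rw [hbot]; exact hR)
    rw [hbot] at this
    exact this
  rw [hbot] at hmid
  push Not at hmid
  have hdeg : ∀ ζ ∈ calZ S, ζ 1 = ((q * a : ℕ) : ℂ) ∨ ζ 1 = ((q * uu : ℕ) : ℂ) := by
    intro ζ hζ
    by_cases h1 : ζ 1 = ((q * a : ℕ) : ℂ)
    · exact Or.inl h1
    · exact Or.inr (hmid ζ hζ h1)
  by_cases hau : uu = a
  · -- uniform degree
    left
    apply Cfsg.Agent.S1517.result (calZ S) (tauM S) R hR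
    intro φ hφ ψ hψ
    rcases hdeg φ hφ with h1 | h1 <;> rcases hdeg ψ hψ with h2 | h2 <;> rw [h1, h2] <;>
      simp [hau]
  by_cases hCent : U ⊓ Subgroup.centralizer ((fittingHallOf S : Subgroup G) : Set G) = ⊥
  swap
  · -- slack
    left
    have hslack := slack_of_cent_ne_bot h hctx hCent H₁ hA
    have := core_coherent_axis hctx hA hslack (tauM S) R (by rw [← hC, hbot]; exact hR)
    rw [← hC, hbot] at this
    exact this
  right
  have hC0 : C = ⊥ := coreC_eq_bot_of_cent h hctx hCent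
  obtain ⟨d, hd⟩ := hdvd
  have hapos : 0 < a := by omega
  have hdiv : uu / a = d := by rw [hd]; exact Nat.mul_div_cancel_left d hapos
  have hd2 : 2 ≤ d := by
    rcases Nat.lt_or_ge d 2 with hlt | hge
    · exfalso
      interval_cases d
      · rw [mul_zero] at hd; omega
      · rw [mul_one] at hd; exact hau hd
    · exact hge
  have hqpos : 0 < q := h.hq.pos
  have hde : d * (q * a) = q * uu := by rw [hd]; ring
  refine ⟨q * a, d, hd2, Nat.mul_pos hqpos hapos, ?_, ?_, ?_, hp5⟩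
  · intro ζ hζ
    rw [hde]
    exact hdeg ζ hζ
  · intro ψ hψ hψ1
    rw [hde]
    have hmem := hZmu ψ hψ hψ1
    obtain ⟨θ, hθ, heq⟩ := hmem
    -- `θ` is `W₁`-invariant since `muSum mu ψ` is not irreducible
    have hnirr : ¬ IsIrrCharacter ↥S (muSum mu ψ) := by
      intro hirr
      have F := Cfsg.Agent.Lib.Helper26.irrFacts ↥S
      have hn1 := F.orthonormal _ _ hirr hirr
      rw [if_pos rfl] at hn1
      have hq2 : 2 ≤ (trivSet W₁ W₂ W₂).card := by
        rw [Cfsg.Agent.Lib.Helper51.PFCyc.card_trivSet_W₂ h.hP.selfNormalizing]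
        exact h.hq.two_le
      have hnorm : classInner (muSum mu ψ) (muSum mu ψ) =
          ((trivSet W₁ W₂ W₂).card : ℂ) := by
        conv_lhs => rw [show muSum mu ψ = ∑ φ ∈ trivSet W₁ W₂ W₂, mu (φ * ψ) from rfl]
        rw [Cfsg.Agent.Lib.Helper25.classInner_sum_left]
        have : ∀ φ ∈ trivSet W₁ W₂ W₂,
            classInner (mu (φ * ψ)) (∑ φ ∈ trivSet W₁ W₂ W₂, mu (φ * ψ)) = 1 := by
          intro φ hφ
          rw [Cfsg.Agent.Lib.Helper25.classInner_sum_right, Finset.sum_eq_single φ]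
          · rw [F.orthonormal _ _ (h.md.irr _) (h.md.irr _), if_pos rfl]
          · intro φ' _ hne'
            rw [F.orthonormal _ _ (h.md.irr _) (h.md.irr _), if_neg]
            intro e
            exact hne' (mul_right_cancel (h.md.inj e)).symm
          · intro hn; exact absurd hφ hn
        rw [Finset.sum_congr rfl this]
        simp
      rw [hnorm] at hn1
      have : (trivSet W₁ W₂ W₂).card = 1 := by exact_mod_cast hn1
      omega
    have h4 := (Cfsg.Agent.Lib.Helper59.PF9.irr_iff_not_W1Inv hctx ⊥ hθ).1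
    rw [heq] at h4
    have hinv : IsW1Inv (KM S) (W₁.subgroupOf S) hctx.K_normal θ := by
      by_contra hn
      exact hnirr (h4.mpr hn)
    have hθ' : θ ∈ Xset (KM S) (PS S) (⊥ ⊔ coreC U' (PS S) ⊥) := by
      rw [← hC, hC0, sup_idem]
      exact hθ
    obtain ⟨hdegθ, -⟩ := Cfsg.Agent.Lib.Helper16.PFNineNB.axis_reducible_member hctx hA hθ' hinv
    rw [← heq, indFun_one_of_ctx hctx, hdegθ, ← hC, ← hu]
    push_cast
    ring
  · rw [hdiv] at hcnt
    exact hcnt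

end PSideLevel

end Cfsg.Agent.Lib.Helper4.PFTight
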