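import Mathlib
import Cfsg.Agent.Lib.Helper4.PFTenAbs
import Cfsg.Agent.Lib.Helper23.PFCycTau1Mu
import Cfsg.Agent.Lib.Helper25.Norm3

/-!
# The tight case of Peterfalvi (9.11), weak form (helper4)

In the only configuration where the formalised part of (9.11) does not give coherence
(two degrees `e₁ < e₂ = d e₁`, `n₁ ≥ 2d` members `φ_k` of degree `e₁`), the Dade images of the
"bridging" elements `μ_ψ - d φ₀` and `χ - d φ₀` still have the expected inner products with the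
cyclic TI family `η`.  This is what sec. 13 needs from coherence.

* `tight_beta_eta`  : `⟨τ(μ_ψ - d φ₀), η_{φψ'}⟩ = δ [ψ' = ψ]`.
* `tight_gamma_eta` : `⟨τ(χ - d φ₀), η_ω⟩ = 0` for irreducible `χ` of degree `e₂`.

Pure inner-product bookkeeping; `X k` plays the role of `τ₁ φ_k`.
-/

set_option autoImplicit false
set_option linter.unusedVariables false
set_option linter.unusedSectionVars false

namespace Cfsg.Agent.Lib.Helper4.PFTight

open Cfsg Cfsg.Agent.Lib.Helper25 Cfsg.Agent.Lib.Helper24.PFCyc Cfsg.Agent.Lib.Helper4.PFTen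

universe u

variable {G : Type u} [Group G] [Fintype G]

/-- Pythagoras for `u + ∑ a k • X k` with `u ⟂ X k` and `X` orthonormal. -/
theorem classInner_add_orth_sum {I : Type*} [Fintype I] [DecidableEq I] (X : I → G → ℂ)
    (hX : ∀ k k', classInner (X k) (X k') = if k = k' then 1 else 0)
    (u : G → ℂ) (hu : ∀ k, classInner u (X k) = 0) (a : I → ℂ) :
    classInner (u + ∑ k, a k • X k) (u + ∑ k, a k • X k) =
      classInner u u + ∑ k, a k * (starRingEnd ℂ) (a k) := by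
  have h1 : classInner u (∑ k, a k • X k) = 0 := by
    rw [classInner_sum_right]
    apply Finset.sum_eq_zero
    intro k _
    rw [classInner_smul_right, hu k, mul_zero]
  have h2 : classInner (∑ k, a k • X k) u = 0 := classInner_eq_zero_symm h1
  have h3 : classInner (∑ k, a k • X k) (∑ k, a k • X k) = ∑ k, a k * (starRingEnd ℂ) (a k) := by
    rw [classInner_sum_left]
    apply Finset.sum_congr rfl
    intro k _
    rw [classInner_smul_left, classInner_sum_right, Finset.sum_eq_single k]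
    · rw [classInner_smul_right, hX k k, if_pos rfl, mul_one]
    · intro k' _ hk'
      rw [classInner_smul_right, hX k k', if_neg (Ne.symm hk'), mul_zero]
    · intro h; exact absurd (Finset.mem_univ k) h
  rw [classInner_add_left, classInner_add_right, classInner_add_right, h1, h2, h3]
  ring

/-- `c (2d - n c) ≤ 0` for every integer `c` when `n ≥ 2d ≥ 0`. -/
theorem kappa_nonpos (c d n : ℤ) (hd : 0 ≤ d) (hn : 2 * d ≤ n) : c * (2 * d - n * c) ≤ 0 := by
  rcases le_or_gt c 0 with hc | hc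
  · apply mul_nonpos_of_nonpos_of_nonneg hc
    nlinarith
  · apply mul_nonpos_of_nonneg_of_nonpos hc.le
    nlinarith

/-- the sum of squares of the coefficients `c₀, c₀+d, …, c₀+d` -/
theorem sum_sq_coeff {I : Type*} [Fintype I] [DecidableEq I] (k₀ : I) (c₀ d : ℤ) :
    ∑ k : I, (if k = k₀ then c₀ else c₀ + d) ^ 2 =
      c₀ ^ 2 + ((Fintype.card I : ℤ) - 1) * (c₀ + d) ^ 2 := by
  have := sum_base_const k₀ (fun k : I => (if k = k₀ then c₀ else c₀ + d) ^ 2) ((c₀ + d) ^ 2)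
    (fun i hi => by simp only [if_neg hi])
  rw [this]
  simp

variable {W₁ W₂ : Subgroup G} {η : WChar W₁ W₂ → (G → ℂ)}

open Classical in
/-- **Tight case, reducible members.**  `β ψ` stands for `τ(μ_ψ - d φ₀)`. -/
theorem tight_beta_eta (hW : IsSelfNormalizingCyclic W₁ W₂) (hη : IsCyclicTIFamily W₁ W₂ η)
    (hp5 : 5 ≤ Nat.card W₂)
    {I : Type*} [Fintype I] [DecidableEq I] (k₀ : I) (X : I → G → ℂ)
    (hX : ∀ k k', classInner (X k) (X k') = if k = k' then 1 else 0)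
    (hXη : ∀ k ω, classInner (X k) (η ω) = 0)
    (d : ℕ) (hn1 : 2 * d ≤ Fintype.card I)
    (δ : ℤ) (hδ : δ = 1 ∨ δ = -1)
    (β : WChar W₁ W₂ → (G → ℂ)) (ψ₁ : WChar W₁ W₂) (hψ₁ : TrivOn W₁ ψ₁) (hψ₁1 : ψ₁ ≠ 1)
    (c₀ : ℤ) (hβ0 : classInner (β ψ₁) (X k₀) = c₀)
    (hβX : ∀ k, k ≠ k₀ → classInner (β ψ₁) (X k) = classInner (β ψ₁) (X k₀) + d)
    (e : WChar W₁ W₂ → ℤ) (he : ∀ ω, classInner (β ψ₁) (η ω) = e ω) (he1 : e 1 = 0)
    (hrect : ∀ φ ψ : WChar W₁ W₂, TrivOn W₂ φ → TrivOn W₁ ψ → e (φ * ψ) = e φ + e ψ)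
    (hβnorm : ∀ ψ, TrivOn W₁ ψ → ψ ≠ 1 →
      classInner (β ψ) (β ψ) = (Nat.card W₁ : ℂ) + (d : ℂ) ^ 2)
    (hβdiff : ∀ ψ, TrivOn W₁ ψ → ψ ≠ 1 →
      β ψ - β ψ₁ = (δ : ℂ) • (etaSum η ψ - etaSum η ψ₁)) :
    ∀ φ ψ : WChar W₁ W₂, TrivOn W₂ φ → TrivOn W₁ ψ →
      classInner (β ψ₁) (η (φ * ψ)) = if ψ = ψ₁ then (δ : ℂ) else 0 := by
  classical
  have : Fintype (WChar W₁ W₂) := Fintype.ofFinite _
  -- the coefficients on the `X k`
  set aZ : I → ℤ := fun k => if k = k₀ then c₀ else c₀ + d with haZ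
  set a : I → ℂ := fun k => ((aZ k : ℤ) : ℂ) with ha
  have haX : ∀ k, classInner (β ψ₁) (X k) = a k := by
    intro k
    by_cases hk : k = k₀
    · subst hk
      rw [ha, haZ]; simp only [if_true]; exact hβ0
    · rw [ha, haZ]; simp only [if_neg hk]
      rw [hβX k hk, hβ0]; push_cast; ring
  have hδ2 : (δ : ℂ) * (starRingEnd ℂ) (δ : ℂ) = 1 := by
    rcases hδ with h | h <;> rw [h] <;> simp
  have hδconj : (starRingEnd ℂ) (δ : ℂ) = (δ : ℂ) := by simp
  -- `etaSum ⟂ X`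
  have hEX : ∀ ψ k, classInner (etaSum η ψ) (X k) = 0 := by
    intro ψ k
    unfold etaSum
    rw [classInner_sum_left]
    apply Finset.sum_eq_zero
    intro φ _
    exact classInner_eq_zero_symm (hXη k _)
  -- the residual `D`
  set D : G → ℂ := β ψ₁ - ∑ k, a k • X k - (δ : ℂ) • etaSum η ψ₁ with hD
  have hDX : ∀ k, classInner D (X k) = 0 := by
    intro k
    rw [hD, classInner_sub_left, classInner_sub_left, classInner_smul_left, hEX, mul_zero,
      sub_zero, classInner_sum_left, Finset.sum_eq_single k]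
    · rw [classInner_smul_left, hX k k, if_pos rfl, mul_one, haX]; exact sub_self _
    · intro k' _ hk'
      rw [classInner_smul_left, hX k' k, if_neg hk', mul_zero]
    · intro h; exact absurd (Finset.mem_univ k) h
  have hβeq : ∀ ψ, TrivOn W₁ ψ → ψ ≠ 1 →
      β ψ = (D + (δ : ℂ) • etaSum η ψ) + ∑ k, a k • X k := by
    intro ψ h1 h2
    have h3 := hβdiff ψ h1 h2
    rw [sub_eq_iff_eq_add] at h3
    rw [h3, hD, smul_sub]; abel
  -- coefficients of `D` on the `η`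
  set A : WChar W₁ W₂ → ℤ := fun φ => e φ with hA
  set B : WChar W₁ W₂ → ℤ := fun ψ => e ψ - δ * (if ψ = ψ₁ then 1 else 0) with hB
  have hDη : ∀ φ ψ : WChar W₁ W₂, TrivOn W₂ φ → TrivOn W₁ ψ →
      classInner D (η (φ * ψ)) = ((A φ + B ψ : ℤ) : ℂ) := by
    intro φ ψ hφ hψ
    rw [hD, classInner_sub_left, classInner_sub_left, classInner_smul_left, he, hrect φ ψ hφ hψ,
      Cfsg.Agent.Lib.Helper23.PFCycTau1Mu.etaSum_inner_eta hη hφ hψ hψ₁, classInner_sum_left]
    have h0 : ∑ k, classInner (a k • X k) (η (φ * ψ)) = 0 := by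
      apply Finset.sum_eq_zero
      intro k _
      rw [classInner_smul_left, hXη, mul_zero]
    rw [h0, hA, hB]
    by_cases h : ψ = ψ₁
    · simp only [if_pos h]; push_cast; ring
    · simp only [if_neg h]; push_cast; ring
  -- `s ψ`
  set s : WChar W₁ W₂ → ℤ := fun ψ => ∑ φ ∈ trivSet W₁ W₂ W₂, (A φ + B ψ) with hs
  have hDE : ∀ ψ, TrivOn W₁ ψ → classInner D (etaSum η ψ) = ((s ψ : ℤ) : ℂ) := by
    intro ψ hψ
    unfold etaSum
    rw [classInner_sum_right, hs]
    push_cast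
    apply Finset.sum_congr rfl
    intro φ hφ
    rw [hDη φ ψ (mem_trivSet.1 hφ) hψ]; push_cast; ring
  have hED : ∀ ψ, TrivOn W₁ ψ → classInner (etaSum η ψ) D = ((s ψ : ℤ) : ℂ) := by
    intro ψ hψ
    rw [← classInner_conj_symm, hDE ψ hψ]; simp
  have hqc : (trivSet W₁ W₂ W₂).card = Nat.card W₁ :=
    Cfsg.Agent.Lib.Helper51.PFCyc.card_trivSet_W₂ hW
  have hpc : (trivSet W₁ W₂ W₁).card = Nat.card W₂ :=
    Cfsg.Agent.Lib.Helper23.PFCycTau1Mu.card_trivSet_left hW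
  -- the norm identity (*)
  set ND : ℝ := (classInner D D).re with hND
  have hDD : classInner D D = (ND : ℂ) := by
    apply Complex.ext
    · simp [hND]
    · rw [classInner_self_im]; simp
  have hND0 : 0 ≤ ND := classInner_self_re_nonneg D
  set n1 : ℤ := (Fintype.card I : ℤ) with hn1def
  set κ : ℤ := (d : ℤ) ^ 2 - (c₀ ^ 2 + (n1 - 1) * (c₀ + d) ^ 2) with hκ
  have hstar : ∀ ψ, TrivOn W₁ ψ → ψ ≠ 1 → ND = (κ : ℝ) - 2 * (δ : ℝ) * (s ψ : ℝ) := by
    intro ψ h1 h2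
    have hu : ∀ k, classInner (D + (δ : ℂ) • etaSum η ψ) (X k) = 0 := by
      intro k
      rw [classInner_add_left, hDX, classInner_smul_left, hEX, mul_zero, add_zero]
    have h3 := classInner_add_orth_sum X hX (D + (δ : ℂ) • etaSum η ψ) hu a
    rw [← hβeq ψ h1 h2, hβnorm ψ h1 h2] at h3
    have h4 : classInner (D + (δ : ℂ) • etaSum η ψ) (D + (δ : ℂ) • etaSum η ψ) =
        (ND : ℂ) + 2 * (δ : ℂ) * ((s ψ : ℤ) : ℂ) + (Nat.card W₁ : ℂ) := by
      rw [classInner_add_left, classInner_add_right, classInner_add_right, classInner_smul_left,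
        classInner_smul_left, classInner_smul_right, classInner_smul_right, hDD, hDE ψ h1,
        hED ψ h1, Cfsg.Agent.Lib.Helper23.PFCycTau1Mu.etaSum_inner_etaSum hW hη h1 h1, if_pos rfl,
        hδconj]
      have : (δ : ℂ) * ((δ : ℂ) * (Nat.card W₁ : ℂ)) = (Nat.card W₁ : ℂ) := by
        rw [← mul_assoc]
        have h5 := hδ2
        rw [hδconj] at h5
        rw [h5, one_mul]
      rw [this]; ring
    have h5 : ∑ k, a k * (starRingEnd ℂ) (a k) =
        (((c₀ ^ 2 + (n1 - 1) * (c₀ + d) ^ 2 : ℤ)) : ℂ) := by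
      rw [← sum_sq_coeff k₀ c₀ d]
      push_cast
      apply Finset.sum_congr rfl
      intro k _
      rw [ha]; simp only [map_intCast]; rw [haZ]; push_cast; ring
    rw [h4, h5] at h3
    -- compare real parts
    have h6 := congrArg Complex.re h3
    simp only [Complex.add_re, Complex.natCast_re, Complex.ofReal_re, Complex.mul_re,
      Complex.intCast_re, Complex.intCast_im, Complex.re_ofNat, Complex.im_ofNat,
      mul_zero, sub_zero] at h6
    have h7 : (((d : ℂ) ^ 2).re) = ((d : ℝ)) ^ 2 := by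
      have : ((d : ℂ) ^ 2) = (((d : ℝ) ^ 2 : ℝ) : ℂ) := by push_cast; ring
      rw [this, Complex.ofReal_re]
    rw [h7] at h6
    rw [hκ]
    push_cast
    push_cast at h6
    linarith
  -- `B` is constant on `Ψ`
  have hq0 : 0 < (trivSet W₁ W₂ W₂).card := by
    apply Finset.card_pos.mpr
    exact ⟨1, mem_trivSet.2 (trivOn_one _)⟩
  have hδne : (δ : ℝ) ≠ 0 := by
    rcases hδ with h | h <;> rw [h] <;> norm_num
  have hsconst : ∀ ψ, TrivOn W₁ ψ → ψ ≠ 1 → s ψ = s ψ₁ := by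
    intro ψ h1 h2
    have h3 := hstar ψ h1 h2
    have h4 := hstar ψ₁ hψ₁ hψ₁1
    have h5 : (δ : ℝ) * (s ψ : ℝ) = (δ : ℝ) * (s ψ₁ : ℝ) := by linarith
    have h6 := mul_left_cancel₀ hδne h5
    exact_mod_cast h6
  have hssplit : ∀ ψ, s ψ = ∑ φ ∈ trivSet W₁ W₂ W₂, A φ + (trivSet W₁ W₂ W₂).card * B ψ := by
    intro ψ
    rw [hs]
    simp only [Finset.sum_add_distrib, Finset.sum_const, nsmul_eq_mul]
  have hBconst : ∀ ψ, TrivOn W₁ ψ → ψ ≠ 1 → B ψ = B ψ₁ := by
    intro ψ h1 h2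
    have h3 := hsconst ψ h1 h2
    rw [hssplit ψ, hssplit ψ₁] at h3
    have h4 : ((trivSet W₁ W₂ W₂).card : ℤ) * B ψ = ((trivSet W₁ W₂ W₂).card : ℤ) * B ψ₁ := by
      linarith
    have h5 : ((trivSet W₁ W₂ W₂).card : ℤ) ≠ 0 := by
      have : (0 : ℤ) < ((trivSet W₁ W₂ W₂).card : ℤ) := by exact_mod_cast hq0
      exact this.ne'
    exact mul_left_cancel₀ h5 h4
  -- `Q`
  set b : ℤ := B ψ₁ with hb
  set Q : ℤ := ∑ φ ∈ trivSet W₁ W₂ W₂, (A φ + b) ^ 2 with hQ
  have hQ0 : 0 ≤ Q := Finset.sum_nonneg (fun φ _ => sq_nonneg _)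
  have hsQ : s ψ₁ ≤ Q ∧ -(s ψ₁) ≤ Q := by
    constructor
    · rw [hs, hQ]
      apply Finset.sum_le_sum
      intro φ _
      show A φ + b ≤ (A φ + b) ^ 2
      nlinarith [sq_nonneg (A φ + b), sq_nonneg (A φ + b - 1)]
    · rw [hs, hQ, ← Finset.sum_neg_distrib]
      apply Finset.sum_le_sum
      intro φ _
      show -(A φ + b) ≤ (A φ + b) ^ 2
      nlinarith [sq_nonneg (A φ + b), sq_nonneg (A φ + b + 1)]
  have hκ0 : κ ≤ 0 := by
    have h1 := kappa_nonpos (c₀ + d) d n1 (by positivity) (by rw [hn1def]; exact_mod_cast hn1)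
    have h2 : κ = (c₀ + d) * (2 * d - n1 * (c₀ + d)) := by rw [hκ]; ring
    rw [h2]; exact h1
  have hND2 : ND ≤ 2 * (Q : ℝ) := by
    have h1 := hstar ψ₁ hψ₁ hψ₁1
    have h2 : (κ : ℝ) ≤ 0 := by exact_mod_cast hκ0
    have h3 : (s ψ₁ : ℝ) ≤ (Q : ℝ) := by exact_mod_cast hsQ.1
    have h4 : -(s ψ₁ : ℝ) ≤ (Q : ℝ) := by exact_mod_cast hsQ.2
    rcases hδ with h | h
    · rw [h] at h1; push_cast at h1; linarith
    · rw [h] at h1; push_cast at h1; linarith
  -- Bessel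
  have hbes : ∑ ω : WChar W₁ W₂, ‖classInner D (η ω)‖ ^ 2 ≤ ND :=
    bessel η (fun a b => by convert hη.orthonormal a b) D
  have hrows := Cfsg.Agent.Lib.Helper23.PFCycTau1Mu.rows_le (W₁ := W₁) (W₂ := W₂)
    (fun ω => ‖classInner D (η ω)‖ ^ 2) (fun ω => by positivity)
  have hΨsub : (trivSet W₁ W₂ W₁).erase 1 ⊆ trivSet W₁ W₂ W₁ := Finset.erase_subset _ _
  have hrow1 : ∑ ψ ∈ (trivSet W₁ W₂ W₁).erase 1, ∑ φ ∈ trivSet W₁ W₂ W₂,
      ‖classInner D (η (φ * ψ))‖ ^ 2 ≤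
      ∑ ψ ∈ trivSet W₁ W₂ W₁, ∑ φ ∈ trivSet W₁ W₂ W₂, ‖classInner D (η (φ * ψ))‖ ^ 2 := by
    apply Finset.sum_le_sum_of_subset_of_nonneg hΨsub
    intro ψ _ _
    exact Finset.sum_nonneg (fun φ _ => by positivity)
  have hrow2 : ∑ ψ ∈ (trivSet W₁ W₂ W₁).erase 1, ∑ φ ∈ trivSet W₁ W₂ W₂,
      ‖classInner D (η (φ * ψ))‖ ^ 2 = ((Nat.card W₂ : ℝ) - 1) * (Q : ℝ) := by
    have h1 : ∀ ψ ∈ (trivSet W₁ W₂ W₁).erase 1, ∑ φ ∈ trivSet W₁ W₂ W₂,
        ‖classInner D (η (φ * ψ))‖ ^ 2 = (Q : ℝ) := by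
      intro ψ hψ
      have hψ1 : ψ ≠ 1 := Finset.ne_of_mem_erase hψ
      have hψt : TrivOn W₁ ψ := mem_trivSet.1 (Finset.mem_of_mem_erase hψ)
      rw [hQ]
      push_cast
      apply Finset.sum_congr rfl
      intro φ hφ
      rw [hDη φ ψ (mem_trivSet.1 hφ) hψt, hBconst ψ hψt hψ1, Complex.norm_intCast, sq_abs]
      push_cast
      rfl
    rw [Finset.sum_congr rfl h1, Finset.sum_const, nsmul_eq_mul,
      Finset.card_erase_of_mem (mem_trivSet.2 (trivOn_one _)), hpc]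
    have : 1 ≤ Nat.card W₂ := by omega
    push_cast [Nat.cast_sub this]
    ring
  have hQ00 : Q = 0 := by
    have h1 : ((Nat.card W₂ : ℝ) - 1) * (Q : ℝ) ≤ 2 * (Q : ℝ) := by
      rw [← hrow2]
      exact le_trans hrow1 (le_trans hrows (le_trans hbes hND2))
    have h2 : (5 : ℝ) ≤ (Nat.card W₂ : ℝ) := by exact_mod_cast hp5
    have h3 : (0 : ℝ) ≤ (Q : ℝ) := by exact_mod_cast hQ0
    have h4 : (Q : ℝ) ≤ 0 := by nlinarith
    have h5 : (Q : ℝ) = 0 := le_antisymm h4 h3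
    exact_mod_cast h5
  have hAb : ∀ φ ∈ trivSet W₁ W₂ W₂, A φ + b = 0 := by
    intro φ hφ
    have h1 := (Finset.sum_eq_zero_iff_of_nonneg (fun φ _ => sq_nonneg (A φ + b))).mp
      (by rw [← hQ]; exact hQ00) φ hφ
    exact pow_eq_zero_iff (two_ne_zero) |>.mp h1
  have hb0 : b = 0 := by
    have h1 := hAb 1 (mem_trivSet.2 (trivOn_one _))
    rw [hA] at h1
    simp only [he1, zero_add] at h1
    exact h1
  have hA0 : ∀ φ, TrivOn W₂ φ → e φ = 0 := by
    intro φ hφ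
    have h1 := hAb φ (mem_trivSet.2 hφ)
    rw [hb0, add_zero] at h1
    exact h1
  -- conclusion
  intro φ ψ hφ hψ
  rw [he, hrect φ ψ hφ hψ, hA0 φ hφ, zero_add]
  by_cases hψ1 : ψ = 1
  · subst hψ1
    rw [he1, if_neg (Ne.symm hψ₁1)]; simp
  · have h1 := hBconst ψ hψ hψ1
    rw [hb0, hB] at h1
    simp only at h1
    by_cases h : ψ = ψ₁
    · rw [if_pos h] at h1 ⊢
      have : e ψ = δ := by linarith
      rw [this]
    · rw [if_neg h] at h1 ⊢
      have : e ψ = 0 := by linarith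
      rw [this]; simp

/-- the residual of a generalized character `γ` of norm `1 + d²` whose coefficients on the
orthonormal family `X` are `c₀, c₀ + d, …, c₀ + d` (with `n₁ ≥ 2d`): it is `0` or `± irreducible`. -/
theorem resid_facts {I : Type*} [Fintype I] [DecidableEq I] (k₀ : I) (X : I → G → ℂ)
    (hX : ∀ k k', classInner (X k) (X k') = if k = k' then 1 else 0)
    (hXgen : ∀ k, IsGeneralizedCharacter G (X k))
    (d : ℕ) (hn1 : 2 * d ≤ Fintype.card I)
    (γ : G → ℂ) (hγ : IsGeneralizedCharacter G γ)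
    (hγX : ∀ k, k ≠ k₀ → classInner γ (X k) = classInner γ (X k₀) + d)
    (hγn : classInner γ γ = 1 + (d : ℂ) ^ 2) :
    ∃ (c₀ : ℤ) (Y : G → ℂ),
      γ = Y + ∑ k, (((if k = k₀ then c₀ else c₀ + d : ℤ)) : ℂ) • X k ∧
      (∀ k, classInner Y (X k) = 0) ∧ (Y = 0 ∨ SIrr G Y) := by
  classical
  have F := Cfsg.Agent.Lib.Helper26.irrFacts G
  obtain ⟨c₀, hc₀, -⟩ := inner_int' hγ (hXgen k₀)
  set aZ : I → ℤ := fun k => if k = k₀ then c₀ else c₀ + d with haZ
  set a : I → ℂ := fun k => ((aZ k : ℤ) : ℂ) with ha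
  have haX : ∀ k, classInner γ (X k) = a k := by
    intro k
    by_cases hk : k = k₀
    · subst hk
      rw [ha, haZ]; simp only [if_true]; exact hc₀
    · rw [ha, haZ]; simp only [if_neg hk]
      rw [hγX k hk, hc₀]; push_cast; ring
  set Y : G → ℂ := γ - ∑ k, a k • X k with hY
  have hYX : ∀ k, classInner Y (X k) = 0 := by
    intro k
    rw [hY, classInner_sub_left, classInner_sum_left, Finset.sum_eq_single k]
    · rw [classInner_smul_left, hX k k, if_pos rfl, mul_one, haX]; exact sub_self _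
    · intro k' _ hk'
      rw [classInner_smul_left, hX k' k, if_neg hk', mul_zero]
    · intro h; exact absurd (Finset.mem_univ k) h
  have hγeq : γ = Y + ∑ k, a k • X k := by rw [hY]; abel
  have hYgen : IsGeneralizedCharacter G Y := by
    rw [hY]
    apply F.gen_sub hγ
    apply F.gen_sum
    intro k _
    have : a k • X k = aZ k • X k := by
      rw [ha]; exact Int.cast_smul_eq_zsmul ℂ (aZ k) (X k)
    rw [this]
    exact F.gen_zsmul _ (hXgen k)
  refine ⟨c₀, Y, hγeq, hYX, ?_⟩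
  -- norm of `Y`
  set n1 : ℤ := (Fintype.card I : ℤ) with hn1def
  set κ : ℤ := (d : ℤ) ^ 2 - (c₀ ^ 2 + (n1 - 1) * (c₀ + d) ^ 2) with hκ
  have h3 := classInner_add_orth_sum X hX Y hYX a
  rw [← hγeq, hγn] at h3
  have h5 : ∑ k, a k * (starRingEnd ℂ) (a k) =
      (((c₀ ^ 2 + (n1 - 1) * (c₀ + d) ^ 2 : ℤ)) : ℂ) := by
    rw [← sum_sq_coeff k₀ c₀ d]
    push_cast
    apply Finset.sum_congr rfl
    intro k _
    rw [ha]; simp only [map_intCast]; rw [haZ]; push_cast; ring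
  rw [h5] at h3
  have hYY : classInner Y Y = ((1 + κ : ℤ) : ℂ) := by
    rw [hκ]; push_cast; push_cast at h3
    linear_combination -h3
  have hκ0 : κ ≤ 0 := by
    have h1 := kappa_nonpos (c₀ + d) d n1 (by positivity) (by rw [hn1def]; exact_mod_cast hn1)
    have h2 : κ = (c₀ + d) * (2 * d - n1 * (c₀ + d)) := by rw [hκ]; ring
    rw [h2]; exact h1
  have hκ1 : 0 ≤ 1 + κ := by
    have h1 := classInner_self_re_nonneg Y
    rw [hYY, Complex.intCast_re] at h1
    exact_mod_cast h1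
  have hκcases : κ = 0 ∨ κ = -1 := by omega
  rcases hκcases with h | h
  · right
    apply sirr_of_norm_one hYgen
    rw [hYY, h]; simp
  · left
    apply eq_zero_of_classInner_self
    rw [hYY, h]; simp

/-- **Tight case, irreducible members of the larger degree.**  `γ` stands for `τ(χ - d φ₀)` and
`γ'` for `τ(χ̄ - d φ₀)`. -/
theorem tight_gamma_eta (hη : IsCyclicTIFamily W₁ W₂ η)
    {I : Type*} [Fintype I] [DecidableEq I] (k₀ : I) (X : I → G → ℂ)
    (hX : ∀ k k', classInner (X k) (X k') = if k = k' then 1 else 0)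
    (hXgen : ∀ k, IsGeneralizedCharacter G (X k))
    (hXη : ∀ k ω, classInner (X k) (η ω) = 0)
    (d : ℕ) (hn1 : 2 * d ≤ Fintype.card I) (hn3 : 3 ≤ Fintype.card I)
    (γ γ' : G → ℂ) (hγ : IsGeneralizedCharacter G γ) (hγ' : IsGeneralizedCharacter G γ')
    (hγX : ∀ k, k ≠ k₀ → classInner γ (X k) = classInner γ (X k₀) + d)
    (hγ'X : ∀ k, k ≠ k₀ → classInner γ' (X k) = classInner γ' (X k₀) + d)
    (hγn : classInner γ γ = 1 + (d : ℂ) ^ 2) (hγ'n : classInner γ' γ' = 1 + (d : ℂ) ^ 2)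
    (hdiffη : ∀ ω, classInner (γ - γ') (η ω) = 0)
    (hdiffn : classInner (γ - γ') (γ - γ') = 2) :
    ∀ ω, classInner γ (η ω) = 0 := by
  classical
  intro ω
  by_contra hne
  obtain ⟨c₀, Y, hγeq, hYX, hY⟩ := resid_facts k₀ X hX hXgen d hn1 γ hγ hγX hγn
  obtain ⟨c₀', Y', hγ'eq, hY'X, hY'⟩ := resid_facts k₀ X hX hXgen d hn1 γ' hγ' hγ'X hγ'n
  have hsum0 : ∀ (a : I → ℂ), classInner (∑ k, a k • X k) (η ω) = 0 := by
    intro a
    rw [classInner_sum_left]
    apply Finset.sum_eq_zero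
    intro k _
    rw [classInner_smul_left, hXη, mul_zero]
  have h1 : classInner γ (η ω) = classInner Y (η ω) := by
    conv_lhs => rw [hγeq]
    rw [classInner_add_left, hsum0, add_zero]
  have h2 : classInner γ' (η ω) = classInner Y' (η ω) := by
    conv_lhs => rw [hγ'eq]
    rw [classInner_add_left, hsum0, add_zero]
  have h3 : classInner γ' (η ω) = classInner γ (η ω) := by
    have := hdiffη ω
    rw [classInner_sub_left] at this
    exact (sub_eq_zero.mp this).symm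
  have hYne : classInner Y (η ω) ≠ 0 := by rw [← h1]; exact hne
  have hY'ne : classInner Y' (η ω) ≠ 0 := by rw [← h2, h3]; exact hne
  have hYY' : classInner Y' (η ω) = classInner Y (η ω) := by rw [← h2, ← h1, h3]
  have hηs : SIrr G (η ω) := hη.irr_or_neg ω
  have hYs : SIrr G Y := by
    rcases hY with h | h
    · exfalso; apply hYne; rw [h, classInner_zero_left]
    · exact h
  have hY's : SIrr G Y' := by
    rcases hY' with h | h
    · exfalso; apply hY'ne; rw [h, classInner_zero_left]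
    · exact h
  have hYeq : Y = Y' := by
    rcases hYs.inner_tri hηs with ⟨ha, hb⟩ | ⟨ha, hb⟩ | ha
    · rcases hY's.inner_tri hηs with ⟨ha', hb'⟩ | ⟨ha', hb'⟩ | ha'
      · rw [hb, hb']
      · exfalso; rw [ha, ha'] at hYY'; norm_num at hYY'
      · exact absurd ha' hY'ne
    · rcases hY's.inner_tri hηs with ⟨ha', hb'⟩ | ⟨ha', hb'⟩ | ha'
      · exfalso; rw [ha, ha'] at hYY'; norm_num at hYY'
      · rw [hb, hb']
      · exact absurd ha' hY'ne
    · exact absurd ha hYne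
  -- `γ - γ' = (c₀ - c₀') • ∑ X k`
  have hdiff : γ - γ' = (0 : G → ℂ) + ∑ k, (((c₀ - c₀' : ℤ)) : ℂ) • X k := by
    rw [hγeq, hγ'eq, hYeq, zero_add, add_sub_add_left_eq_sub, ← Finset.sum_sub_distrib]
    apply Finset.sum_congr rfl
    intro k _
    rw [← sub_smul]
    congr 1
    by_cases hk : k = k₀
    · simp only [if_pos hk]; push_cast; ring
    · simp only [if_neg hk]; push_cast; ring
  have hnorm := classInner_add_orth_sum X hX (0 : G → ℂ) (fun k => classInner_zero_left _)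
    (fun _ => (((c₀ - c₀' : ℤ)) : ℂ))
  rw [← hdiff, hdiffn, classInner_zero_left, zero_add] at hnorm
  simp only [map_intCast, Finset.sum_const, Finset.card_univ, nsmul_eq_mul] at hnorm
  have hint : (2 : ℤ) = (Fintype.card I : ℤ) * ((c₀ - c₀') * (c₀ - c₀')) := by
    exact_mod_cast hnorm
  have hn3' : (3 : ℤ) ≤ (Fintype.card I : ℤ) := by exact_mod_cast hn3
  rcases eq_or_ne (c₀ - c₀') 0 with h | h
  · rw [h] at hint; norm_num at hint
  · have h4 : 1 ≤ (c₀ - c₀') * (c₀ - c₀') := by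
      have : 0 < (c₀ - c₀') * (c₀ - c₀') := mul_self_pos.mpr h
      omega
    nlinarith

end Cfsg.Agent.Lib.Helper4.PFTight
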