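import Mathlib

set_option autoImplicit false

namespace Cfsg.Agent.Lib.Helper4

variable {G : Type*} [Group G]

/-- The conjugacy class of `t` is in bijection with the cosets of its centralizer. -/
noncomputable def conjClassEquivQuotient (t : G) :
    {v : G // IsConj t v} ≃ G ⧸ Subgroup.centralizer ({t} : Set G) :=
  (Equiv.subtypeEquivRight (fun v => by
      rw [ConjAct.mem_orbit_conjAct, isConj_comm])).symm.trans
    ((MulAction.orbitEquivQuotientStabilizer (ConjAct G) t).trans
      (Subgroup.quotientEquivOfEq (ConjAct.stabilizer_eq_centralizer t)))

theorem card_isConj_mul_card_centralizer [Finite G] (t : G) :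
    Nat.card {v : G // IsConj t v} * Nat.card (Subgroup.centralizer ({t} : Set G)) =
      Nat.card G := by
  rw [Nat.card_congr (conjClassEquivQuotient t)]
  exact (Subgroup.card_eq_card_quotient_mul_card_subgroup _).symm

end Cfsg.Agent.Lib.Helper4
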