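import Mathlib
import Cfsg.Agent.Lib.Helper4.Invol
import Cfsg.Agent.Lib.Helper4.SylowTwo
import Cfsg.Agent.S0111

/-!
# Groups with an involution whose centralizer is dihedral of order 8: group theory (helper4)

The hypothesis `Hyp t a b`: `t` is an involution, `C(t)` has order 8 and contains `a` of order 4
and an involution `b` inverting `a`.
-/

set_option autoImplicit false

namespace Cfsg.Agent.Lib.Helper4.D8

open Cfsg.Agent.Lib.Helper4

variable {G : Type*} [Group G]

structure Hyp (t a b : G) : Prop where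
  ht : orderOf t = 2
  hcard : Nat.card (Subgroup.centralizer ({t} : Set G)) = 8
  ha : orderOf a = 4
  hb : orderOf b = 2
  hab : b * a * b⁻¹ = a⁻¹
  haD : a ∈ Subgroup.centralizer ({t} : Set G)
  hbD : b ∈ Subgroup.centralizer ({t} : Set G)

variable {t a b : G}

theorem mem_cent_iff {t x : G} : x ∈ Subgroup.centralizer ({t} : Set G) ↔ t * x = x * t := by
  rw [Subgroup.mem_centralizer_iff]
  constructor
  · intro h; exact h t rfl
  · intro h y hy; rw [Set.mem_singleton_iff] at hy; rw [hy]; exact h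

namespace Hyp

theorem a_ne_inv (H : Hyp t a b) : a ≠ a⁻¹ := by
  intro h
  have h2 : a ^ 2 = 1 := by
    rw [pow_two]
    calc a * a = a * a⁻¹ := by rw [← h]
      _ = 1 := mul_inv_cancel a
  have := orderOf_dvd_of_pow_eq_one h2
  rw [H.ha] at this
  omega

theorem not_comm_of_mul_mem (H : Hyp t a b) {x : G} (hx : b * x ∈ Subgroup.zpowers a) :
    ¬ (x * a = a * x) := by
  intro hc
  obtain ⟨k, hk⟩ := Subgroup.mem_zpowers_iff.mp hx
  have hb : b = a ^ k * x⁻¹ := by rw [hk]; group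
  have hba : b * a = a * b := by
    have hxi : x⁻¹ * a = a * x⁻¹ := by
      calc x⁻¹ * a = x⁻¹ * (a * x) * x⁻¹ := by group
        _ = x⁻¹ * (x * a) * x⁻¹ := by rw [hc]
        _ = a * x⁻¹ := by group
    calc b * a = a ^ k * (x⁻¹ * a) := by rw [hb, mul_assoc]
      _ = a ^ k * a * x⁻¹ := by rw [hxi, mul_assoc]
      _ = a * a ^ k * x⁻¹ := by rw [(Commute.zpow_self a k).eq]
      _ = a * b := by rw [hb, mul_assoc]
  apply H.a_ne_inv
  calc a = a * b * b⁻¹ := by group
    _ = b * a * b⁻¹ := by rw [hba]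
    _ = a⁻¹ := H.hab

theorem b_not_mem (H : Hyp t a b) : b ∉ Subgroup.zpowers a := by
  intro hb
  have h1 : b * 1 ∈ Subgroup.zpowers a := by rwa [mul_one]
  exact H.not_comm_of_mul_mem h1 (by simp)

theorem zpowers_le (H : Hyp t a b) :
    Subgroup.zpowers a ≤ Subgroup.centralizer ({t} : Set G) :=
  (Subgroup.zpowers_le).mpr H.haD

theorem relIndex_eq (H : Hyp t a b) :
    (Subgroup.zpowers a).relIndex (Subgroup.centralizer ({t} : Set G)) = 2 := by
  have h1 := ((Subgroup.zpowers a).subgroupOf (Subgroup.centralizer ({t} : Set G))).card_mul_index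
  rw [Nat.card_congr (Subgroup.subgroupOfEquivOfLe H.zpowers_le).toEquiv, Nat.card_zpowers, H.ha,
    H.hcard] at h1
  unfold Subgroup.relIndex
  omega

/-- the elements of `C(t)` outside `⟨a⟩` lie in `b⟨a⟩`. -/
theorem mul_mem_of_not_mem (H : Hyp t a b) {d : G}
    (hd : d ∈ Subgroup.centralizer ({t} : Set G)) (hdA : d ∉ Subgroup.zpowers a) :
    b * d ∈ Subgroup.zpowers a := by
  have h2 := H.relIndex_eq
  unfold Subgroup.relIndex at h2
  have h3 := Subgroup.mul_mem_iff_of_index_two h2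
    (a := (⟨b, H.hbD⟩ : Subgroup.centralizer ({t} : Set G))) (b := ⟨d, hd⟩)
  simp only [Subgroup.mem_subgroupOf, Subgroup.coe_mul] at h3
  rw [h3]
  exact ⟨fun h => (H.b_not_mem h).elim, fun h => (hdA h).elim⟩

theorem b_inv (H : Hyp t a b) : b⁻¹ = b := inv_eq_self_of_orderOf_two H.hb

theorem conj_zpow (H : Hyp t a b) (k : ℤ) : b * a ^ k * b⁻¹ = (a ^ k)⁻¹ := by
  have h : b * a ^ k * b⁻¹ = (b * a * b⁻¹) ^ k := by
    rw [_root_.conj_zpow]
  rw [h, H.hab, inv_zpow]

/-- elements of `⟨a⟩` commuting with `b` are `1` or `a²`. -/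
theorem eq_of_mem_of_comm (H : Hyp t a b) {z : G} (hz : z ∈ Subgroup.zpowers a)
    (hzb : b * z = z * b) : z = 1 ∨ z = a ^ 2 := by
  obtain ⟨k, rfl⟩ := Subgroup.mem_zpowers_iff.mp hz
  have h1 : (a ^ k)⁻¹ = a ^ k := by
    rw [← H.conj_zpow k, hzb]; group
  have h2 : a ^ (2 * k) = 1 := by
    rw [two_mul, zpow_add]
    nth_rewrite 1 [← h1]
    exact inv_mul_cancel _
  have h3 : ((orderOf a : ℕ) : ℤ) ∣ 2 * k := orderOf_dvd_iff_zpow_eq_one.mpr h2
  rw [H.ha] at h3
  have h4 : (2 : ℤ) ∣ k := by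
    obtain ⟨c, hc⟩ := h3
    exact ⟨c, by push_cast at hc; omega⟩
  obtain ⟨j, rfl⟩ := h4
  have h5 : a ^ (4 : ℤ) = 1 := by
    have := pow_orderOf_eq_one a
    rw [H.ha] at this
    exact_mod_cast this
  rcases Int.even_or_odd j with ⟨i, hi⟩ | ⟨i, hi⟩
  · left
    rw [hi, show 2 * (i + i) = 4 * i by ring, zpow_mul, h5, one_zpow]
  · right
    rw [hi, show 2 * (2 * i + 1) = 4 * i + 2 by ring, zpow_add, zpow_mul, h5, one_zpow, one_mul]
    norm_cast

theorem t_mem (_H : Hyp t a b) : t ∈ Subgroup.centralizer ({t} : Set G) := mem_cent_iff.mpr rfl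

/-- the centre of `C(t)`. -/
theorem center_D (H : Hyp t a b) {z : G} (hz : z ∈ Subgroup.centralizer ({t} : Set G))
    (hza : z * a = a * z) (hzb : b * z = z * b) : z = 1 ∨ z = a ^ 2 := by
  by_cases hzA : z ∈ Subgroup.zpowers a
  · exact H.eq_of_mem_of_comm hzA hzb
  · exact (H.not_comm_of_mul_mem (H.mul_mem_of_not_mem hz hzA) hza).elim

theorem t_eq (H : Hyp t a b) : t = a ^ 2 := by
  have h1 : t * a = a * t := mem_cent_iff.mp H.haD
  have h2 : b * t = t * b := (mem_cent_iff.mp H.hbD).symm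
  rcases H.center_D H.t_mem h1 h2 with h | h
  · exact (ne_one_of_orderOf_two H.ht h).elim
  · exact h

theorem centralizer_a (H : Hyp t a b) :
    Subgroup.centralizer ({a} : Set G) = Subgroup.zpowers a := by
  apply le_antisymm
  · intro x hx
    have hxa : a * x = x * a := mem_cent_iff.mp hx
    have hxt : x ∈ Subgroup.centralizer ({t} : Set G) := by
      rw [mem_cent_iff, H.t_eq, pow_two]
      calc a * a * x = a * (a * x) := by group
        _ = a * (x * a) := by rw [hxa]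
        _ = (a * x) * a := by group
        _ = x * a * a := by rw [hxa]
        _ = x * (a * a) := by group
    by_contra hxA
    exact H.not_comm_of_mul_mem (H.mul_mem_of_not_mem hxt hxA) hxa.symm
  · rw [Subgroup.zpowers_le, mem_cent_iff]

theorem card_centralizer_a (H : Hyp t a b) :
    Nat.card (Subgroup.centralizer ({a} : Set G)) = 4 := by
  rw [H.centralizer_a, Nat.card_zpowers, H.ha]

theorem a_pow_four (H : Hyp t a b) : a ^ 4 = 1 := by
  have := pow_orderOf_eq_one a
  rwa [H.ha] at this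

theorem eq_of_sq_eq_one (H : Hyp t a b) {z : G} (hz : z ∈ Subgroup.zpowers a)
    (hzz : z * z = 1) : z = 1 ∨ z = a ^ 2 := by
  apply H.eq_of_mem_of_comm hz
  obtain ⟨k, rfl⟩ := Subgroup.mem_zpowers_iff.mp hz
  have h1 : (a ^ k)⁻¹ = a ^ k := inv_eq_of_mul_eq_one_right hzz
  calc b * a ^ k = (b * a ^ k * b⁻¹) * b := by group
    _ = a ^ k * b := by rw [H.conj_zpow k, h1]

/-- an involution inverting `a` lies in `C(t)`, outside `⟨a⟩`. -/
theorem inverting_mem (H : Hyp t a b) {s : G} (hsa : s * a * s⁻¹ = a⁻¹) :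
    s ∈ Subgroup.centralizer ({t} : Set G) ∧ s ∉ Subgroup.zpowers a := by
  constructor
  · rw [mem_cent_iff, H.t_eq]
    have h1 : s * a ^ 2 * s⁻¹ = a ^ 2 := by
      have h2 : s * a ^ 2 * s⁻¹ = (s * a * s⁻¹) ^ 2 := by rw [conj_pow]
      rw [h2, hsa, inv_pow]
      apply inv_eq_of_mul_eq_one_right
      rw [← pow_add]
      exact H.a_pow_four
    calc a ^ 2 * s = (s * a ^ 2 * s⁻¹) * s := by rw [h1]
      _ = s * a ^ 2 := by group
  · intro hs
    obtain ⟨k, rfl⟩ := Subgroup.mem_zpowers_iff.mp hs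
    apply H.a_ne_inv
    rw [← hsa]
    have := (Commute.zpow_self a k).eq
    calc a = a * a ^ k * (a ^ k)⁻¹ := by group
      _ = a ^ k * a * (a ^ k)⁻¹ := by rw [this]

theorem card_inverting (H : Hyp t a b) :
    Nat.card {s : G // orderOf s = 2 ∧ s * a * s⁻¹ = a⁻¹} = 4 := by
  have h4 : Nat.card (Subgroup.zpowers a) = 4 := by rw [Nat.card_zpowers, H.ha]
  rw [← h4]
  apply Nat.card_congr
  refine
    { toFun := fun s => ⟨b * s.1, ?_⟩
      invFun := fun z => ⟨b * z.1, ?_, ?_⟩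
      left_inv := ?_
      right_inv := ?_ }
  · obtain ⟨h1, h2⟩ := H.inverting_mem s.2.2
    exact H.mul_mem_of_not_mem h1 h2
  · obtain ⟨z, hz⟩ := z
    obtain ⟨k, rfl⟩ := Subgroup.mem_zpowers_iff.mp hz
    apply orderOf_two_of
    · calc b * a ^ k * (b * a ^ k) = (b * a ^ k * b⁻¹) * (b * b) * a ^ k := by group
        _ = 1 := by rw [H.conj_zpow k, mul_self_of_orderOf_two H.hb]; group
    · intro h1
      apply H.b_not_mem
      have : b = (a ^ k)⁻¹ := eq_inv_of_mul_eq_one_left h1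
      rw [this]
      exact inv_mem hz
  · obtain ⟨z, hz⟩ := z
    obtain ⟨k, rfl⟩ := Subgroup.mem_zpowers_iff.mp hz
    have := (Commute.zpow_self a k).eq
    calc b * a ^ k * a * (b * a ^ k)⁻¹ = b * (a ^ k * a * (a ^ k)⁻¹) * b⁻¹ := by group
      _ = b * (a * a ^ k * (a ^ k)⁻¹) * b⁻¹ := by rw [this]
      _ = b * a * b⁻¹ := by group
      _ = a⁻¹ := H.hab
  · intro s
    apply Subtype.ext
    show b * (b * s.1) = s.1
    rw [← mul_assoc, mul_self_of_orderOf_two H.hb, one_mul]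
  · intro z
    apply Subtype.ext
    show b * (b * z.1) = z.1
    rw [← mul_assoc, mul_self_of_orderOf_two H.hb, one_mul]

theorem isPGroup_D (H : Hyp t a b) : IsPGroup 2 (Subgroup.centralizer ({t} : Set G)) := by
  apply IsPGroup.of_card (n := 3)
  rw [H.hcard]; norm_num

/-- `C(t)` is a Sylow 2-subgroup. -/
theorem exists_sylow [Finite G] (H : Hyp t a b) :
    ∃ P : Sylow 2 G, (P : Subgroup G) = Subgroup.centralizer ({t} : Set G) := by
  haveI : Fact (Nat.Prime 2) := ⟨Nat.prime_two⟩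
  obtain ⟨P, hP⟩ := H.isPGroup_D.exists_le_sylow
  refine ⟨P, le_antisymm ?_ hP⟩
  have hnt : Nontrivial (P : Subgroup G) := by
    refine ⟨⟨⟨t, hP H.t_mem⟩, 1, ?_⟩⟩
    intro h
    exact ne_one_of_orderOf_two H.ht (congrArg Subtype.val h)
  have hc := IsPGroup.center_nontrivial P.isPGroup'
  obtain ⟨⟨z, hz⟩, hz1⟩ := exists_ne (1 : Subgroup.center (P : Subgroup G))
  rw [Subgroup.mem_center_iff] at hz
  have hcomm : ∀ x ∈ (P : Subgroup G), x * (z : G) = (z : G) * x := by
    intro x hx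
    have := hz ⟨x, hx⟩
    exact congrArg Subtype.val this
  have hzD : (z : G) ∈ Subgroup.centralizer ({t} : Set G) :=
    mem_cent_iff.mpr (hcomm t (hP H.t_mem))
  have hzt : (z : G) = t := by
    rcases H.center_D hzD (hcomm a (hP H.haD)).symm (hcomm b (hP H.hbD)) with h | h
    · exfalso
      apply hz1
      apply Subtype.ext
      apply Subtype.ext
      exact h
    · rw [h, H.t_eq]
  intro x hx
  rw [mem_cent_iff, ← hzt]
  exact (hcomm x hx).symm

/-- `C(t)` is self-normalizing. -/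
theorem normalizer_le (H : Hyp t a b) :
    Subgroup.normalizer (Subgroup.centralizer ({t} : Set G) : Set G) ≤
      Subgroup.centralizer ({t} : Set G) := by
  intro x hx
  rw [Subgroup.mem_normalizer_iff] at hx
  have hzD : x * t * x⁻¹ ∈ Subgroup.centralizer ({t} : Set G) := (hx t).mp H.t_mem
  have hcomm : ∀ d ∈ Subgroup.centralizer ({t} : Set G), d * (x * t * x⁻¹) = (x * t * x⁻¹) * d := by
    intro d hd
    have h1 : x⁻¹ * d * x ∈ Subgroup.centralizer ({t} : Set G) := by
      rw [hx]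
      have : x * (x⁻¹ * d * x) * x⁻¹ = d := by group
      rwa [this]
    have h2 : t * (x⁻¹ * d * x) = (x⁻¹ * d * x) * t := mem_cent_iff.mp h1
    calc d * (x * t * x⁻¹) = x * ((x⁻¹ * d * x) * t) * x⁻¹ := by group
      _ = x * (t * (x⁻¹ * d * x)) * x⁻¹ := by rw [h2]
      _ = (x * t * x⁻¹) * d := by group
  rcases H.center_D hzD (hcomm a H.haD).symm (hcomm b H.hbD) with h | h
  · exfalso
    apply ne_one_of_orderOf_two H.ht
    calc t = x⁻¹ * (x * t * x⁻¹) * x := by group
      _ = 1 := by rw [h]; group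
  · rw [mem_cent_iff]
    rw [← H.t_eq] at h
    calc t * x = (x * t * x⁻¹) * x := by rw [h]
      _ = x * t := by group

theorem index_ne_two_of_perfect (hperf : commutator G = ⊤) (M : Subgroup G) : M.index ≠ 2 := by
  intro h2
  haveI : M.Normal := Subgroup.normal_of_index_eq_two h2
  haveI : Fact (Nat.Prime 2) := ⟨Nat.prime_two⟩
  have hc : Nat.card (G ⧸ M) = 2 := h2
  haveI : IsCyclic (G ⧸ M) := isCyclic_of_prime_card hc
  have hle : commutator G ≤ M :=
    Subgroup.Normal.quotient_commutative_iff_commutator_le.mp inferInstance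
  rw [hperf, top_le_iff] at hle
  rw [hle, Subgroup.index_top] at h2
  omega

/-- all involutions are conjugate to `t`. -/
theorem isConj_of_invol [Finite G] (H : Hyp t a b) (hno : ∀ M : Subgroup G, M.index ≠ 2)
    {s : G} (hs : orderOf s = 2) : IsConj t s := by
  haveI : Fact (Nat.Prime 2) := ⟨Nat.prime_two⟩
  obtain ⟨P, hP⟩ := H.exists_sylow
  obtain ⟨g, hg⟩ := exists_conj_mem_sylow P (isPGroup_two_zpowers hs)
  have hs' : g * s * g⁻¹ ∈ (P : Subgroup G) := hg s (Subgroup.mem_zpowers s)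
  have hs'2 : orderOf (g * s * g⁻¹) = 2 := orderOf_conj_two g hs
  -- an involution of `⟨a⟩` is `t`
  have key : ∀ u : G, orderOf u = 2 → u ∈ Subgroup.zpowers a → u = t := by
    intro u hu huA
    rcases H.eq_of_sq_eq_one huA (mul_self_of_orderOf_two hu) with h | h
    · exact (ne_one_of_orderOf_two hu h).elim
    · rw [h, H.t_eq]
  have hconj : ∃ g' : G, g' * s * g'⁻¹ = t := by
    by_cases hA : g * s * g⁻¹ ∈ Subgroup.zpowers a
    · exact ⟨g, key _ hs'2 hA⟩
    · have hQP : Subgroup.zpowers a ≤ (P : Subgroup G) := by rw [hP]; exact H.zpowers_le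
      have hQi : (Subgroup.zpowers a).relIndex (P : Subgroup G) = 2 := by
        rw [hP]; exact H.relIndex_eq
      rcases Cfsg.Agent.S0111.result P (Subgroup.zpowers a) hQP hQi (g * s * g⁻¹) hs'2 hs' hA with
        ⟨M, -, hM, -⟩ | ⟨g', hg'⟩
      · exact (hno M hM).elim
      · refine ⟨g' * g, ?_⟩
        have h1 : g' * g * s * (g' * g)⁻¹ = g' * (g * s * g⁻¹) * g'⁻¹ := by group
        rw [h1]
        exact key _ (orderOf_conj_two g' hs'2) hg'
  obtain ⟨g', hg'⟩ := hconj
  rw [isConj_comm, isConj_iff]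
  exact ⟨g', hg'⟩

theorem exists_card_eq [Finite G] (H : Hyp t a b) : ∃ m : ℕ, Odd m ∧ Nat.card G = 8 * m := by
  haveI : Fact (Nat.Prime 2) := ⟨Nat.prime_two⟩
  obtain ⟨P, hP⟩ := H.exists_sylow
  refine ⟨(P : Subgroup G).index, ?_, ?_⟩
  · rw [← Nat.not_even_iff_odd, even_iff_two_dvd]
    exact P.not_dvd_index
  · rw [← (P : Subgroup G).card_mul_index, hP, H.hcard]

end Hyp

end Cfsg.Agent.Lib.Helper4.D8
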