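import Mathlib
import Cfsg.Agent.Lib.Helper4.D8Group
import Cfsg.Agent.Lib.Helper90.Invert

/-!
# Groups with an involution whose centralizer is dihedral of order 8 and without subgroups of
index 2 are perfect and simple (helper4)
-/

set_option autoImplicit false

namespace Cfsg.Agent.Lib.Helper4.D8

open Cfsg.Agent.Lib.Helper4
open scoped commutatorElement

variable {G : Type*} [Group G] {t a b : G}

namespace Hyp

theorem ba_invol (H : Hyp t a b) : orderOf (b * a) = 2 := by
  apply orderOf_two_of
  · calc b * a * (b * a) = (b * a * b⁻¹) * (b * b) * a := by group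
      _ = 1 := by rw [H.hab, mul_self_of_orderOf_two H.hb]; group
  · intro h
    apply H.b_not_mem
    have : b = a⁻¹ := eq_inv_of_mul_eq_one_left h
    rw [this]
    exact inv_mem (Subgroup.mem_zpowers a)

/-- a normal subgroup modulo which every involution is congruent to `t` contains `C(t)`. -/
theorem le_of_forall_invol (H : Hyp t a b) (N : Subgroup G) [hN : N.Normal]
    (h : ∀ s : G, orderOf s = 2 → s * t⁻¹ ∈ N) : Subgroup.centralizer ({t} : Set G) ≤ N := by
  have h1 := h b H.hb
  have h2 := h (b * a) H.ba_invol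
  have hta : t * a = a * t := mem_cent_iff.mp H.haD
  have haN : a ∈ N := by
    have h3 : (b * t⁻¹)⁻¹ * (b * a * t⁻¹) ∈ N := N.mul_mem (N.inv_mem h1) h2
    have h4 : (b * t⁻¹)⁻¹ * (b * a * t⁻¹) = (t * a) * t⁻¹ := by group
    rw [h4, hta] at h3
    simpa using h3
  have htN : t ∈ N := by
    rw [H.t_eq]; exact N.pow_mem haN 2
  have hbN : b ∈ N := by
    have := N.mul_mem h1 htN
    simpa using this
  have hAN : Subgroup.zpowers a ≤ N := Subgroup.zpowers_le.mpr haN
  intro d hd
  by_cases hdA : d ∈ Subgroup.zpowers a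
  · exact hAN hdA
  · have h5 := hAN (H.mul_mem_of_not_mem hd hdA)
    have h6 := N.mul_mem (N.inv_mem hbN) h5
    simpa using h6

/-- a normal subgroup containing `C(t)` is everything. -/
theorem eq_top_of_le [Finite G] (H : Hyp t a b) (N : Subgroup G) [hN : N.Normal]
    (h : Subgroup.centralizer ({t} : Set G) ≤ N) : N = ⊤ := by
  have : Fact (Nat.Prime 2) := ⟨Nat.prime_two⟩
  obtain ⟨P, hP⟩ := H.exists_sylow
  have hPN : (P : Subgroup G) ≤ N := by rw [hP]; exact h
  have h1 : Subgroup.normalizer ((P : Subgroup G) : Set G) ⊔ N = ⊤ :=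
    Sylow.normalizer_sup_eq_top' P hPN
  rw [hP] at h1
  have h2 : Subgroup.normalizer (Subgroup.centralizer ({t} : Set G) : Set G) ≤ N :=
    H.normalizer_le.trans h
  rw [sup_of_le_right h2] at h1
  exact h1

theorem perfect [Finite G] (H : Hyp t a b) (hno : ∀ M : Subgroup G, M.index ≠ 2) :
    commutator G = ⊤ := by
  apply H.eq_top_of_le (commutator G)
  apply H.le_of_forall_invol
  intro s hs
  obtain ⟨g, hg⟩ := isConj_iff.mp (H.isConj_of_invol hno hs)
  rw [← hg]
  have : g * t * g⁻¹ * t⁻¹ = ⁅g, t⁆ := rfl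
  rw [this, commutator_def]
  exact Subgroup.commutator_mem_commutator (Subgroup.mem_top g) (Subgroup.mem_top t)

theorem eq_one_of_orderOf_two_pow (N : Subgroup G) (hN : ∀ s ∈ N, orderOf s ≠ 2) {n : G}
    (hn : n ∈ N) {k : ℕ} (hk : orderOf n = 2 ^ k) : n = 1 := by
  rcases Nat.eq_zero_or_pos k with h0 | hpos
  · rw [h0, pow_zero, orderOf_eq_one_iff] at hk
    exact hk
  · exfalso
    apply hN (n ^ 2 ^ (k - 1)) (N.pow_mem hn _)
    rw [orderOf_pow_of_dvd (by positivity), hk]
    · have : 2 ^ k = 2 ^ (k - 1) * 2 := by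
        rw [← pow_succ]; congr 1; omega
      rw [this, Nat.mul_div_cancel_left _ (by positivity)]
    · rw [hk]; exact pow_dvd_pow 2 (by omega)

theorem isSimpleGroup [Finite G] (H : Hyp t a b) (hno : ∀ M : Subgroup G, M.index ≠ 2) :
    IsSimpleGroup G := by
  have hnt : Nontrivial G := ⟨⟨t, 1, ne_one_of_orderOf_two H.ht⟩⟩
  refine { exists_pair_ne := hnt.exists_pair_ne, eq_bot_or_eq_top_of_normal := ?_ }
  intro N hN
  by_cases htN : t ∈ N
  · right
    apply H.eq_top_of_le N
    apply H.le_of_forall_invol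
    intro s hs
    obtain ⟨g, hg⟩ := isConj_iff.mp (H.isConj_of_invol hno hs)
    rw [← hg]
    exact N.mul_mem (hN.conj_mem t htN g) (N.inv_mem htN)
  · left
    -- `N` contains no involution
    have hNinv : ∀ s ∈ N, orderOf s ≠ 2 := by
      intro s hsN hs
      apply htN
      obtain ⟨g, hg⟩ := isConj_iff.mp (H.isConj_of_invol hno hs)
      have h1 : t = g⁻¹ * s * g⁻¹⁻¹ := by rw [← hg]; group
      rw [h1]
      exact hN.conj_mem s hsN g⁻¹
    -- involutions act fixed-point-freely
    have hfpf : ∀ s : G, orderOf s = 2 → ∀ n ∈ N, s * n = n * s → n = 1 := by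
      intro s hs n hn hsn
      obtain ⟨g, hg⟩ := isConj_iff.mp (H.isConj_of_invol hno hs)
      have hmem : g⁻¹ * n * g ∈ Subgroup.centralizer ({t} : Set G) := by
        rw [mem_cent_iff]
        have ht : t = g⁻¹ * s * g := by rw [← hg]; group
        calc t * (g⁻¹ * n * g) = g⁻¹ * (s * n) * g := by rw [ht]; group
          _ = g⁻¹ * (n * s) * g := by rw [hsn]
          _ = g⁻¹ * n * g * t := by rw [ht]; group
      obtain ⟨k, hk⟩ := (IsPGroup.iff_orderOf.mp H.isPGroup_D) ⟨_, hmem⟩
      rw [Subgroup.orderOf_mk] at hk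
      have hmemN : g⁻¹ * n * g ∈ N := by
        have := hN.conj_mem n hn g⁻¹
        simpa using this
      have h1 := eq_one_of_orderOf_two_pow N hNinv hmemN hk
      calc n = g * (g⁻¹ * n * g) * g⁻¹ := by group
        _ = 1 := by rw [h1]; group
    have hnorm : ∀ s : G, s ∈ Subgroup.normalizer (N : Set G) := by
      intro s
      rw [Subgroup.normalizer_eq_top]
      exact Subgroup.mem_top s
    have hinvt := Cfsg.Agent.Lib.Helper90.inverts_of_fixedPointFree N t
      (mul_self_of_orderOf_two H.ht) (hnorm t) (hfpf t H.ht)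
    have hinvb := Cfsg.Agent.Lib.Helper90.inverts_of_fixedPointFree N b
      (mul_self_of_orderOf_two H.hb) (hnorm b) (hfpf b H.hb)
    have htb : t * b = b * t := mem_cent_iff.mp H.hbD
    have htb2 : orderOf (t * b) = 2 := by
      apply orderOf_two_of
      · calc t * b * (t * b) = t * (b * t) * b := by group
          _ = t * (t * b) * b := by rw [htb]
          _ = (t * t) * (b * b) := by group
          _ = 1 := by
            rw [mul_self_of_orderOf_two H.ht, mul_self_of_orderOf_two H.hb, one_mul]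
      · intro h
        apply H.b_not_mem
        have : b = t⁻¹ := eq_inv_of_mul_eq_one_right h
        rw [this, H.t_eq]
        exact inv_mem (Subgroup.pow_mem _ (Subgroup.mem_zpowers a) 2)
    have hinvtb := Cfsg.Agent.Lib.Helper90.inverts_of_fixedPointFree N (t * b)
      (mul_self_of_orderOf_two htb2) (hnorm (t * b)) (hfpf (t * b) htb2)
    rw [Subgroup.eq_bot_iff_forall]
    intro n hn
    have h1 : t * b * n * (t * b)⁻¹ = n⁻¹ := hinvtb n hn
    have h2 : t * b * n * (t * b)⁻¹ = t * (b * n * b⁻¹) * t⁻¹ := by group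
    rw [h2, hinvb n hn, hinvt n⁻¹ (N.inv_mem hn), inv_inv] at h1
    -- n = n⁻¹
    have h3 : n * n = 1 := by
      nth_rewrite 1 [h1]
      exact inv_mul_cancel n
    by_contra hne
    exact hNinv n hn (orderOf_two_of h3 hne)

end Hyp

end Cfsg.Agent.Lib.Helper4.D8
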