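import Mathlib
import Cfsg.Prelude.Def_CaseTheorems
import Cfsg.Agent.Lib.Helper4.D8Group
import Cfsg.Agent.Lib.Helper4.D8Simple
import Cfsg.Agent.S0215

/-!
# Fusion of involutions in a group with a dihedral involution centralizer of order 8 (helper4)
-/

set_option autoImplicit false

namespace Cfsg.Agent.Lib.Helper4.D8

open Cfsg Cfsg.Agent.Lib.Helper4

variable {G : Type*} [Group G] {t a b : G}

/-- if `[z, g]` lies in a subgroup `N` of odd order then `g ∈ C(z) N` (`z` an involution). -/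
theorem mem_sup_of_comm_mem [Finite G] {z : G} (hz : orderOf z = 2) {N : Subgroup G}
    (hodd : Odd (Nat.card N)) (g : G) (hg : z * g * z⁻¹ * g⁻¹ ∈ N) :
    g ∈ Subgroup.centralizer ({z} : Set G) ⊔ N := by
  set n : G := z * g * z⁻¹ * g⁻¹ with hn
  have hzz : z * z = 1 := mul_self_of_orderOf_two hz
  have hzi : z⁻¹ = z := inv_eq_self_of_orderOf_two hz
  have hno : Odd (orderOf n) := by
    have h1 : orderOf (⟨n, hg⟩ : N) ∣ Nat.card N := orderOf_dvd_natCard _
    rw [Subgroup.orderOf_mk] at h1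
    exact Odd.of_dvd_nat hodd h1
  obtain ⟨k, hk⟩ := hno
  set m : G := n ^ (k + 1) with hm
  have hmm : m * m = n := by
    rw [hm, ← pow_add]
    have : k + 1 + (k + 1) = orderOf n + 1 := by omega
    rw [this, pow_succ, pow_orderOf_eq_one, one_mul]
  have hzn : z * n * z⁻¹ = n⁻¹ := by
    rw [hn, hzi]
    apply eq_inv_of_mul_eq_one_left
    calc z * (z * g * z * g⁻¹) * z * (z * g * z * g⁻¹)
        = (z * z) * g * z * g⁻¹ * (z * z) * g * z * g⁻¹ := by group
      _ = 1 * g * z * g⁻¹ * 1 * g * z * g⁻¹ := by rw [hzz]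
      _ = g * (z * z) * g⁻¹ := by group
      _ = 1 := by rw [hzz]; group
  have hzm : z * m * z⁻¹ = m⁻¹ := by
    rw [hm, ← conj_pow, hzn, inv_pow]
  have hmN : m ∈ N := N.pow_mem hg _
  have hc : m * g ∈ Subgroup.centralizer ({z} : Set G) := by
    rw [mem_cent_iff]
    have h1 : z * g * z⁻¹ = n * g := by rw [hn]; group
    calc z * (m * g) = (z * m * z⁻¹) * (z * g * z⁻¹) * z := by group
      _ = m⁻¹ * (m * m * g) * z := by rw [hzm, h1, hmm]
      _ = m * g * z := by group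
  have hgm : g = m⁻¹ * (m * g) := by group
  rw [hgm, sup_comm]
  exact Subgroup.mul_mem_sup (N.inv_mem hmN) hc

namespace Hyp

/-- the symmetric hypothesis, with `b` replaced by `b * a`. -/
theorem swap (H : Hyp t a b) : Hyp t a (b * a) where
  ht := H.ht
  hcard := H.hcard
  ha := H.ha
  hb := H.ba_invol
  hab := by
    calc b * a * a * (b * a)⁻¹ = b * a * b⁻¹ := by group
      _ = a⁻¹ := H.hab
  haD := H.haD
  hbD := Subgroup.mul_mem _ H.hbD H.haD

theorem b_mul_zpow (H : Hyp t a b) (k : ℤ) : b * a ^ k = (a ^ k)⁻¹ * b := by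
  calc b * a ^ k = (b * a ^ k * b⁻¹) * b := by group
    _ = (a ^ k)⁻¹ * b := by rw [H.conj_zpow]

theorem conj_b (H : Hyp t a b) (j : ℤ) : (a ^ j)⁻¹ * b * ((a ^ j)⁻¹)⁻¹ = b * a ^ (2 * j) := by
  rw [inv_inv, ← H.b_mul_zpow, two_mul, zpow_add]
  group

/-- elements of `C(t)` outside `⟨a⟩` are conjugate to `b` or `b a`. -/
theorem isConj_of_not_mem_zpowers (H : Hyp t a b) {s : G}
    (hs : s ∈ Subgroup.centralizer ({t} : Set G)) (hsA : s ∉ Subgroup.zpowers a) :
    IsConj b s ∨ IsConj (b * a) s := by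
  obtain ⟨k, hk⟩ := Subgroup.mem_zpowers_iff.mp (H.mul_mem_of_not_mem hs hsA)
  have hsk : s = b * a ^ k := by
    rw [hk, ← mul_assoc, mul_self_of_orderOf_two H.hb, one_mul]
  rcases Int.even_or_odd' k with ⟨j, hj | hj⟩
  · left
    rw [isConj_iff]
    refine ⟨(a ^ j)⁻¹, ?_⟩
    rw [H.conj_b, hsk, hj]
  · right
    rw [isConj_iff]
    refine ⟨(a ^ j)⁻¹, ?_⟩
    have h1 := H.conj_b j
    rw [hsk, hj]
    calc (a ^ j)⁻¹ * (b * a) * ((a ^ j)⁻¹)⁻¹
        = ((a ^ j)⁻¹ * b * ((a ^ j)⁻¹)⁻¹) * ((a ^ j)⁻¹ * a * a ^ j) := by group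
      _ = b * a ^ (2 * j) * a := by
          rw [h1]; congr 1; group
      _ = b * a ^ (2 * j + 1) := by rw [zpow_add, zpow_one, mul_assoc]

/-- every involution is conjugate to `t`, `b` or `b a`. -/
theorem invol_cases [Finite G] (H : Hyp t a b) {s : G} (hs : orderOf s = 2) :
    IsConj t s ∨ IsConj b s ∨ IsConj (b * a) s := by
  have : Fact (Nat.Prime 2) := ⟨Nat.prime_two⟩
  obtain ⟨P, hP⟩ := H.exists_sylow
  obtain ⟨g, hg⟩ := exists_conj_mem_sylow P (isPGroup_two_zpowers hs)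
  have hs' : g * s * g⁻¹ ∈ (P : Subgroup G) := hg s (Subgroup.mem_zpowers s)
  rw [hP] at hs'
  have hs'2 : orderOf (g * s * g⁻¹) = 2 := orderOf_conj_two g hs
  have hconj : IsConj s (g * s * g⁻¹) := isConj_iff.mpr ⟨g, rfl⟩
  by_cases hA : g * s * g⁻¹ ∈ Subgroup.zpowers a
  · left
    rcases H.eq_of_sq_eq_one hA (mul_self_of_orderOf_two hs'2) with h | h
    · exact (ne_one_of_orderOf_two hs'2 h).elim
    · rw [← H.t_eq] at h
      rw [h] at hconj
      exact hconj.symm
  · right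
    rcases H.isConj_of_not_mem_zpowers hs' hA with h | h
    · exact Or.inl (h.trans hconj.symm)
    · exact Or.inr (h.trans hconj.symm)

/-- if `t` is not isolated in `C(t)` then it is conjugate to `b` or to `b a`. -/
theorem isConj_of_not_isolated (H : Hyp t a b) {g : G}
    (hg : g * t * g⁻¹ ∈ Subgroup.centralizer ({t} : Set G)) (hne : g * t * g⁻¹ ≠ t) :
    IsConj t b ∨ IsConj t (b * a) := by
  have hs2 : orderOf (g * t * g⁻¹) = 2 := orderOf_conj_two g H.ht
  have hconj : IsConj t (g * t * g⁻¹) := isConj_iff.mpr ⟨g, rfl⟩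
  have hA : g * t * g⁻¹ ∉ Subgroup.zpowers a := by
    intro hA
    rcases H.eq_of_sq_eq_one hA (mul_self_of_orderOf_two hs2) with h | h
    · exact ne_one_of_orderOf_two hs2 h
    · rw [← H.t_eq] at h
      exact hne h
  rcases H.isConj_of_not_mem_zpowers hg hA with h | h
  · exact Or.inl (hconj.trans h.symm)
  · exact Or.inr (hconj.trans h.symm)

/-- the isolated case: Glauberman's `Z*`-theorem gives `G = C(t) O(G)`. -/
theorem sup_oddCore_of_isolated [Finite G] (H : Hyp t a b)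
    (hiso : ∀ g : G, g * t * g⁻¹ ∈ Subgroup.centralizer ({t} : Set G) → g * t * g⁻¹ = t) :
    Subgroup.centralizer ({t} : Set G) ⊔ Cfsg.oddCore G = ⊤ := by
  have : Fact (Nat.Prime 2) := ⟨Nat.prime_two⟩
  obtain ⟨P, hP⟩ := H.exists_sylow
  have htP : t ∈ P := by
    show t ∈ (P : Subgroup G)
    rw [hP]; exact H.t_mem
  have hiso' : ∀ g : G, g * t * g⁻¹ ∈ P → g * t * g⁻¹ = t := by
    intro g hg
    apply hiso
    rw [← hP]; exact hg
  obtain ⟨N, hN, hodd, hcomm⟩ := Cfsg.Agent.S0215.result P t H.ht htP hiso'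
  have hNle : N ≤ Cfsg.oddCore G := by
    apply le_sSup
    refine ⟨hN, ?_⟩
    exact Nat.Coprime.symm (Nat.coprime_two_left.mpr hodd)
  rw [eq_top_iff]
  intro g _
  have h1 := mem_sup_of_comm_mem H.ht hodd g (hcomm g)
  exact (sup_le_sup_left hNle _) h1

end Hyp

end Cfsg.Agent.Lib.Helper4.D8
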