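import Mathlib

/-!
# Integer vectors of norm four with a coordinate equal to one (helper4)
-/

set_option autoImplicit false

namespace Cfsg.Agent.Lib.Helper4

theorem exists_triple {ι : Type*} [Fintype ι] [DecidableEq ι] (τ : ι) (m : ι → ℤ)
    (hN : ∑ i, m i * m i = 4) (hmτ : m τ = 1) :
    ∃ α β γ : ι, α ≠ τ ∧ β ≠ τ ∧ γ ≠ τ ∧ α ≠ β ∧ α ≠ γ ∧ β ≠ γ ∧
      (m α = 1 ∨ m α = -1) ∧ (m β = 1 ∨ m β = -1) ∧ (m γ = 1 ∨ m γ = -1) ∧
      ∀ i, i ≠ τ → i ≠ α → i ≠ β → i ≠ γ → m i = 0 := by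
  have hN2 : ∑ χ ∈ Finset.univ.erase τ, m χ * m χ = 3 := by
    have := Finset.add_sum_erase Finset.univ (fun χ => m χ * m χ) (Finset.mem_univ τ)
    rw [hN, hmτ] at this
    linarith
  have hle : ∀ χ ∈ Finset.univ.erase τ, m χ * m χ ≤ 3 := by
    intro χ hχ
    rw [← hN2]
    exact Finset.single_le_sum (f := fun χ => m χ * m χ) (fun _ _ => mul_self_nonneg _) hχ
  have hsq : ∀ χ ∈ Finset.univ.erase τ, m χ * m χ = if m χ = 0 then 0 else 1 := by
    intro χ hχ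
    have h2 := hle χ hχ
    split_ifs with h0
    · rw [h0]; ring
    · have hpos : 0 < m χ * m χ := mul_self_pos.mpr h0
      have : m χ ≤ 1 := by nlinarith
      have : -1 ≤ m χ := by nlinarith
      have : m χ = 1 ∨ m χ = -1 := by omega
      rcases this with h | h <;> rw [h] <;> ring
  set T : Finset ι := (Finset.univ.erase τ).filter (fun χ => m χ ≠ 0) with hT
  have hTcard : T.card = 3 := by
    have h3 : ∑ χ ∈ Finset.univ.erase τ, m χ * m χ =
        ∑ χ ∈ Finset.univ.erase τ, if m χ = 0 then (0 : ℤ) else 1 :=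
      Finset.sum_congr rfl hsq
    rw [hN2] at h3
    have h4 : ∑ χ ∈ Finset.univ.erase τ, (if m χ = 0 then (0 : ℤ) else 1) = (T.card : ℤ) := by
      rw [hT, Finset.card_filter]
      push_cast
      apply Finset.sum_congr rfl
      intro χ _
      by_cases h : m χ = 0 <;> simp [h]
    rw [h4] at h3
    exact_mod_cast h3.symm
  obtain ⟨α, β, γ, hαβ, hαγ, hβγ, hTeq⟩ := Finset.card_eq_three.mp hTcard
  have hαT : α ∈ T := by rw [hTeq]; simp
  have hβT : β ∈ T := by rw [hTeq]; simp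
  have hγT : γ ∈ T := by rw [hTeq]; simp
  have hα := Finset.mem_filter.mp hαT
  have hβ := Finset.mem_filter.mp hβT
  have hγ := Finset.mem_filter.mp hγT
  have hατ : α ≠ τ := (Finset.mem_erase.mp hα.1).1
  have hβτ : β ≠ τ := (Finset.mem_erase.mp hβ.1).1
  have hγτ : γ ≠ τ := (Finset.mem_erase.mp hγ.1).1
  have hpm : ∀ χ ∈ T, m χ = 1 ∨ m χ = -1 := by
    intro χ hχ
    have hχ' := Finset.mem_filter.mp hχ
    have h := hsq χ hχ'.1
    rw [if_neg hχ'.2] at h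
    exact mul_self_eq_one_iff.mp h
  refine ⟨α, β, γ, hατ, hβτ, hγτ, hαβ, hαγ, hβγ, hpm α hαT, hpm β hβT, hpm γ hγT, ?_⟩
  intro χ h1 h2 h3 h4
  by_contra h0
  have : χ ∈ T := Finset.mem_filter.mpr ⟨Finset.mem_erase.mpr ⟨h1, Finset.mem_univ _⟩, h0⟩
  rw [hTeq] at this
  simp at this
  rcases this with h | h | h
  · exact h2 h
  · exact h3 h
  · exact h4 h

theorem sum_four {ι R : Type*} [Fintype ι] [DecidableEq ι] [AddCommMonoid R] {τ α β γ : ι}
    (hατ : α ≠ τ) (hβτ : β ≠ τ) (hγτ : γ ≠ τ) (hαβ : α ≠ β) (hαγ : α ≠ γ) (hβγ : β ≠ γ)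
    (F : ι → R) (hrest : ∀ i, i ≠ τ → i ≠ α → i ≠ β → i ≠ γ → F i = 0) :
    ∑ i, F i = F τ + (F α + (F β + F γ)) := by
  have hsub : ∑ i, F i = ∑ i ∈ ({τ, α, β, γ} : Finset ι), F i := by
    symm
    apply Finset.sum_subset (Finset.subset_univ _)
    intro χ _ hχ
    simp only [Finset.mem_insert, Finset.mem_singleton, not_or] at hχ
    exact hrest χ hχ.1 hχ.2.1 hχ.2.2.1 hχ.2.2.2
  rw [hsub, Finset.sum_insert (by simp [hατ.symm, hβτ.symm, hγτ.symm]),
    Finset.sum_insert (by simp [hαβ, hαγ]), Finset.sum_insert (by simp [hβγ]),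
    Finset.sum_singleton]

end Cfsg.Agent.Lib.Helper4
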