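import Mathlib

/-!
# The centralizer of a double transposition in `A₆` (helper4)

It has order 8 and contains an element of order 4 inverted by an involution.
-/

set_option autoImplicit false

namespace Cfsg.Agent.Lib.Helper4.A6Cent

open Equiv

def σ0 : Perm (Fin 6) := swap 0 1 * swap 2 3
def a0 : Perm (Fin 6) := swap 0 2 * swap 2 1 * swap 1 3 * swap 4 5
def b0 : Perm (Fin 6) := swap 0 1 * swap 4 5

set_option maxRecDepth 100000 in
theorem card_cent0 :
    Fintype.card {x : Perm (Fin 6) // Perm.sign x = 1 ∧ σ0 * x = x * σ0} = 8 := by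
  decide +kernel

theorem a0_sq : a0 * a0 = σ0 := by decide
theorem sign_a0 : Perm.sign a0 = 1 := by decide
theorem sign_b0 : Perm.sign b0 = 1 := by decide
theorem b0_comm : b0 * σ0 = σ0 * b0 := by decide
theorem b0_sq : b0 * b0 = 1 := by decide
theorem b0_ne : b0 ≠ 1 := by decide
theorem rel0 : b0 * a0 * b0⁻¹ = a0⁻¹ := by decide
theorem σ0_sq : σ0 * σ0 = 1 := by decide
theorem σ0_ne : σ0 ≠ 1 := by decide
theorem σ0_supp : σ0.support.card = 4 := by decide

theorem orderOf_σ0 : orderOf σ0 = 2 := by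
  haveI : Fact (Nat.Prime 2) := ⟨Nat.prime_two⟩
  rw [orderOf_eq_prime_iff, pow_two]
  exact ⟨σ0_sq, σ0_ne⟩

theorem orderOf_b0 : orderOf b0 = 2 := by
  haveI : Fact (Nat.Prime 2) := ⟨Nat.prime_two⟩
  rw [orderOf_eq_prime_iff, pow_two]
  exact ⟨b0_sq, b0_ne⟩

theorem orderOf_a0 : orderOf a0 = 4 := by
  haveI : Fact (Nat.Prime 2) := ⟨Nat.prime_two⟩
  have h := orderOf_eq_prime_pow (x := a0) (p := 2) (n := 1) ?_ ?_
  · simpa using h
  · rw [pow_one, pow_two, a0_sq]; exact σ0_ne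
  · show a0 ^ 2 ^ 2 = 1
    rw [show (2 : ℕ) ^ 2 = 2 + 2 by norm_num, pow_add, pow_two, a0_sq, σ0_sq]

theorem a0_comm : a0 * σ0 = σ0 * a0 := by
  rw [← a0_sq, mul_assoc]

theorem cycleType_eq (σ : Perm (Fin 6)) (h2 : orderOf σ = 2) (h4 : σ.support.card = 4) :
    σ.cycleType = Multiset.replicate 2 2 := by
  obtain ⟨n, hn⟩ := Perm.cycleType_prime_order (σ := σ) (by rw [h2]; exact Nat.prime_two)
  have h := Perm.sum_cycleType σ
  rw [hn, h2, Multiset.sum_replicate, h4, smul_eq_mul] at h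
  have : n = 1 := by omega
  rw [hn, this, h2]

theorem exists_conj (σ : Perm (Fin 6)) (h2 : orderOf σ = 2) (h4 : σ.support.card = 4) :
    ∃ c : Perm (Fin 6), c * σ0 * c⁻¹ = σ := by
  have h : IsConj σ0 σ := by
    rw [Perm.isConj_iff_cycleType_eq, cycleType_eq σ h2 h4, cycleType_eq σ0 orderOf_σ0 σ0_supp]
  exact isConj_iff.mp h

theorem sign_conj (c x : Perm (Fin 6)) : Perm.sign (c * x * c⁻¹) = Perm.sign x := by
  rw [Perm.sign_mul, Perm.sign_mul, Perm.sign_inv, mul_comm, ← mul_assoc]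
  simp

theorem orderOf_conj (c x : Perm (Fin 6)) : orderOf (c * x * c⁻¹) = orderOf x := by
  have := MulEquiv.orderOf_eq (MulAut.conj c) x
  rw [MulAut.conj_apply] at this
  exact this

theorem data (αt : alternatingGroup (Fin 6)) (hαt : orderOf αt = 2)
    (hsupp : (αt : Perm (Fin 6)).support.card = 4) :
    Nat.card (Subgroup.centralizer ({αt} : Set (alternatingGroup (Fin 6)))) = 8 ∧
    ∃ a' b' : Subgroup.centralizer ({αt} : Set (alternatingGroup (Fin 6))),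
      orderOf a' = 4 ∧ orderOf b' = 2 ∧ b' * a' * b'⁻¹ = a'⁻¹ := by
  classical
  have h2 : orderOf (αt : Perm (Fin 6)) = 2 := by rw [Subgroup.orderOf_coe, hαt]
  obtain ⟨c, hc⟩ := exists_conj _ h2 hsupp
  have hmemC : ∀ z : alternatingGroup (Fin 6),
      z ∈ Subgroup.centralizer ({αt} : Set (alternatingGroup (Fin 6))) ↔
        (αt : Perm (Fin 6)) * z = z * αt := by
    intro z
    rw [Subgroup.mem_centralizer_iff]
    constructor
    · intro h
      have := h αt rfl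
      exact congrArg Subtype.val this
    · intro h y hy
      rw [Set.mem_singleton_iff] at hy
      rw [hy]
      exact Subtype.ext h
  refine ⟨?_, ?_⟩
  · rw [← card_cent0, ← Nat.card_eq_fintype_card]
    apply Nat.card_congr
    refine
      { toFun := fun z => ⟨c⁻¹ * (z.1 : Perm (Fin 6)) * c, ?_, ?_⟩
        invFun := fun y => ⟨⟨c * y.1 * c⁻¹, ?_⟩, ?_⟩
        left_inv := ?_
        right_inv := ?_ }
    · have h1 := sign_conj c⁻¹ (z.1 : Perm (Fin 6))
      rw [inv_inv] at h1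
      rw [h1]
      exact Perm.mem_alternatingGroup.mp z.1.2
    · have h1 := (hmemC z.1).mp z.2
      rw [← hc] at h1
      calc σ0 * (c⁻¹ * (z.1 : Perm (Fin 6)) * c)
          = c⁻¹ * ((c * σ0 * c⁻¹) * (z.1 : Perm (Fin 6))) * c := by group
        _ = c⁻¹ * ((z.1 : Perm (Fin 6)) * (c * σ0 * c⁻¹)) * c := by rw [h1]
        _ = c⁻¹ * (z.1 : Perm (Fin 6)) * c * σ0 := by group
    · rw [Perm.mem_alternatingGroup, sign_conj]
      exact y.2.1
    · rw [hmemC]
      show (αt : Perm (Fin 6)) * (c * y.1 * c⁻¹) = (c * y.1 * c⁻¹) * αt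
      rw [← hc]
      calc c * σ0 * c⁻¹ * (c * y.1 * c⁻¹) = c * (σ0 * y.1) * c⁻¹ := by group
        _ = c * (y.1 * σ0) * c⁻¹ := by rw [y.2.2]
        _ = c * y.1 * c⁻¹ * (c * σ0 * c⁻¹) := by group
    · intro z
      apply Subtype.ext
      apply Subtype.ext
      show c * (c⁻¹ * (z.1 : Perm (Fin 6)) * c) * c⁻¹ = z.1
      group
    · intro y
      apply Subtype.ext
      show c⁻¹ * (c * y.1 * c⁻¹) * c = y.1
      group
  · have haA : c * a0 * c⁻¹ ∈ alternatingGroup (Fin 6) := by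
      rw [Perm.mem_alternatingGroup, sign_conj]; exact sign_a0
    have hbA : c * b0 * c⁻¹ ∈ alternatingGroup (Fin 6) := by
      rw [Perm.mem_alternatingGroup, sign_conj]; exact sign_b0
    have haC : (⟨c * a0 * c⁻¹, haA⟩ : alternatingGroup (Fin 6)) ∈
        Subgroup.centralizer ({αt} : Set (alternatingGroup (Fin 6))) := by
      rw [hmemC]
      show (αt : Perm (Fin 6)) * (c * a0 * c⁻¹) = (c * a0 * c⁻¹) * αt
      rw [← hc]
      calc c * σ0 * c⁻¹ * (c * a0 * c⁻¹) = c * (σ0 * a0) * c⁻¹ := by group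
        _ = c * (a0 * σ0) * c⁻¹ := by rw [a0_comm]
        _ = c * a0 * c⁻¹ * (c * σ0 * c⁻¹) := by group
    have hbC : (⟨c * b0 * c⁻¹, hbA⟩ : alternatingGroup (Fin 6)) ∈
        Subgroup.centralizer ({αt} : Set (alternatingGroup (Fin 6))) := by
      rw [hmemC]
      show (αt : Perm (Fin 6)) * (c * b0 * c⁻¹) = (c * b0 * c⁻¹) * αt
      rw [← hc]
      calc c * σ0 * c⁻¹ * (c * b0 * c⁻¹) = c * (σ0 * b0) * c⁻¹ := by group
        _ = c * (b0 * σ0) * c⁻¹ := by rw [b0_comm]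
        _ = c * b0 * c⁻¹ * (c * σ0 * c⁻¹) := by group
    refine ⟨⟨⟨c * a0 * c⁻¹, haA⟩, haC⟩, ⟨⟨c * b0 * c⁻¹, hbA⟩, hbC⟩, ?_, ?_, ?_⟩
    · rw [← Subgroup.orderOf_coe, ← Subgroup.orderOf_coe]
      show orderOf (c * a0 * c⁻¹) = 4
      rw [orderOf_conj, orderOf_a0]
    · rw [← Subgroup.orderOf_coe, ← Subgroup.orderOf_coe]
      show orderOf (c * b0 * c⁻¹) = 2
      rw [orderOf_conj, orderOf_b0]
    · apply Subtype.ext
      apply Subtype.ext
      show c * b0 * c⁻¹ * (c * a0 * c⁻¹) * (c * b0 * c⁻¹)⁻¹ = (c * a0 * c⁻¹)⁻¹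
      calc c * b0 * c⁻¹ * (c * a0 * c⁻¹) * (c * b0 * c⁻¹)⁻¹ = c * (b0 * a0 * b0⁻¹) * c⁻¹ := by
            group
        _ = c * a0⁻¹ * c⁻¹ := by rw [rel0]
        _ = (c * a0 * c⁻¹)⁻¹ := by group

end Cfsg.Agent.Lib.Helper4.A6Cent
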