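import Mathlib

/-!
# The Diophantine step for groups with a dihedral involution centralizer of order 8 (helper4)
-/

set_option autoImplicit false

namespace Cfsg.Agent.Lib.Helper4.D8

/-- positive part -/
def pp (s : Bool) (x : ℕ) : ℕ := if s then x else 0
/-- negative part -/
def np (s : Bool) (x : ℕ) : ℕ := if s then 0 else x

def okD8 (m f1 f2 f3 : ℕ) (s1 s2 s3 : Bool) : Bool :=
  !((1 + pp s1 f1 + pp s2 f2 + pp s3 f3 == np s1 f1 + np s2 f2 + np s3 f3) &&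
    (m + pp s1 (m / f1) + pp s2 (m / f2) + pp s3 (m / f3) ==
      32 + np s1 (m / f1) + np s2 (m / f2) + np s3 (m / f3))) || (m == 21 || m == 45)

def divsD8 (m : ℕ) : List ℕ :=
  (List.range 96).filter (fun f => (f % 2 == 1) && (Nat.ble 3 f) && (m % f == 0))

def checkD8 : Bool :=
  (List.range 48).all fun j =>
    (divsD8 (2 * j + 1)).all fun f1 => (divsD8 (2 * j + 1)).all fun f2 =>
      (divsD8 (2 * j + 1)).all fun f3 =>
        [true, false].all fun s1 => [true, false].all fun s2 => [true, false].all fun s3 =>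
          okD8 (2 * j + 1) f1 f2 f3 s1 s2 s3

set_option maxRecDepth 1000000 in
theorem checkD8_true : checkD8 = true := by decide +kernel

theorem mem_divsD8 {m f : ℕ} (hm : 0 < m) (hm96 : m < 96) (hodd : Odd f) (h3 : 3 ≤ f)
    (hd : f ∣ m) : f ∈ divsD8 m := by
  unfold divsD8
  rw [List.mem_filter, List.mem_range]
  refine ⟨lt_of_le_of_lt (Nat.le_of_dvd hm hd) hm96, ?_⟩
  have h1 : f % 2 = 1 := Nat.odd_iff.mp hodd
  have h2 : m % f = 0 := Nat.mod_eq_zero_of_dvd hd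
  simp [h1, h2, h3]

theorem mem_bools (s : Bool) : s ∈ [true, false] := by
  cases s <;> simp

theorem okD8_of {m f1 f2 f3 : ℕ} (s1 s2 s3 : Bool) (hm : Odd m) (hm96 : m < 96)
    (hf1 : f1 ∈ divsD8 m) (hf2 : f2 ∈ divsD8 m) (hf3 : f3 ∈ divsD8 m) :
    okD8 m f1 f2 f3 s1 s2 s3 = true := by
  obtain ⟨j, rfl⟩ := hm
  have hj : j < 48 := by omega
  have h0 := checkD8_true
  unfold checkD8 at h0
  rw [List.all_eq_true] at h0
  have h1 := h0 j (List.mem_range.mpr hj)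
  rw [List.all_eq_true] at h1
  have h2 := h1 f1 hf1
  rw [List.all_eq_true] at h2
  have h3 := h2 f2 hf2
  rw [List.all_eq_true] at h3
  have h4 := h3 f3 hf3
  rw [List.all_eq_true] at h4
  have h5 := h4 s1 (mem_bools s1)
  rw [List.all_eq_true] at h5
  have h6 := h5 s2 (mem_bools s2)
  rw [List.all_eq_true] at h6
  exact h6 s3 (mem_bools s3)

theorem arith_bool {m f1 f2 f3 k1 k2 k3 : ℕ} (s1 s2 s3 : Bool)
    (hm : Odd m) (h31 : 3 ≤ f1) (h32 : 3 ≤ f2) (h33 : 3 ≤ f3)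
    (ho1 : Odd f1) (ho2 : Odd f2) (ho3 : Odd f3)
    (hk1 : m = f1 * k1) (hk2 : m = f2 * k2) (hk3 : m = f3 * k3)
    (E1 : 1 + pp s1 f1 + pp s2 f2 + pp s3 f3 = np s1 f1 + np s2 f2 + np s3 f3)
    (E2 : m + pp s1 k1 + pp s2 k2 + pp s3 k3 = 32 + np s1 k1 + np s2 k2 + np s3 k3) :
    m = 21 ∨ m = 45 := by
  have hb1 : 3 * k1 ≤ m := by rw [hk1]; exact Nat.mul_le_mul_right k1 h31
  have hb2 : 3 * k2 ≤ m := by rw [hk2]; exact Nat.mul_le_mul_right k2 h32
  have hb3 : 3 * k3 ≤ m := by rw [hk3]; exact Nat.mul_le_mul_right k3 h33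
  have hd1 : m / f1 = k1 := by rw [hk1]; exact Nat.mul_div_cancel_left k1 (by omega)
  have hd2 : m / f2 = k2 := by rw [hk2]; exact Nat.mul_div_cancel_left k2 (by omega)
  have hd3 : m / f3 = k3 := by rw [hk3]; exact Nat.mul_div_cancel_left k3 (by omega)
  have hmpos : 0 < m := hm.pos
  have hk1pos : 0 < k1 := by
    rcases Nat.eq_zero_or_pos k1 with h | h
    · rw [h, mul_zero] at hk1; omega
    · exact h
  have hk2pos : 0 < k2 := by
    rcases Nat.eq_zero_or_pos k2 with h | h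
    · rw [h, mul_zero] at hk2; omega
    · exact h
  have hk3pos : 0 < k3 := by
    rcases Nat.eq_zero_or_pos k3 with h | h
    · rw [h, mul_zero] at hk3; omega
    · exact h
  have hm96 : m < 96 := by
    cases s1 <;> cases s2 <;> cases s3 <;> simp only [pp, np, if_true, if_false,
      Bool.false_eq_true] at E1 E2 <;> omega
  have hf1 := mem_divsD8 hmpos hm96 ho1 h31 ⟨k1, hk1⟩
  have hf2 := mem_divsD8 hmpos hm96 ho2 h32 ⟨k2, hk2⟩
  have hf3 := mem_divsD8 hmpos hm96 ho3 h33 ⟨k3, hk3⟩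
  have hok := okD8_of s1 s2 s3 hm hm96 hf1 hf2 hf3
  unfold okD8 at hok
  rw [hd1, hd2, hd3] at hok
  simp only [Bool.or_eq_true, Bool.not_eq_true', Bool.and_eq_false_iff, beq_iff_eq,
    beq_eq_false_iff_ne] at hok
  rcases hok with (h | h) | h
  · exact (h E1).elim
  · exact (h E2).elim
  · exact h

theorem arith {m f1 f2 f3 k1 k2 k3 : ℕ} {e1 e2 e3 : ℤ}
    (he1 : e1 = 1 ∨ e1 = -1) (he2 : e2 = 1 ∨ e2 = -1) (he3 : e3 = 1 ∨ e3 = -1)
    (hm : Odd m) (h31 : 3 ≤ f1) (h32 : 3 ≤ f2) (h33 : 3 ≤ f3)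
    (ho1 : Odd f1) (ho2 : Odd f2) (ho3 : Odd f3)
    (hk1 : m = f1 * k1) (hk2 : m = f2 * k2) (hk3 : m = f3 * k3)
    (E1 : 1 + e1 * f1 + e2 * f2 + e3 * f3 = 0)
    (E2 : (m : ℤ) + e1 * k1 + e2 * k2 + e3 * k3 = 32) : m = 21 ∨ m = 45 := by
  have key : ∀ e : ℤ, (e = 1 ∨ e = -1) → ∃ s : Bool, ∀ x : ℕ, e * (x : ℤ) = (pp s x : ℤ) - np s x := by
    rintro e (rfl | rfl)
    · exact ⟨true, fun x => by simp [pp, np]⟩
    · exact ⟨false, fun x => by simp [pp, np]⟩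
  obtain ⟨s1, hs1⟩ := key e1 he1
  obtain ⟨s2, hs2⟩ := key e2 he2
  obtain ⟨s3, hs3⟩ := key e3 he3
  rw [hs1, hs2, hs3] at E1 E2
  apply arith_bool s1 s2 s3 hm h31 h32 h33 ho1 ho2 ho3 hk1 hk2 hk3
  · omega
  · omega

end Cfsg.Agent.Lib.Helper4.D8
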