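import Mathlib
import Cfsg.Agent.Lib.Helper76.Galois
import Cfsg.Agent.Lib.Helper78.CharValues

/-!
# Character values at an element of order dividing 4 (helper4)
-/

set_option autoImplicit false

namespace Cfsg.Agent.Lib.Helper4.D8

open Cfsg Complex

theorem four_cases (x : ℂ) (h : x ^ 4 = 1) : x = 1 ∨ x = I ∨ x = -1 ∨ x = -I := by
  have h1 : (x - 1) * ((x - I) * ((x + 1) * (x + I))) = 0 := by
    have : (x - 1) * ((x - I) * ((x + 1) * (x + I))) = x ^ 4 - 1 + (I ^ 2 + 1) * (1 - x ^ 2) := by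
      ring
    rw [this, h, I_sq]; ring
  rcases mul_eq_zero.mp h1 with h | h
  · left; exact sub_eq_zero.mp h
  rcases mul_eq_zero.mp h with h | h
  · right; left; exact sub_eq_zero.mp h
  rcases mul_eq_zero.mp h with h | h
  · right; right; left; exact eq_neg_of_add_eq_zero_left h
  · right; right; right; exact eq_neg_of_add_eq_zero_left h

theorem four_roots : ∀ (n : ℕ) (μ : Fin n → ℂ), (∀ i, μ i ^ 4 = 1) →
    ∃ n0 n1 n2 n3 : ℕ, n0 + n1 + n2 + n3 = n ∧ ∀ k : ℕ,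
      ∑ i, μ i ^ k = n0 + n1 * I ^ k + n2 * (-1) ^ k + n3 * (-I) ^ k := by
  intro n
  induction n with
  | zero =>
    intro μ _
    exact ⟨0, 0, 0, 0, rfl, fun k => by simp⟩
  | succ n ih =>
    intro μ hμ
    obtain ⟨n0, n1, n2, n3, hsum, hk⟩ := ih (fun i => μ i.castSucc) (fun i => hμ _)
    rcases four_cases _ (hμ (Fin.last n)) with h | h | h | h
    · refine ⟨n0 + 1, n1, n2, n3, by omega, fun k => ?_⟩
      rw [Fin.sum_univ_castSucc, hk k, h]; push_cast; ring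
    · refine ⟨n0, n1 + 1, n2, n3, by omega, fun k => ?_⟩
      rw [Fin.sum_univ_castSucc, hk k, h]; push_cast; ring
    · refine ⟨n0, n1, n2 + 1, n3, by omega, fun k => ?_⟩
      rw [Fin.sum_univ_castSucc, hk k, h]; push_cast; ring
    · refine ⟨n0, n1, n2, n3 + 1, by omega, fun k => ?_⟩
      rw [Fin.sum_univ_castSucc, hk k, h]; push_cast; ring

variable {G : Type*} [Group G]

/-- values of a character on the powers of an element of order dividing 4. -/
theorem char_values {χ : G → ℂ} (hχ : IsCharacter G χ) (g : G) (hg : g ^ 4 = 1) :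
    ∃ n0 n1 n2 n3 : ℕ, χ 1 = n0 + n1 + n2 + n3 ∧ χ g = (n0 - n2) + (n1 - n3) * I ∧
      χ (g ^ 2) = n0 - n1 + n2 - n3 ∧ χ (g ^ 3) = (n0 - n2) - (n1 - n3) * I := by
  obtain ⟨n, ρ, rfl⟩ := hχ
  obtain ⟨μ, hμ, hk⟩ := Cfsg.Agent.Lib.Helper76.exists_character_pow_eq_sum ρ g 4 (by norm_num) hg
  obtain ⟨n0, n1, n2, n3, -, hs⟩ := four_roots _ μ hμ
  refine ⟨n0, n1, n2, n3, ?_, ?_, ?_, ?_⟩
  · have := hk 0
    rw [pow_zero, hs 0] at this
    rw [this]; simp
  · have := hk 1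
    rw [pow_one, hs 1] at this
    rw [this]; ring
  · have := hk 2
    rw [hs 2] at this
    have hI2 : (-I : ℂ) ^ 2 = -1 := by rw [neg_sq, I_sq]
    rw [this, I_sq, hI2]; ring
  · have := hk 3
    rw [hs 3] at this
    have hI3 : (I : ℂ) ^ 3 = -I := by
      rw [show (3 : ℕ) = 2 + 1 by norm_num, pow_add, I_sq]; ring
    rw [this, hI3]
    have : (-I : ℂ) ^ 3 = I := by
      rw [neg_pow, hI3]; ring
    rw [this]; ring

/-- values of a character at a real element of order dividing 4. -/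
theorem real_values {χ : G → ℂ} (hχ : IsCharacter G χ) (g : G) (hg : g ^ 4 = 1)
    (hreal : χ (g ^ 3) = χ g) :
    ∃ n0 n1 n2 : ℕ, χ 1 = ((n0 + n2 + 2 * n1 : ℕ) : ℂ) ∧ χ g = (((n0 : ℤ) - n2 : ℤ) : ℂ) ∧
      χ (g ^ 2) = (((n0 : ℤ) + n2 - 2 * n1 : ℤ) : ℂ) := by
  obtain ⟨n0, n1, n2, n3, h1, h2, h3, h4⟩ := char_values hχ g hg
  have h13 : n1 = n3 := by
    rw [h2, h4] at hreal
    have h5 : ((n1 : ℂ) - n3) * I = 0 := by linear_combination (-1 / 2 : ℂ) * hreal
    rcases mul_eq_zero.mp h5 with h | h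
    · have : (n1 : ℂ) = n3 := sub_eq_zero.mp h
      exact_mod_cast this
    · exact (I_ne_zero h).elim
  subst h13
  refine ⟨n0, n1, n2, ?_, ?_, ?_⟩
  · rw [h1]; push_cast; ring
  · rw [h2]; push_cast; ring
  · rw [h3]; push_cast; ring

end Cfsg.Agent.Lib.Helper4.D8
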