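import Mathlib
import Cfsg.Agent.Lib.Helper4.D8Group
import Cfsg.Agent.Lib.Helper4.D8Arith
import Cfsg.Agent.Lib.Helper4.D8Char
import Cfsg.Agent.Lib.Helper4.TripleSum
import Cfsg.Agent.Lib.Helper4.Conj
import Cfsg.Agent.Lib.Helper52.NormThree
import Cfsg.Agent.Lib.Helper77.Linear
import Cfsg.Agent.Lib.Helper78.CharOrtho
import Cfsg.Agent.Lib.Helper79.Integrality
import Cfsg.Agent.S0840
import Cfsg.Agent.S0235

/-!
# A perfect group with an involution whose centralizer is dihedral of order 8 has order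
168 or 360 (helper4)
-/

set_option autoImplicit false

namespace Cfsg.Agent.Lib.Helper4.D8

open Cfsg Cfsg.Agent.Lib.Helper4 Cfsg.Agent.Lib.Helper78 Cfsg.Agent.Lib.Helper52
open scoped ComplexConjugate

universe u

variable {G : Type u} [Group G] [Fintype G] {t a b : G}

omit [Fintype G] in
theorem orderOf_eq_of_isConj {u v : G} (h : IsConj u v) : orderOf v = orderOf u := by
  obtain ⟨c, hc⟩ := isConj_iff.mp h
  rw [← hc]
  have := MulEquiv.orderOf_eq (MulAut.conj c) u
  rw [MulAut.conj_apply] at this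
  exact this

/-- the number of pairs of conjugates of `t` with product `a`. -/
theorem card_pairs (H : Hyp t a b) (hno : ∀ M : Subgroup G, M.index ≠ 2) :
    Nat.card {p : G × G // IsConj t p.1 ∧ IsConj t p.2 ∧ p.1 * p.2 = a} = 4 := by
  have hiff : ∀ s : G, IsConj t s ↔ orderOf s = 2 := by
    intro s
    constructor
    · intro h; rw [orderOf_eq_of_isConj h, H.ht]
    · intro h; exact H.isConj_of_invol hno h
  have h1 : Nat.card {p : G × G // IsConj t p.1 ∧ IsConj t p.2 ∧ p.1 * p.2 = a} =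
      Nat.card {p : G × G // orderOf p.1 = 2 ∧ orderOf p.2 = 2 ∧ p.1 * p.2 = a} := by
    apply Nat.card_congr
    apply Equiv.subtypeEquivRight
    intro p
    rw [hiff, hiff]
  have ha2 : a ^ 2 ≠ 1 := by
    intro h
    have := orderOf_dvd_of_pow_eq_one h
    rw [H.ha] at this
    omega
  rw [h1, Cfsg.Agent.S0235.result a ha2, H.card_inverting]

theorem main (H : Hyp t a b) (hperf : commutator G = ⊤) :
    Nat.card G = 168 ∨ Nat.card G = 360 := by
  classical
  have hno := Hyp.index_ne_two_of_perfect hperf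
  have ha4 := H.a_pow_four
  have ha3 : a ^ 3 = b * a * b⁻¹ := by
    rw [H.hab]
    apply eq_inv_of_mul_eq_one_left
    rw [← pow_succ]
    exact ha4
  have hreal : ∀ χ : IrrCharacter G, (χ : G → ℂ) (a ^ 3) = (χ : G → ℂ) a := fun χ => by
    rw [ha3]; exact isClassFunction_irr χ a b
  choose n0 n1 n2 hf hx hy using fun χ : IrrCharacter G =>
    real_values (IsIrrCharacter.isCharacter χ.2) a ha4 (hreal χ)
  have ht2 : a ^ 2 = t := H.t_eq.symm
  simp only [ht2] at hy
  set f : IrrCharacter G → ℕ := fun χ => n0 χ + n2 χ + 2 * n1 χ with hfdef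
  set x : IrrCharacter G → ℤ := fun χ => (n0 χ : ℤ) - n2 χ with hxdef
  set y : IrrCharacter G → ℤ := fun χ => (n0 χ : ℤ) + n2 χ - 2 * n1 χ with hydef
  have hf' : ∀ χ : IrrCharacter G, (χ : G → ℂ) 1 = (f χ : ℂ) := hf
  have hx' : ∀ χ : IrrCharacter G, (χ : G → ℂ) a = (x χ : ℂ) := hx
  have hy' : ∀ χ : IrrCharacter G, (χ : G → ℂ) t = (y χ : ℂ) := hy
  -- parities
  have hpar1 : ∀ χ, (2 : ℤ) ∣ y χ - x χ := fun χ => ⟨(n2 χ : ℤ) - n1 χ, by simp only [hxdef, hydef]; ring⟩
  have hpar2 : ∀ χ, (2 : ℤ) ∣ (f χ : ℤ) - y χ := fun χ =>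
    ⟨2 * (n1 χ : ℤ), by simp only [hfdef, hydef]; push_cast; ring⟩
  -- orthogonality relations
  have hO1 : ∑ χ : IrrCharacter G, x χ * x χ = 4 := by
    have h := second_orthogonality_of_isConj (IsConj.refl a)
    rw [H.card_centralizer_a] at h
    simp only [hx', map_intCast] at h
    have : ((∑ χ : IrrCharacter G, x χ * x χ : ℤ) : ℂ) = ((4 : ℤ) : ℂ) := by
      push_cast; exact h
    exact_mod_cast this
  have hO2 : ∑ χ : IrrCharacter G, x χ * (f χ : ℤ) = 0 := by
    have hnc : ¬ IsConj a 1 := by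
      intro h
      have := orderOf_eq_of_isConj h
      rw [orderOf_one, H.ha] at this
      omega
    have h := second_orthogonality_of_not_isConj hnc
    simp only [hx', hf', map_natCast] at h
    have : ((∑ χ : IrrCharacter G, x χ * (f χ : ℤ) : ℤ) : ℂ) = ((0 : ℤ) : ℂ) := by
      push_cast; exact h
    exact_mod_cast this
  have hO4 : ∑ χ : IrrCharacter G, y χ * y χ = 8 := by
    have h := second_orthogonality_of_isConj (IsConj.refl t)
    rw [H.hcard] at h
    simp only [hy', map_intCast] at h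
    have : ((∑ χ : IrrCharacter G, y χ * y χ : ℤ) : ℂ) = ((8 : ℤ) : ℂ) := by
      push_cast; exact h
    exact_mod_cast this
  -- the class multiplication constant
  have hGpos : (0 : ℚ) < (Nat.card G : ℚ) := by exact_mod_cast Nat.card_pos
  have hfpos : ∀ χ : IrrCharacter G, 0 < f χ := by
    intro χ
    have h1 := IsIrrCharacter.charDegree_pos χ.2
    have h2 := IsCharacter.apply_one_eq_charDegree (IsIrrCharacter.isCharacter χ.2)
    rw [hf' χ] at h2
    have : f χ = charDegree (χ : G → ℂ) := by exact_mod_cast h2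
    omega
  have hO5 : ∑ χ : IrrCharacter G, ((y χ * y χ * x χ : ℤ) : ℚ) / (f χ : ℚ) =
      256 / (Nat.card G : ℚ) := by
    have h := Cfsg.Agent.S0840.result t t a
    rw [finsum_eq_sum_of_fintype, card_pairs H hno] at h
    have hcl := card_isConj_mul_card_centralizer t
    rw [H.hcard] at hcl
    have hclC : (Nat.card {v : G // IsConj t v} : ℂ) = (Nat.card G : ℂ) / 8 := by
      have : (Nat.card {v : G // IsConj t v} : ℂ) * 8 = (Nat.card G : ℂ) := by exact_mod_cast hcl
      rw [← this]; ring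
    have hGC : (Nat.card G : ℂ) ≠ 0 := by exact_mod_cast Nat.card_pos.ne'
    rw [hclC] at h
    have hsum : ∑ χ : IrrCharacter G, (χ : G → ℂ) t * (χ : G → ℂ) t * conj ((χ : G → ℂ) a) /
        (χ : G → ℂ) 1 =
        ((∑ χ : IrrCharacter G, ((y χ * y χ * x χ : ℤ) : ℚ) / (f χ : ℚ) : ℚ) : ℂ) := by
      rw [Rat.cast_sum]
      apply Finset.sum_congr rfl
      intro χ _
      rw [hy', hx', hf', map_intCast]
      push_cast
      ring
    rw [hsum] at h
    set S : ℚ := ∑ χ : IrrCharacter G, ((y χ * y χ * x χ : ℤ) : ℚ) / (f χ : ℚ) with hS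
    have h2 : ((S : ℚ) : ℂ) = ((256 / (Nat.card G : ℚ) : ℚ) : ℂ) := by
      push_cast
      have h3 : (Nat.card G : ℂ) * (S : ℂ) = 256 := by
        have h4 : ((4 : ℕ) : ℂ) = (Nat.card G : ℂ) * (S : ℂ) / 64 := by
          rw [h]; field_simp; ring
        push_cast at h4
        linear_combination (-64 : ℂ) * h4
      rw [eq_div_iff hGC, mul_comm]
      exact h3
    exact_mod_cast h2
  -- the trivial character
  set τ : IrrCharacter G := trivIrr G with hτ
  have hτ1 : ∀ g, (τ : G → ℂ) g = 1 := fun g => rfl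
  have hxτ : x τ = 1 := by
    have := hx' τ
    rw [hτ1] at this
    exact_mod_cast this.symm
  have hyτ : y τ = 1 := by
    have := hy' τ
    rw [hτ1] at this
    exact_mod_cast this.symm
  have hfτ : f τ = 1 := by
    have := hf' τ
    rw [hτ1] at this
    exact_mod_cast this.symm
  obtain ⟨α, β, γ, hατ, hβτ, hγτ, hαβ, hαγ, hβγ, hxα, hxβ, hxγ, hrest⟩ :=
    exists_triple τ x hO1 hxτ
  -- E1
  have hE1 : 1 + x α * f α + x β * f β + x γ * f γ = 0 := by
    have h := sum_four hατ hβτ hγτ hαβ hαγ hβγ (fun χ => x χ * (f χ : ℤ))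
      (fun i h1 h2 h3 h4 => by
        show x i * (f i : ℤ) = 0
        rw [hrest i h1 h2 h3 h4, zero_mul])
    rw [hO2] at h
    simp only [hxτ, hfτ] at h
    push_cast at h
    linarith
  -- values at `t`
  have hyodd : ∀ δ : IrrCharacter G, (x δ = 1 ∨ x δ = -1) → ¬ (2 : ℤ) ∣ y δ := by
    intro δ hδ h2
    have h3 := hpar1 δ
    have : (2 : ℤ) ∣ x δ := by
      have := dvd_sub h2 h3
      simpa using this
    rcases hδ with h | h <;> rw [h] at this <;> omega
  have hsum4 : y τ * y τ + (y α * y α + (y β * y β + y γ * y γ)) ≤ 8 := by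
    have h1 : ∑ i ∈ ({τ, α, β, γ} : Finset (IrrCharacter G)), y i * y i ≤
        ∑ i : IrrCharacter G, y i * y i :=
      Finset.sum_le_sum_of_subset_of_nonneg (Finset.subset_univ _)
        (fun i _ _ => mul_self_nonneg _)
    rw [hO4, Finset.sum_insert (by simp [hατ.symm, hβτ.symm, hγτ.symm]),
      Finset.sum_insert (by simp [hαβ, hαγ]), Finset.sum_insert (by simp [hβγ]),
      Finset.sum_singleton] at h1
    exact h1
  rw [hyτ] at hsum4
  have hy1 : ∀ δ : IrrCharacter G, ¬ (2 : ℤ) ∣ y δ → y δ * y δ ≤ 5 → y δ * y δ = 1 := by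
    intro δ hodd hle
    have h1 : y δ ≤ 2 := by nlinarith
    have h2 : -2 ≤ y δ := by nlinarith
    have h3 : y δ = 1 ∨ y δ = -1 := by omega
    rcases h3 with h | h <;> rw [h] <;> ring
  have hpos : ∀ δ : IrrCharacter G, ¬ (2 : ℤ) ∣ y δ → 1 ≤ y δ * y δ := by
    intro δ hodd
    have : y δ ≠ 0 := by
      intro h; apply hodd; rw [h]; exact dvd_zero _
    have := mul_self_pos.mpr this
    omega
  have hyα := hpos α (hyodd α hxα)
  have hyβ := hpos β (hyodd β hxβ)
  have hyγ := hpos γ (hyodd γ hxγ)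
  have hyα1 : y α * y α = 1 := hy1 α (hyodd α hxα) (by linarith)
  have hyβ1 : y β * y β = 1 := hy1 β (hyodd β hxβ) (by linarith)
  have hyγ1 : y γ * y γ = 1 := hy1 γ (hyodd γ hxγ) (by linarith)
  -- E2 (rational form)
  have hE2 : (1 : ℚ) + (x α : ℚ) / f α + (x β : ℚ) / f β + (x γ : ℚ) / f γ =
      256 / (Nat.card G : ℚ) := by
    have h := sum_four hατ hβτ hγτ hαβ hαγ hβγ
      (fun χ => ((y χ * y χ * x χ : ℤ) : ℚ) / (f χ : ℚ))
      (fun i h1 h2 h3 h4 => by
        show ((y i * y i * x i : ℤ) : ℚ) / (f i : ℚ) = 0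
        rw [hrest i h1 h2 h3 h4]; simp)
    rw [hO5] at h
    simp only [hxτ, hfτ, hyτ, hyα1, hyβ1, hyγ1] at h
    rw [h]; push_cast; ring
  -- degrees
  have hfodd : ∀ δ : IrrCharacter G, ¬ (2 : ℤ) ∣ y δ → Odd (f δ) := by
    intro δ hodd
    rw [← Nat.not_even_iff_odd, even_iff_two_dvd]
    intro h2
    apply hodd
    have h3 := hpar2 δ
    have h4 : (2 : ℤ) ∣ (f δ : ℤ) := by exact_mod_cast h2
    have := dvd_sub h4 h3
    simpa using this
  have hfne : ∀ δ : IrrCharacter G, δ ≠ τ → f δ ≠ 1 := by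
    intro δ hδ h1
    apply hδ
    apply Subtype.ext
    funext g
    rw [hτ1]
    apply Cfsg.Agent.Lib.Helper77.linear_character_eq_one_of_mem_commutator δ
    · rw [hf' δ, h1]; simp
    · rw [hperf]; exact Subgroup.mem_top g
  have hf3 : ∀ δ : IrrCharacter G, δ ≠ τ → Odd (f δ) → 3 ≤ f δ := by
    intro δ hδ hodd
    have h1 := hfpos δ
    have h2 := hfne δ hδ
    obtain ⟨k, hk⟩ := hodd
    omega
  have hfdvd : ∀ δ : IrrCharacter G, f δ ∣ Nat.card G := by
    intro δ
    have h1 := Cfsg.Agent.Lib.Helper79.irr_charDegree_dvd_card δ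
    have h2 := IsCharacter.apply_one_eq_charDegree (IsIrrCharacter.isCharacter δ.2)
    rw [hf' δ] at h2
    have : f δ = charDegree (δ : G → ℂ) := by exact_mod_cast h2
    rw [this]; exact h1
  obtain ⟨m, hmodd, hm⟩ := H.exists_card_eq
  have hfm : ∀ δ : IrrCharacter G, Odd (f δ) → ∃ k : ℕ, m = f δ * k := by
    intro δ hodd
    have h1 := hfdvd δ
    rw [hm] at h1
    have hcop : Nat.Coprime (f δ) 8 := by
      have : Nat.Coprime (f δ) 2 := Nat.coprime_two_right.mpr hodd
      exact Nat.Coprime.pow_right 3 this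
    exact hcop.dvd_of_dvd_mul_left h1
  have hoα := hfodd α (hyodd α hxα)
  have hoβ := hfodd β (hyodd β hxβ)
  have hoγ := hfodd γ (hyodd γ hxγ)
  obtain ⟨k1, hk1⟩ := hfm α hoα
  obtain ⟨k2, hk2⟩ := hfm β hoβ
  obtain ⟨k3, hk3⟩ := hfm γ hoγ
  have hmpos : 0 < m := hmodd.pos
  -- E2 (integer form)
  have hE2' : (m : ℤ) + x α * k1 + x β * k2 + x γ * k3 = 32 := by
    have hmQ : (m : ℚ) ≠ 0 := by exact_mod_cast hmpos.ne'
    have hfα : (f α : ℚ) ≠ 0 := by exact_mod_cast (hfpos α).ne'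
    have hfβ : (f β : ℚ) ≠ 0 := by exact_mod_cast (hfpos β).ne'
    have hfγ : (f γ : ℚ) ≠ 0 := by exact_mod_cast (hfpos γ).ne'
    have h1 : (m : ℚ) = f α * k1 := by exact_mod_cast hk1
    have h2 : (m : ℚ) = f β * k2 := by exact_mod_cast hk2
    have h3 : (m : ℚ) = f γ * k3 := by exact_mod_cast hk3
    have hG : (Nat.card G : ℚ) = 8 * m := by rw [hm]; push_cast; ring
    rw [hG] at hE2
    have hk1Q : (k1 : ℚ) ≠ 0 := by
      intro h0; apply hmQ; rw [h1, h0, mul_zero]
    have hk2Q : (k2 : ℚ) ≠ 0 := by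
      intro h0; apply hmQ; rw [h2, h0, mul_zero]
    have hk3Q : (k3 : ℚ) ≠ 0 := by
      intro h0; apply hmQ; rw [h3, h0, mul_zero]
    have e1 : (x α : ℚ) / f α = x α * k1 / m := by
      rw [h1]; field_simp
    have e2 : (x β : ℚ) / f β = x β * k2 / m := by
      rw [h2]; field_simp
    have e3 : (x γ : ℚ) / f γ = x γ * k3 / m := by
      rw [h3]; field_simp
    rw [e1, e2, e3] at hE2
    have h4 : ((m : ℚ) + x α * k1 + x β * k2 + x γ * k3) = 32 := by
      field_simp at hE2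
      linarith
    exact_mod_cast h4
  have hfin := arith hxα hxβ hxγ hmodd (hf3 α hατ hoα) (hf3 β hβτ hoβ) (hf3 γ hγτ hoγ)
    hoα hoβ hoγ hk1 hk2 hk3 hE1 hE2'
  rw [hm]
  omega

end Cfsg.Agent.Lib.Helper4.D8
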