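import Mathlib
import Cfsg.Agent.Lib.Helper4.D8Arith

/-!
# The Diophantine step for groups with a self-centralizing Klein four-group (helper4)
-/

set_option autoImplicit false

namespace Cfsg.Agent.Lib.Helper4.V4

open Cfsg.Agent.Lib.Helper4.D8 (pp np mem_bools)

def okV4 (m f1 f2 f3 : ℕ) (s1 s2 s3 : Bool) : Bool :=
  !((1 + pp s1 f1 + pp s2 f2 + pp s3 f3 == np s1 f1 + np s2 f2 + np s3 f3) &&
    (m + pp s1 (m / f1) + pp s2 (m / f2) + pp s3 (m / f3) ==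
      8 + np s1 (m / f1) + np s2 (m / f2) + np s3 (m / f3))) || (m == 3 || m == 15)

def divsV4 (m : ℕ) : List ℕ :=
  (List.range 24).filter (fun f => (f % 2 == 1) && (m % f == 0))

def checkV4 : Bool :=
  (List.range 12).all fun j =>
    (divsV4 (2 * j + 1)).all fun f1 => (divsV4 (2 * j + 1)).all fun f2 =>
      (divsV4 (2 * j + 1)).all fun f3 =>
        [true, false].all fun s1 => [true, false].all fun s2 => [true, false].all fun s3 =>
          okV4 (2 * j + 1) f1 f2 f3 s1 s2 s3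

set_option maxRecDepth 1000000 in
theorem checkV4_true : checkV4 = true := by decide +kernel

theorem mem_divsV4 {m f : ℕ} (hm : 0 < m) (hm24 : m < 24) (hodd : Odd f)
    (hd : f ∣ m) : f ∈ divsV4 m := by
  unfold divsV4
  rw [List.mem_filter, List.mem_range]
  refine ⟨lt_of_le_of_lt (Nat.le_of_dvd hm hd) hm24, ?_⟩
  have h1 : f % 2 = 1 := Nat.odd_iff.mp hodd
  have h2 : m % f = 0 := Nat.mod_eq_zero_of_dvd hd
  simp [h1, h2]

theorem okV4_of {m f1 f2 f3 : ℕ} (s1 s2 s3 : Bool) (hm : Odd m) (hm24 : m < 24)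
    (hf1 : f1 ∈ divsV4 m) (hf2 : f2 ∈ divsV4 m) (hf3 : f3 ∈ divsV4 m) :
    okV4 m f1 f2 f3 s1 s2 s3 = true := by
  obtain ⟨j, rfl⟩ := hm
  have hj : j < 12 := by omega
  have h0 := checkV4_true
  unfold checkV4 at h0
  rw [List.all_eq_true] at h0
  have h1 := h0 j (List.mem_range.mpr hj)
  rw [List.all_eq_true] at h1
  have h2 := h1 f1 hf1
  rw [List.all_eq_true] at h2
  have h3 := h2 f2 hf2
  rw [List.all_eq_true] at h3
  have h4 := h3 f3 hf3
  rw [List.all_eq_true] at h4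
  have h5 := h4 s1 (mem_bools s1)
  rw [List.all_eq_true] at h5
  have h6 := h5 s2 (mem_bools s2)
  rw [List.all_eq_true] at h6
  exact h6 s3 (mem_bools s3)

theorem arith_bool {m f1 f2 f3 k1 k2 k3 : ℕ} (s1 s2 s3 : Bool)
    (hm : Odd m) (ho1 : Odd f1) (ho2 : Odd f2) (ho3 : Odd f3)
    (hk1 : m = f1 * k1) (hk2 : m = f2 * k2) (hk3 : m = f3 * k3)
    (E1 : 1 + pp s1 f1 + pp s2 f2 + pp s3 f3 = np s1 f1 + np s2 f2 + np s3 f3)
    (E2 : m + pp s1 k1 + pp s2 k2 + pp s3 k3 = 8 + np s1 k1 + np s2 k2 + np s3 k3) :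
    m = 3 ∨ m = 15 := by
  have hmpos : 0 < m := hm.pos
  have hf1pos : 0 < f1 := ho1.pos
  have hf2pos : 0 < f2 := ho2.pos
  have hf3pos : 0 < f3 := ho3.pos
  have key : ∀ f k : ℕ, Odd f → m = f * k → (f = 1 ∧ k = m) ∨ (3 ≤ f ∧ 3 * k ≤ m) := by
    intro f k ho hk
    obtain ⟨c, hc⟩ := ho
    rcases Nat.eq_zero_or_pos c with h0 | hpos
    · left
      have : f = 1 := by omega
      refine ⟨this, ?_⟩
      rw [hk, this, one_mul]
    · right
      have h3 : 3 ≤ f := by omega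
      refine ⟨h3, ?_⟩
      rw [hk]; exact Nat.mul_le_mul_right k h3
  have hc1 := key f1 k1 ho1 hk1
  have hc2 := key f2 k2 ho2 hk2
  have hc3 := key f3 k3 ho3 hk3
  have hd1 : m / f1 = k1 := by rw [hk1]; exact Nat.mul_div_cancel_left k1 hf1pos
  have hd2 : m / f2 = k2 := by rw [hk2]; exact Nat.mul_div_cancel_left k2 hf2pos
  have hd3 : m / f3 = k3 := by rw [hk3]; exact Nat.mul_div_cancel_left k3 hf3pos
  have kpos : ∀ f k : ℕ, m = f * k → 0 < k := by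
    intro f k hk
    rcases Nat.eq_zero_or_pos k with h | h
    · rw [h, mul_zero] at hk; omega
    · exact h
  have hk1pos := kpos f1 k1 hk1
  have hk2pos := kpos f2 k2 hk2
  have hk3pos := kpos f3 k3 hk3
  have heq : ∀ f f' k k' : ℕ, 0 < f → m = f * k → m = f' * k' → f = f' → k = k' := by
    intro f f' k k' hf hk hk' hff
    subst hff
    exact Nat.eq_of_mul_eq_mul_left hf (hk.symm.trans hk')
  have h12 := heq f1 f2 k1 k2 hf1pos hk1 hk2
  have h13 := heq f1 f3 k1 k3 hf1pos hk1 hk3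
  have h23 := heq f2 f3 k2 k3 hf2pos hk2 hk3
  have hm24 : m < 24 := by
    cases s1 <;> cases s2 <;> cases s3 <;> simp only [pp, np, if_true, if_false,
      Bool.false_eq_true] at E1 E2 <;> omega
  have hf1 := mem_divsV4 hmpos hm24 ho1 ⟨k1, hk1⟩
  have hf2 := mem_divsV4 hmpos hm24 ho2 ⟨k2, hk2⟩
  have hf3 := mem_divsV4 hmpos hm24 ho3 ⟨k3, hk3⟩
  have hok := okV4_of s1 s2 s3 hm hm24 hf1 hf2 hf3
  unfold okV4 at hok
  rw [hd1, hd2, hd3] at hok
  simp only [Bool.or_eq_true, Bool.not_eq_true', Bool.and_eq_false_iff, beq_iff_eq,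
    beq_eq_false_iff_ne] at hok
  rcases hok with (h | h) | h
  · exact (h E1).elim
  · exact (h E2).elim
  · exact h

theorem arith {m f1 f2 f3 k1 k2 k3 : ℕ} {e1 e2 e3 : ℤ}
    (he1 : e1 = 1 ∨ e1 = -1) (he2 : e2 = 1 ∨ e2 = -1) (he3 : e3 = 1 ∨ e3 = -1)
    (hm : Odd m) (ho1 : Odd f1) (ho2 : Odd f2) (ho3 : Odd f3)
    (hk1 : m = f1 * k1) (hk2 : m = f2 * k2) (hk3 : m = f3 * k3)
    (E1 : 1 + e1 * f1 + e2 * f2 + e3 * f3 = 0)
    (E2 : (m : ℤ) + e1 * k1 + e2 * k2 + e3 * k3 = 8) : m = 3 ∨ m = 15 := by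
  have key : ∀ e : ℤ, (e = 1 ∨ e = -1) →
      ∃ s : Bool, ∀ x : ℕ, e * (x : ℤ) = (pp s x : ℤ) - np s x := by
    rintro e (rfl | rfl)
    · exact ⟨true, fun x => by simp [pp, np]⟩
    · exact ⟨false, fun x => by simp [pp, np]⟩
  obtain ⟨s1, hs1⟩ := key e1 he1
  obtain ⟨s2, hs2⟩ := key e2 he2
  obtain ⟨s3, hs3⟩ := key e3 he3
  rw [hs1, hs2, hs3] at E1 E2
  apply arith_bool s1 s2 s3 hm ho1 ho2 ho3 hk1 hk2 hk3
  · omega
  · omega

end Cfsg.Agent.Lib.Helper4.V4
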