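import Mathlib
import Cfsg.Agent.Lib.Helper4.D8Main
import Cfsg.Agent.Lib.Helper4.V4Arith
import Cfsg.Agent.S0236

/-!
# Groups with an involution whose centralizer is a Klein four-group all of whose involutions are
conjugate have order 12 or 60 (helper4)
-/

set_option autoImplicit false

namespace Cfsg.Agent.Lib.Helper4.V4

open Cfsg Cfsg.Agent.Lib.Helper4 Cfsg.Agent.Lib.Helper78 Cfsg.Agent.Lib.Helper52
open Cfsg.Agent.Lib.Helper4.D8 (mem_cent_iff orderOf_eq_of_isConj char_values)
open scoped ComplexConjugate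

universe u

structure Hyp {X : Type*} [Group X] (z b : X) : Prop where
  hz : orderOf z = 2
  hcard : Nat.card (Subgroup.centralizer ({z} : Set X)) = 4
  hb : orderOf b = 2
  hbz : b ≠ z
  hcomm : z * b = b * z
  hconj : IsConj z b
  hconj2 : IsConj z (z * b)

variable {X : Type u} [Group X] {z b : X}

namespace Hyp

theorem zb_invol (H : Hyp z b) : orderOf (z * b) = 2 := by
  rw [orderOf_eq_of_isConj H.hconj2, H.hz]

theorem b_mem (H : Hyp z b) : b ∈ Subgroup.centralizer ({z} : Set X) := mem_cent_iff.mpr H.hcomm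

theorem zb_mem (H : Hyp z b) : z * b ∈ Subgroup.centralizer ({z} : Set X) := by
  rw [mem_cent_iff, ← mul_assoc, mul_assoc z b z, ← H.hcomm]
  group

/-- the elements of `C(z)`. -/
theorem mem_iff [Finite X] (H : Hyp z b) (x : X) :
    x ∈ Subgroup.centralizer ({z} : Set X) ↔ x = 1 ∨ x = z ∨ x = b ∨ x = z * b := by
  classical
  have : Fintype X := Fintype.ofFinite X
  have hz1 : z ≠ 1 := ne_one_of_orderOf_two H.hz
  have hb1 : b ≠ 1 := ne_one_of_orderOf_two H.hb
  have hzb1 : z * b ≠ 1 := ne_one_of_orderOf_two H.zb_invol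
  have hzbz : z * b ≠ z := by
    intro h; apply hb1
    have := congrArg (fun t => z⁻¹ * t) h
    simpa using this
  have hzbb : z * b ≠ b := by
    intro h; apply hz1
    have := congrArg (fun t => t * b⁻¹) h
    simpa using this
  set S : Finset X := {1, z, b, z * b} with hS
  have hScard : S.card = 4 := by
    rw [hS, Finset.card_insert_of_notMem, Finset.card_insert_of_notMem,
      Finset.card_insert_of_notMem, Finset.card_singleton]
    · simp only [Finset.mem_singleton]; exact fun h => hzbb h.symm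
    · simp only [Finset.mem_insert, Finset.mem_singleton, not_or]
      exact ⟨fun h => H.hbz h.symm, fun h => hzbz h.symm⟩
    · simp only [Finset.mem_insert, Finset.mem_singleton, not_or]
      exact ⟨fun h => hz1 h.symm, fun h => hb1 h.symm, fun h => hzb1 h.symm⟩
  set C : Finset X := Finset.univ.filter (fun x => x ∈ Subgroup.centralizer ({z} : Set X)) with hC
  have hCcard : C.card = 4 := by
    rw [← H.hcard, Nat.card_eq_fintype_card, Fintype.card_subtype]
  have hSC : S ⊆ C := by
    intro x hx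
    rw [hC, Finset.mem_filter]
    refine ⟨Finset.mem_univ _, ?_⟩
    rw [hS] at hx
    simp only [Finset.mem_insert, Finset.mem_singleton] at hx
    rcases hx with rfl | rfl | rfl | rfl
    · exact one_mem _
    · exact mem_cent_iff.mpr rfl
    · exact H.b_mem
    · exact H.zb_mem
  have hEq : S = C := Finset.eq_of_subset_of_card_le hSC (by rw [hScard, hCcard])
  constructor
  · intro hx
    have : x ∈ C := by rw [hC, Finset.mem_filter]; exact ⟨Finset.mem_univ _, hx⟩
    rw [← hEq, hS] at this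
    simpa using this
  · intro hx
    have : x ∈ S := by rw [hS]; simpa using hx
    rw [hEq, hC, Finset.mem_filter] at this
    exact this.2

/-- involutions of `C(z)` are conjugate to `z`. -/
theorem isConj_of_mem [Finite X] (H : Hyp z b) {x : X}
    (hx : x ∈ Subgroup.centralizer ({z} : Set X)) (hx1 : x ≠ 1) : IsConj z x := by
  rcases (H.mem_iff x).mp hx with h | h | h | h
  · exact (hx1 h).elim
  · rw [h]
  · rw [h]; exact H.hconj
  · rw [h]; exact H.hconj2

theorem isPGroup_C (H : Hyp z b) : IsPGroup 2 (Subgroup.centralizer ({z} : Set X)) := by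
  apply IsPGroup.of_card (n := 2)
  rw [H.hcard]; norm_num

/-- `C(z)` is a Sylow 2-subgroup. -/
theorem exists_sylow [Finite X] (H : Hyp z b) :
    ∃ P : Sylow 2 X, (P : Subgroup X) = Subgroup.centralizer ({z} : Set X) := by
  classical
  have : Fintype X := Fintype.ofFinite X
  have : Fact (Nat.Prime 2) := ⟨Nat.prime_two⟩
  obtain ⟨P, hP⟩ := H.isPGroup_C.exists_le_sylow
  refine ⟨P, le_antisymm ?_ hP⟩
  have hzP : z ∈ (P : Subgroup X) := hP (mem_cent_iff.mpr rfl)
  have hnt : Nontrivial (P : Subgroup X) := by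
    refine ⟨⟨⟨z, hzP⟩, 1, ?_⟩⟩
    intro h
    exact ne_one_of_orderOf_two H.hz (congrArg Subtype.val h)
  have hc := IsPGroup.center_nontrivial P.isPGroup'
  obtain ⟨⟨c, hc⟩, hc1⟩ := exists_ne (1 : Subgroup.center (P : Subgroup X))
  rw [Subgroup.mem_center_iff] at hc
  have hcomm : ∀ x ∈ (P : Subgroup X), x * (c : X) = (c : X) * x := by
    intro x hx
    have := hc ⟨x, hx⟩
    exact congrArg Subtype.val this
  have hcC : (c : X) ∈ Subgroup.centralizer ({z} : Set X) := mem_cent_iff.mpr (hcomm z hzP)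
  have hcne : (c : X) ≠ 1 := by
    intro h
    apply hc1
    apply Subtype.ext
    apply Subtype.ext
    exact h
  have hconj := H.isConj_of_mem hcC hcne
  have hcardc : Nat.card (Subgroup.centralizer ({(c : X)} : Set X)) = 4 := by
    rw [← card_centralizer_eq_of_isConj hconj, H.hcard]
  have hPle : (P : Subgroup X) ≤ Subgroup.centralizer ({(c : X)} : Set X) := by
    intro x hx
    rw [mem_cent_iff]
    exact (hcomm x hx).symm
  have h1 : Nat.card (P : Subgroup X) ≤ 4 := by
    rw [← hcardc]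
    exact Nat.le_of_dvd Nat.card_pos (Subgroup.card_dvd_of_le hPle)
  have h2 : Subgroup.centralizer ({z} : Set X) = (P : Subgroup X) := by
    apply Subgroup.eq_of_le_of_card_ge hP
    rw [H.hcard]; exact h1
  rw [h2]

/-- all involutions are conjugate to `z`. -/
theorem isConj_iff [Finite X] (H : Hyp z b) (s : X) : IsConj z s ↔ orderOf s = 2 := by
  constructor
  · intro h; rw [orderOf_eq_of_isConj h, H.hz]
  · intro hs
    have : Fact (Nat.Prime 2) := ⟨Nat.prime_two⟩
    obtain ⟨P, hP⟩ := H.exists_sylow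
    obtain ⟨g, hg⟩ := exists_conj_mem_sylow P (isPGroup_two_zpowers hs)
    have hs' : g * s * g⁻¹ ∈ (P : Subgroup X) := hg s (Subgroup.mem_zpowers s)
    rw [hP] at hs'
    have hs'2 : orderOf (g * s * g⁻¹) = 2 := orderOf_conj_two g hs
    have h1 := H.isConj_of_mem hs' (ne_one_of_orderOf_two hs'2)
    refine h1.trans ?_
    rw [isConj_comm]
    exact _root_.isConj_iff.mpr ⟨g, rfl⟩

theorem card_commuting [Finite X] (H : Hyp z b) :
    Nat.card {t : X // orderOf t = 2 ∧ Commute t z} = 3 := by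
  classical
  have : Fintype X := Fintype.ofFinite X
  have hz1 : z ≠ 1 := ne_one_of_orderOf_two H.hz
  have hb1 : b ≠ 1 := ne_one_of_orderOf_two H.hb
  have hzbz : z * b ≠ z := by
    intro h; apply hb1
    have := congrArg (fun t => z⁻¹ * t) h
    simpa using this
  have hzbb : z * b ≠ b := by
    intro h; apply hz1
    have := congrArg (fun t => t * b⁻¹) h
    simpa using this
  rw [Nat.card_eq_fintype_card, Fintype.card_subtype]
  have : Finset.univ.filter (fun t : X => orderOf t = 2 ∧ Commute t z) = {z, b, z * b} := by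
    ext t
    simp only [Finset.mem_filter, Finset.mem_univ, true_and, Finset.mem_insert,
      Finset.mem_singleton]
    constructor
    · rintro ⟨h2, hc⟩
      have hmem : t ∈ Subgroup.centralizer ({z} : Set X) := mem_cent_iff.mpr hc.eq.symm
      rcases (H.mem_iff t).mp hmem with h | h | h | h
      · exact (ne_one_of_orderOf_two h2 h).elim
      · exact Or.inl h
      · exact Or.inr (Or.inl h)
      · exact Or.inr (Or.inr h)
    · rintro (rfl | rfl | rfl)
      · exact ⟨H.hz, Commute.refl _⟩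
      · exact ⟨H.hb, H.hcomm.symm⟩
      · exact ⟨H.zb_invol, (mem_cent_iff.mp H.zb_mem).symm⟩
  rw [this, Finset.card_insert_of_notMem, Finset.card_insert_of_notMem, Finset.card_singleton]
  · simp only [Finset.mem_singleton]; exact fun h => hzbb h.symm
  · simp only [Finset.mem_insert, Finset.mem_singleton, not_or]
    exact ⟨fun h => H.hbz h.symm, fun h => hzbz h.symm⟩

theorem card_pairs [Finite X] (H : Hyp z b) :
    Nat.card {p : X × X // IsConj z p.1 ∧ IsConj z p.2 ∧ p.1 * p.2 = z} = 2 := by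
  have h1 : Nat.card {p : X × X // IsConj z p.1 ∧ IsConj z p.2 ∧ p.1 * p.2 = z} =
      Nat.card {p : X × X // orderOf p.1 = 2 ∧ orderOf p.2 = 2 ∧ p.1 * p.2 = z} := by
    apply Nat.card_congr
    apply Equiv.subtypeEquivRight
    intro p
    rw [H.isConj_iff, H.isConj_iff]
  have h2 := Cfsg.Agent.S0236.result z H.hz
  rw [H.card_commuting] at h2
  rw [h1]; omega

theorem exists_card_eq [Finite X] (H : Hyp z b) : ∃ m : ℕ, Odd m ∧ Nat.card X = 4 * m := by
  have : Fact (Nat.Prime 2) := ⟨Nat.prime_two⟩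
  obtain ⟨P, hP⟩ := H.exists_sylow
  refine ⟨(P : Subgroup X).index, ?_, ?_⟩
  · rw [← Nat.not_even_iff_odd, even_iff_two_dvd]
    exact P.not_dvd_index
  · rw [← (P : Subgroup X).card_mul_index, hP, H.hcard]

end Hyp

/-- values of a character at an involution. -/
theorem invol_values {χ : X → ℂ} (hχ : IsCharacter X χ) (g : X) (hg : g * g = 1) :
    ∃ n0 n2 : ℕ, χ 1 = ((n0 + n2 : ℕ) : ℂ) ∧ χ g = (((n0 : ℤ) - n2 : ℤ) : ℂ) := by
  have hg4 : g ^ 4 = 1 := by
    rw [show (4 : ℕ) = 2 + 2 by norm_num, pow_add, pow_two, hg, one_mul]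
  have hg2 : g ^ 2 = 1 := by rw [pow_two, hg]
  obtain ⟨n0, n1, n2, n3, h1, h2, h3, -⟩ := char_values hχ g hg4
  rw [hg2, h1] at h3
  have h4 : ((n1 + n3 : ℕ) : ℂ) = 0 := by
    push_cast
    linear_combination (1 / 2 : ℂ) * h3
  have h5 : n1 + n3 = 0 := by exact_mod_cast h4
  have h6 : n1 = 0 := by omega
  have h7 : n3 = 0 := by omega
  subst h6 h7
  refine ⟨n0, n2, ?_, ?_⟩
  · rw [h1]; push_cast; ring
  · rw [h2]; push_cast; ring

theorem main [Fintype X] (H : Hyp z b) : Nat.card X = 12 ∨ Nat.card X = 60 := by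
  classical
  have hzz : z * z = 1 := mul_self_of_orderOf_two H.hz
  choose n0 n2 hf hy using fun χ : IrrCharacter X =>
    invol_values (IsIrrCharacter.isCharacter χ.2) z hzz
  set f : IrrCharacter X → ℕ := fun χ => n0 χ + n2 χ with hfdef
  set y : IrrCharacter X → ℤ := fun χ => (n0 χ : ℤ) - n2 χ with hydef
  have hf' : ∀ χ : IrrCharacter X, (χ : X → ℂ) 1 = (f χ : ℂ) := hf
  have hy' : ∀ χ : IrrCharacter X, (χ : X → ℂ) z = (y χ : ℂ) := hy
  have hpar : ∀ χ, (2 : ℤ) ∣ (f χ : ℤ) - y χ := fun χ =>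
    ⟨(n2 χ : ℤ), by simp only [hfdef, hydef]; push_cast; ring⟩
  -- orthogonality
  have hO1 : ∑ χ : IrrCharacter X, y χ * y χ = 4 := by
    have h := second_orthogonality_of_isConj (IsConj.refl z)
    rw [H.hcard] at h
    simp only [hy', map_intCast] at h
    have : ((∑ χ : IrrCharacter X, y χ * y χ : ℤ) : ℂ) = ((4 : ℤ) : ℂ) := by
      push_cast; exact h
    exact_mod_cast this
  have hO2 : ∑ χ : IrrCharacter X, y χ * (f χ : ℤ) = 0 := by
    have hnc : ¬ IsConj z 1 := by
      intro h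
      have := orderOf_eq_of_isConj h
      rw [orderOf_one, H.hz] at this
      omega
    have h := second_orthogonality_of_not_isConj hnc
    simp only [hy', hf', map_natCast] at h
    have : ((∑ χ : IrrCharacter X, y χ * (f χ : ℤ) : ℤ) : ℂ) = ((0 : ℤ) : ℂ) := by
      push_cast; exact h
    exact_mod_cast this
  have hfpos : ∀ χ : IrrCharacter X, 0 < f χ := by
    intro χ
    have h1 := IsIrrCharacter.charDegree_pos χ.2
    have h2 := IsCharacter.apply_one_eq_charDegree (IsIrrCharacter.isCharacter χ.2)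
    rw [hf' χ] at h2
    have : f χ = charDegree (χ : X → ℂ) := by exact_mod_cast h2
    omega
  have hO5 : ∑ χ : IrrCharacter X, ((y χ * y χ * y χ : ℤ) : ℚ) / (f χ : ℚ) =
      32 / (Nat.card X : ℚ) := by
    have h := Cfsg.Agent.S0840.result z z z
    rw [finsum_eq_sum_of_fintype, H.card_pairs] at h
    have hcl := card_isConj_mul_card_centralizer z
    rw [H.hcard] at hcl
    have hclC : (Nat.card {v : X // IsConj z v} : ℂ) = (Nat.card X : ℂ) / 4 := by
      have : (Nat.card {v : X // IsConj z v} : ℂ) * 4 = (Nat.card X : ℂ) := by exact_mod_cast hcl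
      rw [← this]; ring
    have hGC : (Nat.card X : ℂ) ≠ 0 := by exact_mod_cast Nat.card_pos.ne'
    rw [hclC] at h
    have hsum : ∑ χ : IrrCharacter X, (χ : X → ℂ) z * (χ : X → ℂ) z * conj ((χ : X → ℂ) z) /
        (χ : X → ℂ) 1 =
        ((∑ χ : IrrCharacter X, ((y χ * y χ * y χ : ℤ) : ℚ) / (f χ : ℚ) : ℚ) : ℂ) := by
      rw [Rat.cast_sum]
      apply Finset.sum_congr rfl
      intro χ _
      rw [hy', hf', map_intCast]
      push_cast
      ring
    rw [hsum] at h
    set S : ℚ := ∑ χ : IrrCharacter X, ((y χ * y χ * y χ : ℤ) : ℚ) / (f χ : ℚ) with hS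
    have h2 : ((S : ℚ) : ℂ) = ((32 / (Nat.card X : ℚ) : ℚ) : ℂ) := by
      push_cast
      have h3 : (Nat.card X : ℂ) * (S : ℂ) = 32 := by
        have h4 : ((2 : ℕ) : ℂ) = (Nat.card X : ℂ) * (S : ℂ) / 16 := by
          rw [h]; field_simp; ring
        push_cast at h4
        linear_combination (-16 : ℂ) * h4
      rw [eq_div_iff hGC, mul_comm]
      exact h3
    exact_mod_cast h2
  -- the trivial character
  set τ : IrrCharacter X := trivIrr X with hτ
  have hτ1 : ∀ g, (τ : X → ℂ) g = 1 := fun g => rfl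
  have hyτ : y τ = 1 := by
    have := hy' τ
    rw [hτ1] at this
    exact_mod_cast this.symm
  have hfτ : f τ = 1 := by
    have := hf' τ
    rw [hτ1] at this
    exact_mod_cast this.symm
  obtain ⟨α, β, γ, hατ, hβτ, hγτ, hαβ, hαγ, hβγ, hyα, hyβ, hyγ, hrest⟩ :=
    exists_triple τ y hO1 hyτ
  have hE1 : 1 + y α * f α + y β * f β + y γ * f γ = 0 := by
    have h := sum_four hατ hβτ hγτ hαβ hαγ hβγ (fun χ => y χ * (f χ : ℤ))
      (fun i h1 h2 h3 h4 => by
        show y i * (f i : ℤ) = 0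
        rw [hrest i h1 h2 h3 h4, zero_mul])
    rw [hO2] at h
    simp only [hyτ, hfτ] at h
    push_cast at h
    linarith
  have hcube : ∀ δ : IrrCharacter X, (y δ = 1 ∨ y δ = -1) → y δ * y δ * y δ = y δ := by
    rintro δ (h | h) <;> rw [h] <;> ring
  have hE2 : (1 : ℚ) + (y α : ℚ) / f α + (y β : ℚ) / f β + (y γ : ℚ) / f γ =
      32 / (Nat.card X : ℚ) := by
    have h := sum_four hατ hβτ hγτ hαβ hαγ hβγ
      (fun χ => ((y χ * y χ * y χ : ℤ) : ℚ) / (f χ : ℚ))
      (fun i h1 h2 h3 h4 => by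
        show ((y i * y i * y i : ℤ) : ℚ) / (f i : ℚ) = 0
        rw [hrest i h1 h2 h3 h4]; simp)
    rw [hO5] at h
    simp only [hcube α hyα, hcube β hyβ, hcube γ hyγ, hyτ, hfτ] at h
    rw [h]; push_cast; ring
  have hfodd : ∀ δ : IrrCharacter X, (y δ = 1 ∨ y δ = -1) → Odd (f δ) := by
    intro δ hδ
    rw [← Nat.not_even_iff_odd, even_iff_two_dvd]
    intro h2
    have h3 := hpar δ
    have h4 : (2 : ℤ) ∣ (f δ : ℤ) := by exact_mod_cast h2
    have h5 : (2 : ℤ) ∣ y δ := by
      have := dvd_sub h4 h3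
      simpa using this
    rcases hδ with h | h <;> rw [h] at h5 <;> omega
  have hfdvd : ∀ δ : IrrCharacter X, f δ ∣ Nat.card X := by
    intro δ
    have h1 := Cfsg.Agent.Lib.Helper79.irr_charDegree_dvd_card δ
    have h2 := IsCharacter.apply_one_eq_charDegree (IsIrrCharacter.isCharacter δ.2)
    rw [hf' δ] at h2
    have : f δ = charDegree (δ : X → ℂ) := by exact_mod_cast h2
    rw [this]; exact h1
  obtain ⟨m, hmodd, hm⟩ := H.exists_card_eq
  have hfm : ∀ δ : IrrCharacter X, Odd (f δ) → ∃ k : ℕ, m = f δ * k := by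
    intro δ hodd
    have h1 := hfdvd δ
    rw [hm] at h1
    have hcop : Nat.Coprime (f δ) 4 := by
      have : Nat.Coprime (f δ) 2 := Nat.coprime_two_right.mpr hodd
      exact Nat.Coprime.pow_right 2 this
    exact hcop.dvd_of_dvd_mul_left h1
  have hoα := hfodd α hyα
  have hoβ := hfodd β hyβ
  have hoγ := hfodd γ hyγ
  obtain ⟨k1, hk1⟩ := hfm α hoα
  obtain ⟨k2, hk2⟩ := hfm β hoβ
  obtain ⟨k3, hk3⟩ := hfm γ hoγ
  have hmpos : 0 < m := hmodd.pos
  have hE2' : (m : ℤ) + y α * k1 + y β * k2 + y γ * k3 = 8 := by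
    have hmQ : (m : ℚ) ≠ 0 := by exact_mod_cast hmpos.ne'
    have hfα : (f α : ℚ) ≠ 0 := by exact_mod_cast (hfpos α).ne'
    have hfβ : (f β : ℚ) ≠ 0 := by exact_mod_cast (hfpos β).ne'
    have hfγ : (f γ : ℚ) ≠ 0 := by exact_mod_cast (hfpos γ).ne'
    have h1 : (m : ℚ) = f α * k1 := by exact_mod_cast hk1
    have h2 : (m : ℚ) = f β * k2 := by exact_mod_cast hk2
    have h3 : (m : ℚ) = f γ * k3 := by exact_mod_cast hk3
    have hG : (Nat.card X : ℚ) = 4 * m := by rw [hm]; push_cast; ring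
    rw [hG] at hE2
    have hk1Q : (k1 : ℚ) ≠ 0 := by
      intro h0; apply hmQ; rw [h1, h0, mul_zero]
    have hk2Q : (k2 : ℚ) ≠ 0 := by
      intro h0; apply hmQ; rw [h2, h0, mul_zero]
    have hk3Q : (k3 : ℚ) ≠ 0 := by
      intro h0; apply hmQ; rw [h3, h0, mul_zero]
    have e1 : (y α : ℚ) / f α = y α * k1 / m := by
      rw [h1]; field_simp
    have e2 : (y β : ℚ) / f β = y β * k2 / m := by
      rw [h2]; field_simp
    have e3 : (y γ : ℚ) / f γ = y γ * k3 / m := by
      rw [h3]; field_simp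
    rw [e1, e2, e3] at hE2
    have h4 : ((m : ℚ) + y α * k1 + y β * k2 + y γ * k3) = 8 := by
      field_simp at hE2
      linarith
    exact_mod_cast h4
  have hfin := arith hyα hyβ hyγ hmodd hoα hoβ hoγ hk1 hk2 hk3 hE1 hE2'
  rw [hm]
  omega

end Cfsg.Agent.Lib.Helper4.V4
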