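import Mathlib
import Cfsg.Agent.Lib.Helper4.D8Fusion
import Cfsg.Agent.Lib.Helper4.V4Main

/-!
# A subgroup of index 2 in a group with dihedral involution centralizer of order 8 (helper4)

Setting: `Hyp t a b`, `t` conjugate to `b`, `M` of index two.  Then `t, b ∈ M`, `a, b a ∉ M`, and
inside `M` the hypothesis `V4.Hyp` holds, so `|M| ∈ {12, 60}`.
-/

set_option autoImplicit false

namespace Cfsg.Agent.Lib.Helper4.D8

open Cfsg Cfsg.Agent.Lib.Helper4

variable {G : Type*} [Group G] {t a b : G}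

namespace Hyp

theorem t_mem_of_index_two (H : Hyp t a b) {M : Subgroup G} (hM : M.index = 2) : t ∈ M := by
  rw [H.t_eq]; exact Subgroup.sq_mem_of_index_two hM a

theorem mem_of_isConj {M : Subgroup G} [hn : M.Normal] {x y : G} (h : IsConj x y) (hx : x ∈ M) :
    y ∈ M := by
  obtain ⟨g, hg⟩ := isConj_iff.mp h
  rw [← hg]
  exact hn.conj_mem x hx g

theorem le_of_a_mem (H : Hyp t a b) {M : Subgroup G} (ha : a ∈ M) (hb : b ∈ M) :
    Subgroup.centralizer ({t} : Set G) ≤ M := by
  intro d hd
  have hA : Subgroup.zpowers a ≤ M := Subgroup.zpowers_le.mpr ha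
  by_cases hdA : d ∈ Subgroup.zpowers a
  · exact hA hdA
  · have h1 := hA (H.mul_mem_of_not_mem hd hdA)
    have : d = b⁻¹ * (b * d) := by group
    rw [this]
    exact M.mul_mem (M.inv_mem hb) h1

theorem a_not_mem [Finite G] (H : Hyp t a b) {M : Subgroup G} (hM : M.index = 2) (hb : b ∈ M) :
    a ∉ M := by
  intro ha
  have hle := H.le_of_a_mem ha hb
  obtain ⟨m, hmodd, hm⟩ := H.exists_card_eq
  have h1 := M.card_mul_index
  rw [hM, hm] at h1
  have h2 := Subgroup.card_dvd_of_le hle
  rw [H.hcard] at h2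
  obtain ⟨k, hk⟩ := hmodd
  omega

theorem ba_not_mem [Finite G] (H : Hyp t a b) {M : Subgroup G} (hM : M.index = 2) (hb : b ∈ M) :
    b * a ∉ M := by
  intro h
  apply H.a_not_mem hM hb
  have : a = b⁻¹ * (b * a) := by group
  rw [this]
  exact M.mul_mem (M.inv_mem hb) h

/-- `t ≠ b`. -/
theorem b_ne_t (H : Hyp t a b) : b ≠ t := by
  intro h
  apply H.b_not_mem
  rw [h, H.t_eq]
  exact Subgroup.pow_mem _ (Subgroup.mem_zpowers a) 2

/-- `t b = a⁻¹ b a`. -/
theorem conj_b_eq (H : Hyp t a b) : a⁻¹ * b * a = t * b := by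
  have h1 := H.conj_b 1
  rw [zpow_one, inv_inv, mul_one] at h1
  rw [h1]
  have h2 : t * b = b * t := mem_cent_iff.mp H.hbD
  rw [h2, H.t_eq]
  norm_cast

theorem card_inf [Finite G] (H : Hyp t a b) {M : Subgroup G} (hM : M.index = 2) (hb : b ∈ M) :
    Nat.card (M ⊓ Subgroup.centralizer ({t} : Set G) : Subgroup G) = 4 := by
  haveI : M.Normal := Subgroup.normal_of_index_eq_two hM
  have h1 : M.relIndex (Subgroup.centralizer ({t} : Set G)) ∣ 2 := by
    rw [← hM]; exact Subgroup.relIndex_dvd_index_of_normal M _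
  have h2 : M.relIndex (Subgroup.centralizer ({t} : Set G)) ≠ 1 := by
    intro h
    rw [Subgroup.relIndex_eq_one] at h
    exact H.a_not_mem hM hb (h H.haD)
  have h3 : M.relIndex (Subgroup.centralizer ({t} : Set G)) = 2 := by
    rcases (Nat.dvd_prime Nat.prime_two).mp h1 with h | h
    · exact (h2 h).elim
    · exact h
  have h4 := Subgroup.inf_relIndex_right M (Subgroup.centralizer ({t} : Set G))
  have h5 := ((M ⊓ Subgroup.centralizer ({t} : Set G)).subgroupOf
    (Subgroup.centralizer ({t} : Set G))).card_mul_index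
  rw [Nat.card_congr (Subgroup.subgroupOfEquivOfLe
    (inf_le_right : M ⊓ Subgroup.centralizer ({t} : Set G) ≤ _)).toEquiv, H.hcard] at h5
  have h6 : ((M ⊓ Subgroup.centralizer ({t} : Set G)).subgroupOf
    (Subgroup.centralizer ({t} : Set G))).index = 2 := by
    rw [← h3, ← h4]; rfl
  rw [h6] at h5
  omega

/-- the centralizer of `t` in `M`. -/
theorem map_centralizer_subtype (M : Subgroup G) (x : M) :
    (Subgroup.centralizer ({x} : Set M)).map M.subtype =
      M ⊓ Subgroup.centralizer ({(x : G)} : Set G) := by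
  ext y
  simp only [Subgroup.mem_map, Subgroup.mem_inf, mem_cent_iff, Subgroup.coe_subtype]
  constructor
  · rintro ⟨w, hw, rfl⟩
    refine ⟨w.2, ?_⟩
    have := congrArg Subtype.val hw
    simpa using this
  · rintro ⟨hy, hc⟩
    refine ⟨⟨y, hy⟩, ?_, rfl⟩
    apply Subtype.ext
    simpa using hc

theorem card_centralizer_subtype (M : Subgroup G) (x : M) :
    Nat.card (Subgroup.centralizer ({x} : Set M)) =
      Nat.card (M ⊓ Subgroup.centralizer ({(x : G)} : Set G) : Subgroup G) := by
  rw [← map_centralizer_subtype, Subgroup.card_map_of_injective M.subtype_injective]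

/-- conjugacy in `M` from conjugacy in `G`, using an element of `C(x)` outside `M`. -/
theorem isConj_subtype {M : Subgroup G} (hM : M.index = 2) {x y c : G} (hx : x ∈ M) (hy : y ∈ M)
    (hc : c ∉ M) (hcx : c * x = x * c) (h : IsConj x y) :
    IsConj (⟨x, hx⟩ : M) ⟨y, hy⟩ := by
  obtain ⟨g, hg⟩ := isConj_iff.mp h
  by_cases hgM : g ∈ M
  · rw [isConj_iff]
    refine ⟨⟨g, hgM⟩, ?_⟩
    apply Subtype.ext
    simpa using hg
  · have hgc : g * c ∈ M := by
      rw [Subgroup.mul_mem_iff_of_index_two hM]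
      exact ⟨fun h => (hgM h).elim, fun h => (hc h).elim⟩
    rw [isConj_iff]
    refine ⟨⟨g * c, hgc⟩, ?_⟩
    apply Subtype.ext
    simp only [Subgroup.coe_mul, Subgroup.coe_inv]
    calc g * c * x * (g * c)⁻¹ = g * (c * x) * c⁻¹ * g⁻¹ := by group
      _ = g * x * g⁻¹ := by rw [hcx]; group
      _ = y := hg

/-- the hypothesis `V4.Hyp` inside a subgroup of index two. -/
theorem v4Hyp [Finite G] (H : Hyp t a b) (hconj : IsConj t b) {M : Subgroup G} (hM : M.index = 2)
    (htM : t ∈ M) (hbM : b ∈ M) : V4.Hyp (⟨t, htM⟩ : M) ⟨b, hbM⟩ := by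
  haveI : M.Normal := Subgroup.normal_of_index_eq_two hM
  have hbaM := H.ba_not_mem hM hbM
  have hbat : b * a * t = t * (b * a) := (mem_cent_iff.mp H.swap.hbD).symm
  have htb : t * b = b * t := mem_cent_iff.mp H.hbD
  have htbM : t * b ∈ M := M.mul_mem htM hbM
  refine
    { hz := ?_
      hcard := ?_
      hb := ?_
      hbz := ?_
      hcomm := ?_
      hconj := ?_
      hconj2 := ?_ }
  · rw [Subgroup.orderOf_mk]; exact H.ht
  · rw [card_centralizer_subtype]
    exact H.card_inf hM hbM
  · rw [Subgroup.orderOf_mk]; exact H.hb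
  · intro h
    exact H.b_ne_t (congrArg Subtype.val h)
  · apply Subtype.ext
    simpa using htb
  · exact isConj_subtype hM htM hbM hbaM hbat hconj
  · have h1 : IsConj t (t * b) := by
      refine hconj.trans ?_
      rw [isConj_iff]
      refine ⟨a⁻¹, ?_⟩
      rw [inv_inv]
      exact H.conj_b_eq
    exact isConj_subtype hM htM htbM hbaM hbat h1

theorem card_of_index_two [Finite G] (H : Hyp t a b) (hconj : IsConj t b) {M : Subgroup G}
    (hM : M.index = 2) : Nat.card G = 24 ∨ Nat.card G = 120 := by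
  classical
  haveI : M.Normal := Subgroup.normal_of_index_eq_two hM
  have htM := H.t_mem_of_index_two hM
  have hbM : b ∈ M := mem_of_isConj hconj htM
  have hV := H.v4Hyp hconj hM htM hbM
  haveI : Fintype M := Fintype.ofFinite M
  have h1 := V4.main hV
  have h2 := M.card_mul_index
  rw [hM] at h2
  omega

end Hyp

end Cfsg.Agent.Lib.Helper4.D8
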