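import Mathlib
import Cfsg.Agent.Lib.Helper4.V4Main

/-!
# More on groups with a self-centralizing Klein four-group with all involutions conjugate (helper4)
-/

set_option autoImplicit false

namespace Cfsg.Agent.Lib.Helper4.V4

open Cfsg Cfsg.Agent.Lib.Helper4
open Cfsg.Agent.Lib.Helper4.D8 (mem_cent_iff orderOf_eq_of_isConj)

universe u

variable {X : Type u} [Group X] {z b : X}

namespace Hyp

theorem card_class [Finite X] (H : Hyp z b) : Nat.card {v : X // IsConj z v} * 4 = Nat.card X := by
  have h := card_isConj_mul_card_centralizer z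
  rwa [H.hcard] at h

theorem z_ne_one (H : Hyp z b) : z ≠ 1 := ne_one_of_orderOf_two H.hz

theorem b_ne_one (H : Hyp z b) : b ≠ 1 := ne_one_of_orderOf_two H.hb

theorem zb_ne_z (H : Hyp z b) : z * b ≠ z := by
  intro h; apply H.b_ne_one
  have := congrArg (fun t => z⁻¹ * t) h
  simpa using this

theorem zb_ne_b (H : Hyp z b) : z * b ≠ b := by
  intro h; apply H.z_ne_one
  have := congrArg (fun t => t * b⁻¹) h
  simpa using this

/-- in a group of order 12 the class of `z` is `{z, b, z b}`. -/
theorem eq_of_isConj_of_card [Finite X] (H : Hyp z b) (hcard : Nat.card X = 12) {v : X}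
    (hv : IsConj z v) : v = z ∨ v = b ∨ v = z * b := by
  classical
  have : Fintype X := Fintype.ofFinite X
  have h3 : Nat.card {v : X // IsConj z v} = 3 := by
    have := H.card_class
    rw [hcard] at this
    omega
  set C : Finset X := Finset.univ.filter (fun v => IsConj z v) with hC
  have hCcard : C.card = 3 := by
    rw [← h3, Nat.card_eq_fintype_card, Fintype.card_subtype]
  set S : Finset X := {z, b, z * b} with hS
  have hScard : S.card = 3 := by
    rw [hS, Finset.card_insert_of_notMem, Finset.card_insert_of_notMem, Finset.card_singleton]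
    · simp only [Finset.mem_singleton]; exact fun h => H.zb_ne_b h.symm
    · simp only [Finset.mem_insert, Finset.mem_singleton, not_or]
      exact ⟨fun h => H.hbz h.symm, fun h => H.zb_ne_z h.symm⟩
  have hSC : S ⊆ C := by
    intro x hx
    rw [hC, Finset.mem_filter]
    refine ⟨Finset.mem_univ _, ?_⟩
    rw [hS] at hx
    simp only [Finset.mem_insert, Finset.mem_singleton] at hx
    rcases hx with rfl | rfl | rfl
    · exact IsConj.refl _
    · exact H.hconj
    · exact H.hconj2
  have hEq : S = C := Finset.eq_of_subset_of_card_le hSC (by rw [hScard, hCcard])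
  have hvC : v ∈ C := by
    rw [hC, Finset.mem_filter]; exact ⟨Finset.mem_univ _, hv⟩
  rw [← hEq, hS] at hvC
  simpa using hvC

end Hyp

end Cfsg.Agent.Lib.Helper4.V4
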