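import Mathlib
import Cfsg.Agent.Lib.Helper4.D8Index2
import Cfsg.Agent.Lib.Helper4.V4More
import Cfsg.Agent.S1012

/-!
# The case `|G| = 24`: `G ≅ S₄` (helper4)
-/

set_option autoImplicit false

namespace Cfsg.Agent.Lib.Helper4.D8

open Cfsg Cfsg.Agent.Lib.Helper4 Cfsg.Agent.Lib.Helper78

variable {G : Type*} [Group G] {t a b : G}

namespace Hyp

/-- `b` does not commute with `b a`. -/
theorem not_comm_b_ba (H : Hyp t a b) : ¬ (b * a * b = b * (b * a)) := by
  intro h
  apply H.a_ne_inv
  have h1 : a * b = b * a := by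
    calc a * b = b⁻¹ * (b * a * b) := by group
      _ = b⁻¹ * (b * (b * a)) := by rw [h]
      _ = b * a := by group
  calc a = (b * a) * b⁻¹ := by rw [← h1]; group
    _ = a⁻¹ := by rw [← H.hab]

theorem no_order_six [Finite G] (H : Hyp t a b) (hconj : IsConj t b) {M : Subgroup G}
    (hM : M.index = 2) (hcard : Nat.card G = 24) (g0 : G) : orderOf g0 ≠ 6 := by
  classical
  intro h6
  have : Fintype G := Fintype.ofFinite G
  have hMn : M.Normal := Subgroup.normal_of_index_eq_two hM
  have htM := H.t_mem_of_index_two hM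
  have hbM : b ∈ M := mem_of_isConj hconj htM
  have hV := H.v4Hyp hconj hM htM hbM
  have hMcard : Nat.card M = 12 := by
    have h2 := M.card_mul_index
    rw [hM, hcard] at h2
    omega
  -- the involution `u` and the element `s` of order 3
  have hs3 : orderOf (g0 ^ 2) = 3 := by
    rw [orderOf_pow_of_dvd (by norm_num) (by rw [h6]; norm_num), h6]
  have hu2 : orderOf (g0 ^ 3) = 2 := by
    rw [orderOf_pow_of_dvd (by norm_num) (by rw [h6]; norm_num), h6]
  have hcomm : Commute (g0 ^ 2) (g0 ^ 3) := (Commute.refl g0).pow_pow 2 3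
  -- a general contradiction: an element of order 3 commuting with a conjugate of `t`
  have hno : ∀ (s u : G), orderOf s = 3 → IsConj t u → Commute s u → False := by
    intro s u hs hu hc
    have h8 : Nat.card (Subgroup.centralizer ({u} : Set G)) = 8 := by
      rw [← card_centralizer_eq_of_isConj hu, H.hcard]
    have hmem : s ∈ Subgroup.centralizer ({u} : Set G) := mem_cent_iff.mpr hc.eq.symm
    have h1 : orderOf (⟨s, hmem⟩ : Subgroup.centralizer ({u} : Set G)) ∣ 8 := by
      rw [← h8]; exact orderOf_dvd_natCard _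
    rw [Subgroup.orderOf_mk, hs] at h1
    omega
  rcases H.invol_cases hu2 with h | h | h
  · exact hno _ _ hs3 h hcomm
  · exact hno _ _ hs3 (hconj.trans h) hcomm
  · -- `u` conjugate to `b a`
    obtain ⟨x, hx⟩ := isConj_iff.mp h
    set s : G := x⁻¹ * g0 ^ 2 * x with hs
    have hs3' : orderOf s = 3 := by
      have hc : IsConj (g0 ^ 2) s := by
        rw [isConj_iff]
        exact ⟨x⁻¹, by rw [inv_inv]⟩
      rw [orderOf_eq_of_isConj hc]
      exact hs3
    have hsc : Commute s (b * a) := by
      have h1 : b * a = x⁻¹ * g0 ^ 3 * x := by rw [← hx]; group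
      show s * (b * a) = b * a * s
      rw [h1, hs]
      calc x⁻¹ * g0 ^ 2 * x * (x⁻¹ * g0 ^ 3 * x) = x⁻¹ * (g0 ^ 2 * g0 ^ 3) * x := by group
        _ = x⁻¹ * (g0 ^ 3 * g0 ^ 2) * x := by rw [hcomm.eq]
        _ = x⁻¹ * g0 ^ 3 * x * (x⁻¹ * g0 ^ 2 * x) := by group
    have hsM : s ∈ M := by
      have h4 : s = (s ^ 2) ^ 2 := by
        rw [← pow_mul]
        have h3 : s ^ 3 = 1 := by rw [← hs3']; exact pow_orderOf_eq_one s
        calc s = s ^ 3 * s := by rw [h3, one_mul]
          _ = s ^ (2 * 2) := by rw [← pow_succ]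
      rw [h4]
      exact Subgroup.sq_mem_of_index_two hM _
    set w : G := s * t * s⁻¹ with hw
    have hwM : w ∈ M := hMn.conj_mem t htM s
    have hconjM : IsConj (⟨t, htM⟩ : M) ⟨w, hwM⟩ := by
      rw [isConj_iff]
      refine ⟨⟨s, hsM⟩, ?_⟩
      apply Subtype.ext
      simp [hw]
    have hbat : Commute (b * a) t := (mem_cent_iff.mp H.swap.hbD).symm
    have hwc : Commute (b * a) w := by
      rw [hw]
      exact (hsc.symm.mul_right hbat).mul_right hsc.symm.inv_right
    rcases hV.eq_of_isConj_of_card hMcard hconjM with h1 | h1 | h1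
    · -- `w = t`: `s` centralizes `t`
      have h2 : w = t := congrArg Subtype.val h1
      have hmem : s ∈ Subgroup.centralizer ({t} : Set G) := by
        rw [mem_cent_iff]
        have : s * t = t * s := by
          calc s * t = (s * t * s⁻¹) * s := by group
            _ = t * s := by rw [← hw, h2]
        exact this.symm
      have h3 : orderOf (⟨s, hmem⟩ : Subgroup.centralizer ({t} : Set G)) ∣ 8 := by
        rw [← H.hcard]; exact orderOf_dvd_natCard _
      rw [Subgroup.orderOf_mk, hs3'] at h3
      omega
    · have h2 : w = b := congrArg Subtype.val h1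
      rw [h2] at hwc
      exact H.not_comm_b_ba hwc.eq
    · have h2 : w = t * b := by
        have := congrArg Subtype.val h1
        simpa using this
      rw [h2] at hwc
      apply H.not_comm_b_ba
      have h3 : b * a * (t * b) = t * b * (b * a) := hwc.eq
      have h4 : b * a * t = t * (b * a) := hbat.eq
      have h5 : t * (b * a * b) = t * (b * (b * a)) := by
        calc t * (b * a * b) = (t * (b * a)) * b := by group
          _ = b * a * t * b := by rw [← h4]
          _ = b * a * (t * b) := by group
          _ = t * b * (b * a) := h3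
          _ = t * (b * (b * a)) := by group
      exact mul_left_cancel h5

/-- the case `|G| = 24`. -/
theorem equiv_perm_four [Finite G] (H : Hyp t a b) (hconj : IsConj t b) {M : Subgroup G}
    (hM : M.index = 2) (hcard : Nat.card G = 24) : Nonempty (G ≃* Equiv.Perm (Fin 4)) :=
  Cfsg.Agent.S1012.result hcard (H.no_order_six hconj hM hcard)

end Hyp

end Cfsg.Agent.Lib.Helper4.D8
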