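import Mathlib
import Cfsg.Agent.Lib.Helper4.D8Index2
import Cfsg.Agent.Lib.Helper4.V4More
import Cfsg.Agent.Lib.Helper90.Invert

/-!
# The case `|G| = 120`: `G ≅ S₅` (helper4)
-/

set_option autoImplicit false

namespace Cfsg.Agent.Lib.Helper4.D8

open Cfsg Cfsg.Agent.Lib.Helper4 Cfsg.Agent.Lib.Helper78

variable {G : Type*} [Group G] {t a b : G}

namespace Hyp

/-- `(b a) (a (b a) a⁻¹) = t`. -/
theorem ba_mul_conj (H : Hyp t a b) : (b * a) * (a * (b * a) * a⁻¹) = t := by
  have h1 : b * a = a⁻¹ * b := by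
    calc b * a = (b * a * b⁻¹) * b := by group
      _ = a⁻¹ * b := by rw [H.hab]
  have hbb : b * b = 1 := mul_self_of_orderOf_two H.hb
  have h4 : a ^ 4 = 1 := H.a_pow_four
  calc (b * a) * (a * (b * a) * a⁻¹) = (b * a) * a * b := by group
    _ = (a⁻¹ * b) * a * b := by rw [h1]
    _ = a⁻¹ * (b * a) * b := by group
    _ = a⁻¹ * (a⁻¹ * b) * b := by rw [h1]
    _ = a⁻¹ * a⁻¹ * (b * b) := by group
    _ = a⁻¹ * a⁻¹ * a ^ 4 := by rw [hbb, h4]
    _ = a ^ 2 := by group
    _ = t := H.t_eq.symm

/-- a normal subgroup of even order contains `t`. -/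
theorem t_mem_of_normal_of_even [Finite G] (H : Hyp t a b) (hconj : IsConj t b) (K : Subgroup G)
    [hK : K.Normal] (heven : 2 ∣ Nat.card K) : t ∈ K := by
  classical
  have : Fintype K := Fintype.ofFinite K
  haveI : Fact (Nat.Prime 2) := ⟨Nat.prime_two⟩
  obtain ⟨u, hu⟩ := exists_prime_orderOf_dvd_card' (G := K) 2 heven
  have hu2 : orderOf (u : G) = 2 := by rw [Subgroup.orderOf_coe]; exact hu
  rcases H.invol_cases hu2 with h | h | h
  · exact mem_of_isConj h.symm u.2
  · exact mem_of_isConj (h.symm.trans hconj.symm) u.2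
  · have h1 : b * a ∈ K := mem_of_isConj h.symm u.2
    rw [← H.ba_mul_conj]
    exact K.mul_mem h1 (hK.conj_mem _ h1 a)

/-- a normal subgroup of odd order is trivial. -/
theorem eq_bot_of_normal_of_odd [Finite G] (H : Hyp t a b) (hconj : IsConj t b) (K : Subgroup G)
    [hK : K.Normal] (hodd : Odd (Nat.card K)) : K = ⊥ := by
  classical
  have : Fintype G := Fintype.ofFinite G
  have hfix : ∀ u : G, IsConj t u → ∀ k ∈ K, u * k = k * u → k = 1 := by
    intro u hu k hk hc
    have h8 : Nat.card (Subgroup.centralizer ({u} : Set G)) = 8 := by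
      rw [← card_centralizer_eq_of_isConj hu, H.hcard]
    have hmem : k ∈ Subgroup.centralizer ({u} : Set G) := mem_cent_iff.mpr hc
    have h1 : orderOf (⟨k, hmem⟩ : Subgroup.centralizer ({u} : Set G)) ∣ 8 := by
      rw [← h8]; exact orderOf_dvd_natCard _
    rw [Subgroup.orderOf_mk] at h1
    have h2 : orderOf (⟨k, hk⟩ : K) ∣ Nat.card K := orderOf_dvd_natCard _
    rw [Subgroup.orderOf_mk] at h2
    have h3 : Odd (orderOf k) := Odd.of_dvd_nat hodd h2
    have h4 : orderOf k = 1 := by
      have h5 : orderOf k ∣ 2 ^ 3 := by norm_num; exact h1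
      obtain ⟨i, -, hi⟩ := (Nat.dvd_prime_pow Nat.prime_two).mp h5
      rcases Nat.eq_zero_or_pos i with h0 | hpos
      · rw [hi, h0, pow_zero]
      · exfalso
        rw [hi] at h3
        have : Even (2 ^ i) := (Nat.even_pow.mpr ⟨even_two, hpos.ne'⟩)
        exact (Nat.not_even_iff_odd.mpr h3) this
    exact orderOf_eq_one_iff.mp h4
  have hnorm : ∀ u : G, u ∈ Subgroup.normalizer (K : Set G) := by
    intro u
    rw [Subgroup.normalizer_eq_top]
    trivial
  have hinv : ∀ u : G, orderOf u = 2 → IsConj t u → ∀ k ∈ K, u * k * u⁻¹ = k⁻¹ := by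
    intro u hu2 hu
    exact Cfsg.Agent.Lib.Helper90.inverts_of_fixedPointFree K u (mul_self_of_orderOf_two hu2)
      (hnorm u) (hfix u hu)
  have htb : IsConj t (t * b) := by
    refine hconj.trans ?_
    rw [isConj_iff]
    refine ⟨a⁻¹, ?_⟩
    rw [inv_inv]
    exact H.conj_b_eq
  have htb2 : orderOf (t * b) = 2 := by rw [orderOf_eq_of_isConj htb, H.ht]
  rw [Subgroup.eq_bot_iff_forall]
  intro k hk
  have h1 := hinv t H.ht (IsConj.refl t) k hk
  have h2 := hinv b H.hb hconj k hk
  have h3 := hinv (t * b) htb2 htb k hk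
  have h4 : t * b * k * (t * b)⁻¹ = k := by
    calc t * b * k * (t * b)⁻¹ = t * (b * k * b⁻¹) * t⁻¹ := by group
      _ = t * k⁻¹ * t⁻¹ := by rw [h2]
      _ = (t * k * t⁻¹)⁻¹ := by group
      _ = k := by rw [h1, inv_inv]
  have h5 : k = k⁻¹ := by rw [← h3, h4]
  have h6 : k * k = 1 := by
    nth_rewrite 2 [h5]
    exact mul_inv_cancel k
  have h7 : orderOf k ∣ 2 := by
    apply orderOf_dvd_of_pow_eq_one
    rw [pow_two, h6]
  have h8 : orderOf (⟨k, hk⟩ : K) ∣ Nat.card K := orderOf_dvd_natCard _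
  rw [Subgroup.orderOf_mk] at h8
  have h9 : Odd (orderOf k) := Odd.of_dvd_nat hodd h8
  rcases (Nat.dvd_prime Nat.prime_two).mp h7 with h | h
  · exact orderOf_eq_one_iff.mp h
  · rw [h] at h9
    exact (by decide : ¬ Odd 2) h9 |>.elim

/-- elements of `M ⊓ C(t)`. -/
theorem mem_inf_iff [Finite G] (H : Hyp t a b) (hconj : IsConj t b) {M : Subgroup G}
    (hM : M.index = 2) (x : G) :
    x ∈ M ⊓ Subgroup.centralizer ({t} : Set G) ↔ x = 1 ∨ x = t ∨ x = b ∨ x = t * b := by
  have hMn : M.Normal := Subgroup.normal_of_index_eq_two hM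
  have htM := H.t_mem_of_index_two hM
  have hbM : b ∈ M := mem_of_isConj hconj htM
  have hV := H.v4Hyp hconj hM htM hbM
  constructor
  · rintro ⟨hxM, hxC⟩
    have h1 : (⟨x, hxM⟩ : M) ∈ Subgroup.centralizer ({(⟨t, htM⟩ : M)} : Set M) := by
      rw [mem_cent_iff]
      apply Subtype.ext
      simpa using mem_cent_iff.mp hxC
    rcases (hV.mem_iff _).mp h1 with h | h | h | h
    · exact Or.inl (congrArg Subtype.val h)
    · exact Or.inr (Or.inl (congrArg Subtype.val h))
    · exact Or.inr (Or.inr (Or.inl (congrArg Subtype.val h)))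
    · refine Or.inr (Or.inr (Or.inr ?_))
      have := congrArg Subtype.val h
      simpa using this
  · rintro (rfl | rfl | rfl | rfl)
    · exact Subgroup.one_mem _
    · exact ⟨htM, H.t_mem⟩
    · exact ⟨hbM, H.hbD⟩
    · exact ⟨M.mul_mem htM hbM, Subgroup.mul_mem _ H.t_mem H.hbD⟩

theorem inf_centralizer_b [Finite G] (H : Hyp t a b) (hconj : IsConj t b) {M : Subgroup G}
    (hM : M.index = 2) :
    M ⊓ Subgroup.centralizer ({t} : Set G) = M ⊓ Subgroup.centralizer ({b} : Set G) := by
  classical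
  have hMn : M.Normal := Subgroup.normal_of_index_eq_two hM
  have htM := H.t_mem_of_index_two hM
  have hbM : b ∈ M := mem_of_isConj hconj htM
  have hV := H.v4Hyp hconj hM htM hbM
  have : Fintype M := Fintype.ofFinite M
  have htb : t * b = b * t := mem_cent_iff.mp H.hbD
  have hbb : b * b = 1 := mul_self_of_orderOf_two H.hb
  apply Subgroup.eq_of_le_of_card_ge
  · intro x hx
    refine ⟨hx.1, ?_⟩
    show x ∈ Subgroup.centralizer ({b} : Set G)
    rw [mem_cent_iff]
    rcases (H.mem_inf_iff hconj hM x).mp hx with rfl | rfl | rfl | rfl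
    · simp
    · exact htb.symm
    · rfl
    · rw [← mul_assoc, ← htb]
  · have h1 := card_centralizer_subtype M (⟨b, hbM⟩ : M)
    have h2 := card_centralizer_subtype M (⟨t, htM⟩ : M)
    have h3 := card_centralizer_eq_of_isConj hV.hconj
    simp only at h1 h2
    rw [← h1, ← h2, h3]

theorem conj_mem_normalizer [Finite G] (H : Hyp t a b) (hconj : IsConj t b) {M : Subgroup G}
    (hM : M.index = 2) {g : G} (hgM : g ∈ M) (hg : g * t * g⁻¹ = b) :
    g ∈ Subgroup.normalizer ((M ⊓ Subgroup.centralizer ({t} : Set G) : Subgroup G) : Set G) := by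
  rw [Subgroup.mem_normalizer_iff]
  intro h
  nth_rewrite 2 [H.inf_centralizer_b hconj hM]
  simp only [Subgroup.mem_inf, mem_cent_iff]
  constructor
  · rintro ⟨h1, h2⟩
    refine ⟨M.mul_mem (M.mul_mem hgM h1) (M.inv_mem hgM), ?_⟩
    rw [← hg]
    calc g * t * g⁻¹ * (g * h * g⁻¹) = g * (t * h) * g⁻¹ := by group
      _ = g * (h * t) * g⁻¹ := by rw [h2]
      _ = g * h * g⁻¹ * (g * t * g⁻¹) := by group
  · rintro ⟨h1, h2⟩
    constructor
    · have : h = g⁻¹ * (g * h * g⁻¹) * g := by group
      rw [this]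
      exact M.mul_mem (M.mul_mem (M.inv_mem hgM) h1) hgM
    · rw [← hg] at h2
      calc t * h = g⁻¹ * (g * t * g⁻¹ * (g * h * g⁻¹)) * g := by group
        _ = g⁻¹ * (g * h * g⁻¹ * (g * t * g⁻¹)) * g := by rw [h2]
        _ = h * t := by group

theorem centralizer_le_normalizer (M : Subgroup G) [hMn : M.Normal] :
    Subgroup.centralizer ({t} : Set G) ≤
      Subgroup.normalizer ((M ⊓ Subgroup.centralizer ({t} : Set G) : Subgroup G) : Set G) := by
  intro x hx
  rw [Subgroup.mem_normalizer_iff]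
  intro h
  simp only [Subgroup.mem_inf]
  constructor
  · rintro ⟨h1, h2⟩
    exact ⟨hMn.conj_mem h h1 x, Subgroup.mul_mem _ (Subgroup.mul_mem _ hx h2) (Subgroup.inv_mem _ hx)⟩
  · rintro ⟨h1, h2⟩
    constructor
    · have := hMn.conj_mem _ h1 x⁻¹
      have e : x⁻¹ * (x * h * x⁻¹) * x⁻¹⁻¹ = h := by group
      rwa [e] at this
    · have e : h = x⁻¹ * (x * h * x⁻¹) * x := by group
      rw [e]
      exact Subgroup.mul_mem _ (Subgroup.mul_mem _ (Subgroup.inv_mem _ hx) h2) hx


/-- conjugates of `t` under the normalizer of `M ⊓ C(t)`. -/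
theorem coe_eq_of_isConj_normalizer [Finite G] (H : Hyp t a b) (hconj : IsConj t b)
    {M : Subgroup G} (hM : M.index = 2)
    (ht5 : t ∈ Subgroup.normalizer ((M ⊓ Subgroup.centralizer ({t} : Set G) : Subgroup G) : Set G))
    (v : Subgroup.normalizer ((M ⊓ Subgroup.centralizer ({t} : Set G) : Subgroup G) : Set G))
    (hv : IsConj ⟨t, ht5⟩ v) : (v : G) = t ∨ (v : G) = b ∨ (v : G) = t * b := by
  obtain ⟨h, hh⟩ := isConj_iff.mp hv
  have htM := H.t_mem_of_index_two hM
  have h1 : (h : G) * t * (h : G)⁻¹ = (v : G) := by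
    have := congrArg Subtype.val hh
    simpa using this
  have h2 : (h : G) * t * (h : G)⁻¹ ∈ M ⊓ Subgroup.centralizer ({t} : Set G) :=
    ((Subgroup.mem_normalizer_iff.mp h.2) t).mp ⟨htM, H.t_mem⟩
  rw [h1] at h2
  have h3 : orderOf (v : G) = 2 := by
    rw [← h1]; exact orderOf_conj_two _ H.ht
  rcases (H.mem_inf_iff hconj hM _).mp h2 with h4 | h4 | h4 | h4
  · exact (ne_one_of_orderOf_two h3 h4).elim
  · exact Or.inl h4
  · exact Or.inr (Or.inl h4)
  · exact Or.inr (Or.inr h4)

/-- the case `|G| = 120`. -/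
theorem equiv_perm_five [Finite G] (H : Hyp t a b) (hconj : IsConj t b) {M : Subgroup G}
    (hM : M.index = 2) (hcard : Nat.card G = 120) : Nonempty (G ≃* Equiv.Perm (Fin 5)) := by
  classical
  have : Fintype G := Fintype.ofFinite G
  have hMn : M.Normal := Subgroup.normal_of_index_eq_two hM
  have htM := H.t_mem_of_index_two hM
  have hbM : b ∈ M := mem_of_isConj hconj htM
  have hV := H.v4Hyp hconj hM htM hbM
  have hMcard : Nat.card M = 60 := by
    have h2 := M.card_mul_index
    rw [hM, hcard] at h2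
    omega
  set H5 : Subgroup G :=
    Subgroup.normalizer ((M ⊓ Subgroup.centralizer ({t} : Set G) : Subgroup G) : Set G) with hH5
  have hD5 : Subgroup.centralizer ({t} : Set G) ≤ H5 := centralizer_le_normalizer M
  obtain ⟨g', hg'⟩ := isConj_iff.mp hV.hconj
  have hg : (g' : G) * t * (g' : G)⁻¹ = b := by
    have := congrArg Subtype.val hg'
    simpa using this
  have hg5 : (g' : G) ∈ H5 := H.conj_mem_normalizer hconj hM g'.2 hg
  have hgD : (g' : G) ∉ Subgroup.centralizer ({t} : Set G) := by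
    intro h
    rw [mem_cent_iff] at h
    apply H.b_ne_t
    rw [← hg, ← h]
    group
  have ht5 : t ∈ H5 := hD5 H.t_mem
  have hle : Nat.card H5 ≤ 24 := by
    have h1 := card_isConj_mul_card_centralizer (⟨t, ht5⟩ : H5)
    have h2 : Nat.card (Subgroup.centralizer ({(⟨t, ht5⟩ : H5)} : Set H5)) = 8 := by
      rw [card_centralizer_subtype]
      simp only
      rw [inf_eq_right.mpr hD5, H.hcard]
    have h3 : Nat.card {v : H5 // IsConj ⟨t, ht5⟩ v} ≤ 3 := by
      let f : {v : H5 // IsConj ⟨t, ht5⟩ v} → (({t, b, t * b} : Finset G) : Type _) := fun v =>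
        ⟨(v.1 : G), by
          have := H.coe_eq_of_isConj_normalizer hconj hM ht5 v.1 v.2
          simpa using this⟩
      have hf : Function.Injective f := by
        intro v w hvw
        apply Subtype.ext
        apply Subtype.ext
        have h6 : ((f v : (({t, b, t * b} : Finset G) : Type _)) : G) = (f w : G) :=
          congrArg Subtype.val hvw
        exact h6
      have h4 := Nat.card_le_card_of_injective f hf
      have h5 : Nat.card (({t, b, t * b} : Finset G) : Type _) ≤ 3 := by
        rw [Nat.card_eq_fintype_card, Fintype.card_coe]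
        exact Finset.card_le_three
      omega
    rw [h2] at h1
    omega
  have h8 : 8 ∣ Nat.card H5 := by
    rw [← H.hcard]; exact Subgroup.card_dvd_of_le hD5
  have h120 : Nat.card H5 ∣ 120 := by
    rw [← hcard]; exact Subgroup.card_subgroup_dvd_card H5
  have hne : Nat.card H5 ≠ 8 := by
    intro h
    have h1 : Subgroup.centralizer ({t} : Set G) = H5 :=
      Subgroup.eq_of_le_of_card_ge hD5 (by rw [h, H.hcard])
    apply hgD
    rw [h1]; exact hg5
  have h24 : Nat.card H5 = 24 := by
    obtain ⟨k, hk⟩ := h8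
    have hpos : 0 < Nat.card H5 := Nat.card_pos
    have hk3 : k = 1 ∨ k = 2 ∨ k = 3 := by omega
    rcases hk3 with h | h | h
    · rw [h] at hk; exact (hne hk).elim
    · rw [h] at hk; rw [hk] at h120; norm_num at h120
    · rw [hk, h]
  have hidx : H5.index = 5 := by
    have := H5.card_mul_index
    rw [h24, hcard] at this
    omega
  -- the core is trivial
  have hcore : H5.normalCore = ⊥ := by
    have hKn : (H5.normalCore).Normal := Subgroup.normalCore_normal H5
    have hK24 : Nat.card H5.normalCore ∣ 24 := by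
      rw [← h24]; exact Subgroup.card_dvd_of_le (Subgroup.normalCore_le H5)
    rcases Nat.even_or_odd (Nat.card H5.normalCore) with he | ho
    · exfalso
      have htK := H.t_mem_of_normal_of_even hconj H5.normalCore (even_iff_two_dvd.mp he)
      have h15 : Nat.card {v : G // IsConj t v} = 15 := by
        have := card_isConj_mul_card_centralizer t
        rw [H.hcard, hcard] at this
        omega
      have hinj : Nat.card {v : G // IsConj t v} ≤ Nat.card (H5.normalCore ⊓ M : Subgroup G) := by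
        let f : {v : G // IsConj t v} → (H5.normalCore ⊓ M : Subgroup G) := fun v =>
          ⟨v.1, mem_of_isConj v.2 htK, mem_of_isConj v.2 htM⟩
        apply Nat.card_le_card_of_injective f
        intro v w hvw
        apply Subtype.ext
        have h6 : ((f v : (H5.normalCore ⊓ M : Subgroup G)) : G) = (f w : G) :=
          congrArg Subtype.val hvw
        exact h6
      have hdvd : Nat.card (H5.normalCore ⊓ M : Subgroup G) ∣ 12 := by
        have h1 : Nat.card (H5.normalCore ⊓ M : Subgroup G) ∣ 24 :=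
          (Subgroup.card_dvd_of_le inf_le_left).trans hK24
        have h2 : Nat.card (H5.normalCore ⊓ M : Subgroup G) ∣ 60 := by
          rw [← hMcard]; exact Subgroup.card_dvd_of_le inf_le_right
        exact Nat.dvd_gcd h1 h2
      have := Nat.le_of_dvd (by norm_num) hdvd
      omega
    · exact H.eq_bot_of_normal_of_odd hconj H5.normalCore ho
  -- the isomorphism
  have hker : (MulAction.toPermHom G (G ⧸ H5)).ker = ⊥ := by
    rw [← Subgroup.normalCore_eq_ker]; exact hcore
  have hinj : Function.Injective (MulAction.toPermHom G (G ⧸ H5)) :=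
    (MonoidHom.ker_eq_bot_iff _).mp hker
  have hcq : Nat.card (G ⧸ H5) = 5 := by
    rw [← Subgroup.index_eq_card]; exact hidx
  have hcp : Nat.card (Equiv.Perm (G ⧸ H5)) = 120 := by
    rw [Nat.card_perm, hcq]; rfl
  have hbij : Function.Bijective (MulAction.toPermHom G (G ⧸ H5)) := by
    rw [Nat.bijective_iff_injective_and_card]
    exact ⟨hinj, by rw [hcard, hcp]⟩
  have e2 : (G ⧸ H5) ≃ Fin 5 := Finite.equivFinOfCardEq hcq
  exact ⟨(MulEquiv.ofBijective _ hbij).trans e2.permCongrHom⟩


end Hyp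

end Cfsg.Agent.Lib.Helper4.D8
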