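import Mathlib
import Cfsg.Agent.Lib.Helper4.Dihedral

set_option autoImplicit false

namespace Cfsg.Agent.Lib.Helper4

variable {G : Type*} [Group G]

/-- `y = (xy)^(-1) x` -/
theorem y_eq_zpow_mul_x {x y : G} (hx : x * x = 1) (hy : y * y = 1) :
    y = (x * y) ^ (-1 : ℤ) * x := by
  rw [← invol_mul_zpow hx hy, zpow_one, ← mul_assoc, hx, one_mul]

/-- conjugating `y` by `(xy)^k` gives `(xy)^(2k-1) x`. -/
theorem conj_y_by_zpow {x y : G} (hx : x * x = 1) (hy : y * y = 1) (k : ℤ) :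
    (x * y) ^ k * y * ((x * y) ^ k)⁻¹ = (x * y) ^ (2 * k - 1) * x := by
  nth_rewrite 2 [y_eq_zpow_mul_x hx hy]
  rw [← zpow_neg, mul_assoc, mul_assoc, invol_mul_zpow hx hy, neg_neg, ← mul_assoc, ← mul_assoc,
    ← zpow_add, ← zpow_add]
  congr 2
  ring

/-- If `xy` has even order `n = 2m` and `z = (xy)^m`, then `x z` is conjugate to `x` or to `y`
by an element of `⟨x, y⟩`. -/
theorem exists_conj_eq_mul_central {x y : G} (hx : x * x = 1) (hy : y * y = 1) {m : ℕ}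
    (hm : orderOf (x * y) = m + m) :
    ∃ d ∈ Subgroup.closure ({x, y} : Set G),
      d * x * d⁻¹ = x * (x * y) ^ m ∨ d * y * d⁻¹ = x * (x * y) ^ m := by
  have hpow : (x * y) ^ ((m : ℤ) + m) = 1 := by
    have := pow_orderOf_eq_one (x * y)
    rw [hm] at this
    rw [← this]
    norm_cast
  have hxz : x * (x * y) ^ m = (x * y) ^ (m : ℤ) * x := by
    rw [← zpow_natCast, invol_mul_zpow hx hy]
    congr 1
    have : (x * y) ^ (-(m : ℤ)) * (x * y) ^ ((m : ℤ) + m) = (x * y) ^ (m : ℤ) := by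
      rw [← zpow_add]; congr 1; ring
    rw [hpow, mul_one] at this
    exact this
  rw [hxz]
  rcases Nat.even_or_odd m with ⟨c, hc⟩ | ⟨c, hc⟩
  · refine ⟨(x * y) ^ (c : ℤ), zpow_mem_closure_pair x y _, Or.inl ?_⟩
    rw [← zpow_neg, mul_assoc, invol_mul_zpow hx hy, neg_neg, ← mul_assoc, ← zpow_add, hc]
    congr 2
  · refine ⟨(x * y) ^ ((c : ℤ) + 1), zpow_mem_closure_pair x y _, Or.inr ?_⟩
    rw [conj_y_by_zpow hx hy, hc]
    congr 2
    push_cast; ring

end Cfsg.Agent.Lib.Helper4
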