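import Mathlib
import Cfsg.Agent.Lib.Helper4.ZassAT2a

/-!
# Tools for S4291 (structure of Frobenius complements): 2-subgroups of a group with a unique
involution, odd-order automorphisms of cyclic 2-groups.
-/

set_option autoImplicit false

namespace Cfsg.Agent.Lib.Helper4.FC

open Cfsg.Agent.Lib.Helper4.Zass

variable {G : Type*} [Group G]

/-- A 2-subgroup of a group with a unique involution is cyclic or generalised quaternion. -/
theorem cyclic_or_gq [Finite G] (hinv : ∀ s t : G, orderOf s = 2 → orderOf t = 2 → s = t)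
    (T : Subgroup G) (hp : IsPGroup 2 T) :
    IsCyclic T ∨ ∃ k : ℕ, 1 ≤ k ∧ ∃ a, GQ (2 ^ (k + 1)) T a := by
  haveI : Fact (Nat.Prime 2) := ⟨Nat.prime_two⟩
  have huniq : ∀ H K : Subgroup T, Nat.card H = 2 → Nat.card K = 2 → H = K := by
    intro H K hH hK
    obtain ⟨t, ht⟩ := exists_prime_orderOf_dvd_card' (G := K) 2 (by rw [hK])
    apply Subgroup.eq_of_le_of_card_ge
    · intro s hs
      by_cases hs1 : s = 1
      · rw [hs1]; exact K.one_mem
      · have hso : orderOf (⟨s, hs⟩ : H) = 2 := by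
          have hd : orderOf (⟨s, hs⟩ : H) ∣ 2 := hH ▸ orderOf_dvd_natCard _
          have hne : orderOf (⟨s, hs⟩ : H) ≠ 1 := by
            rw [Ne, orderOf_eq_one_iff]
            intro h1
            apply hs1
            simpa using congrArg Subtype.val h1
          rcases (Nat.dvd_prime Nat.prime_two).mp hd with h1 | h1
          · exact absurd h1 hne
          · exact h1
        have e1 : orderOf ((s : T) : G) = 2 := by
          rw [Subgroup.orderOf_coe, ← hso, ← Subgroup.orderOf_coe (⟨s, hs⟩ : H)]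
        have e2 : orderOf (((t : K) : T) : G) = 2 := by
          rw [Subgroup.orderOf_coe, Subgroup.orderOf_coe, ht]
        have e3 := hinv _ _ e1 e2
        have e4 : s = ((t : K) : T) := Subtype.ext e3
        rw [e4]
        exact t.2
    · rw [hH, hK]
  rcases Cfsg.Agent.S0016.result 2 hp huniq with hc | ⟨_, n, ⟨e⟩⟩
  · exact Or.inl hc
  · rcases Nat.eq_zero_or_pos n with hn0 | hn0
    · left
      subst hn0
      haveI : IsCyclic (QuaternionGroup (2 ^ 0)) := by
        rw [pow_zero]; exact QuaternionGroup.quaternionGroup_one_isCyclic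
      exact isCyclic_of_surjective e.symm e.symm.surjective
    right
    refine ⟨n, hn0, ?_⟩
    haveI : NeZero (2 ^ n) := ⟨by positivity⟩
    have hcard : Nat.card T = 4 * 2 ^ n := by
      rw [Nat.card_congr e.toEquiv, Nat.card_eq_fintype_card, QuaternionGroup.card]
    refine ⟨((e.symm (QuaternionGroup.a 1) : T) : G), ⟨(e.symm (QuaternionGroup.a 1)).2, ?_, ?_, ?_⟩⟩
    · rw [Subgroup.orderOf_coe, MulEquiv.orderOf_eq, QuaternionGroup.orderOf_a_one]
      ring
    · rw [hcard]; ring
    · intro t ht hnt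
      have hcases : ∀ q : QuaternionGroup (2 ^ n), e ⟨t, ht⟩ = q →
          orderOf t = 4 ∧ t * ((e.symm (QuaternionGroup.a 1) : T) : G) * t⁻¹ =
            ((e.symm (QuaternionGroup.a 1) : T) : G)⁻¹ := by
        intro q hq
        cases q with
        | a i =>
          exfalso
          apply hnt
          have h1 : (⟨t, ht⟩ : T) = (e.symm (QuaternionGroup.a 1)) ^ i.val := by
            rw [← map_pow, QuaternionGroup.a_one_pow, ZMod.natCast_zmod_val, ← hq,
              MulEquiv.symm_apply_apply]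
          have h2 := congrArg Subtype.val h1
          simp only [Subgroup.coe_pow] at h2
          rw [h2]
          exact Subgroup.pow_mem _ (Subgroup.mem_zpowers _) _
        | xa i =>
          constructor
          · have h0 : orderOf t = orderOf (⟨t, ht⟩ : T) := (Subgroup.orderOf_coe (⟨t, ht⟩ : T))
            rw [h0, ← MulEquiv.orderOf_eq e, hq, QuaternionGroup.orderOf_xa]
          · have h1 : QuaternionGroup.xa i * QuaternionGroup.a 1 * (QuaternionGroup.xa i)⁻¹ =
                (QuaternionGroup.a 1 : QuaternionGroup (2 ^ n))⁻¹ := by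
              rw [mul_inv_eq_iff_eq_mul, QuaternionGroup.xa_mul_a, eq_inv_mul_iff_mul_eq,
                QuaternionGroup.a_mul_xa]
              simp
            have h2 : (⟨t, ht⟩ : T) * e.symm (QuaternionGroup.a 1) * (⟨t, ht⟩ : T)⁻¹ =
                (e.symm (QuaternionGroup.a 1))⁻¹ := by
              apply e.injective
              rw [map_mul, map_mul, map_inv, map_inv, hq, MulEquiv.apply_symm_apply, h1]
            have h3 := congrArg Subtype.val h2
            simpa using h3
      exact hcases _ rfl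

/-- An automorphism of odd order of a cyclic 2-group is trivial (elementwise form). -/
theorem conj_eq_self_of_odd [Finite G] {t y : G} {n : ℕ} (ht : orderOf t = 2 ^ n)
    (hy : Odd (orderOf y)) (h : y * t * y⁻¹ ∈ Subgroup.zpowers t) : y * t * y⁻¹ = t := by
  obtain ⟨k, _, hk⟩ := exists_pow_of_mem_zpowers h
  have hpow : ∀ j : ℕ, y ^ j * t * (y ^ j)⁻¹ = t ^ (k ^ j) := by
    intro j
    induction j with
    | zero => simp
    | succ j ih =>
      calc y ^ (j + 1) * t * (y ^ (j + 1))⁻¹ = y * (y ^ j * t * (y ^ j)⁻¹) * y⁻¹ := by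
            rw [pow_succ']; group
        _ = y * t ^ (k ^ j) * y⁻¹ := by rw [ih]
        _ = (y * t * y⁻¹) ^ (k ^ j) := by rw [conj_pow]
        _ = t ^ (k ^ (j + 1)) := by rw [hk, ← pow_mul, pow_succ']
  set r := orderOf y with hr
  have h1 := hpow r
  rw [pow_orderOf_eq_one] at h1
  simp only [one_mul, inv_one, mul_one] at h1
  have h2 : k ^ r ≡ 1 [MOD 2 ^ n] := by
    rw [← ht]
    apply pow_eq_pow_iff_modEq.mp
    rw [pow_one]
    exact h1.symm
  rcases Nat.eq_zero_or_pos n with hn0 | hn0
  · subst hn0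
    rw [pow_zero, orderOf_eq_one_iff] at ht
    rw [ht]; simp
  have hkodd : Nat.Coprime k (2 ^ n) := by
    apply Nat.Coprime.pow_right
    rw [Nat.coprime_two_right]
    by_contra hke
    rw [Nat.not_odd_iff_even] at hke
    have hrpos : r ≠ 0 := (orderOf_pos y).ne'
    have h3 : Even (k ^ r) := (Nat.even_pow.mpr ⟨hke, hrpos⟩)
    have h4 : (k ^ r) % 2 = 1 % 2 := by
      have : (2 : ℕ) ∣ 2 ^ n := dvd_pow_self 2 hn0.ne'
      exact (Nat.ModEq.of_dvd this h2)
    rw [Nat.even_iff] at h3
    omega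
  set u := ZMod.unitOfCoprime k hkodd with hu
  have hur : u ^ r = 1 := by
    apply Units.ext
    rw [Units.val_pow_eq_pow_val, hu, ZMod.coe_unitOfCoprime, Units.val_one]
    have := (ZMod.natCast_eq_natCast_iff (k ^ r) 1 (2 ^ n)).mpr h2
    simpa using this
  have hut : u ^ (2 ^ (n - 1)) = 1 := by
    have := ZMod.pow_totient u
    rwa [Nat.totient_prime_pow Nat.prime_two hn0, Nat.add_one_sub_one, mul_one] at this
  have hcop : Nat.Coprime r (2 ^ (n - 1)) := by
    apply Nat.Coprime.pow_right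
    rw [Nat.coprime_two_right]
    exact hy
  have hu1 : u = 1 := by
    have h5 : orderOf u ∣ r := orderOf_dvd_of_pow_eq_one hur
    have h6 : orderOf u ∣ 2 ^ (n - 1) := orderOf_dvd_of_pow_eq_one hut
    have h7 : orderOf u ∣ 1 := by
      have := Nat.dvd_gcd h5 h6
      rwa [hcop] at this
    exact orderOf_eq_one_iff.mp (Nat.dvd_one.mp h7)
  have hk1 : k ≡ 1 [MOD 2 ^ n] := by
    have h8 : ((k : ZMod (2 ^ n))) = 1 := by
      have := congrArg Units.val hu1
      rwa [hu, ZMod.coe_unitOfCoprime, Units.val_one] at this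
    apply (ZMod.natCast_eq_natCast_iff k 1 (2 ^ n)).mp
    simpa using h8
  rw [hk]
  have : t ^ k = t ^ 1 := by
    apply pow_eq_pow_iff_modEq.mpr
    rw [ht]; exact hk1
  rw [this, pow_one]

namespace GQlem

variable {N k : ℕ} {T : Subgroup G} {a : G}

/-- squares of elements of a generalised quaternion group lie in `⟨a²⟩`. -/
theorem sq_mem [Finite G] (hinv : ∀ s t : G, orderOf s = 2 → orderOf t = 2 → s = t)
    (hk : 1 ≤ k) (hg : GQ (2 ^ (k + 1)) T a) {t : G} (ht : t ∈ T) :
    t * t ∈ Subgroup.zpowers (a ^ 2) := by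
  by_cases hm : t ∈ Subgroup.zpowers a
  · obtain ⟨j, rfl⟩ := Subgroup.mem_zpowers_iff.mp hm
    have : a ^ j * a ^ j = (a ^ 2) ^ j := by
      rw [← zpow_natCast a 2, ← zpow_mul, ← zpow_add]
      congr 1; push_cast; ring
    rw [this]
    exact Subgroup.zpow_mem _ (Subgroup.mem_zpowers _) j
  · obtain ⟨h4, _⟩ := hg.out t ht hm
    have h2 : orderOf (t * t) = 2 := by
      rw [← sq]; exact orderOf_sq_of_four h4
    have ha2 : orderOf (a ^ (2 ^ k)) = 2 := by
      rw [orderOf_pow, hg.ord, pow_succ]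
      have : Nat.gcd (2 ^ k * 2) (2 ^ k) = 2 ^ k := Nat.gcd_eq_right (Dvd.intro _ rfl)
      rw [this]
      exact Nat.mul_div_cancel_left 2 (by positivity)
    rw [hinv _ _ h2 ha2]
    obtain ⟨k', rfl⟩ : ∃ k', k = k' + 1 := ⟨k - 1, by omega⟩
    have e : a ^ 2 ^ (k' + 1) = (a ^ 2) ^ (2 ^ k') := by
      rw [show 2 ^ (k' + 1) = 2 * 2 ^ k' by ring, pow_mul]
    rw [e]
    exact Subgroup.pow_mem _ (Subgroup.mem_zpowers _) _

theorem card_zpowers_sq [Finite G] (hg : GQ (2 ^ (k + 1)) T a) :
    Nat.card (Subgroup.zpowers (a ^ 2)) = 2 ^ k := by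
  rw [Nat.card_zpowers, orderOf_pow, hg.ord, pow_succ]
  have : Nat.gcd (2 ^ k * 2) 2 = 2 := Nat.gcd_eq_right (Dvd.intro_left _ rfl)
  rw [this]
  exact Nat.mul_div_cancel _ (by norm_num)

theorem zpowers_sq_le (hg : GQ N T a) : Subgroup.zpowers (a ^ 2) ≤ T :=
  Subgroup.zpowers_le.mpr (Subgroup.pow_mem _ hg.mem 2)

end GQlem

end Cfsg.Agent.Lib.Helper4.FC
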