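import Mathlib
import Cfsg.Agent.S0017
import Cfsg.Agent.Lib.Helper1.PCore
import Cfsg.Agent.Lib.Helper35.QuatSquare
import Cfsg.Agent.Lib.Helper4.FCQuat
import Cfsg.Agent.Lib.Helper4.ZassAT2c

/-!
# S4291, the solvable core: a finite solvable group `X` with `O(X) = 1`, a unique involution
and non-cyclic Sylow 2-subgroups has a cyclic normal 2-subgroup `M` with `X/M ≅ V4, A4, S4`.
-/

set_option autoImplicit false

namespace Cfsg.Agent.Lib.Helper4.FC

open Cfsg Cfsg.Agent.Lib.Helper4.Zass Cfsg.Agent.Lib.Helper1

universe u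

variable {X : Type u} [Group X]

/-- the statement of the recognition module B -/
def RecogStmt : Prop :=
  ∀ {Y : Type u} [Group Y] [Finite Y] (V : Subgroup Y) [V.Normal], Nat.card V = 4 →
    (∀ v ∈ V, v * v = 1) → Subgroup.centralizer (V : Set Y) ≤ V → Nat.card Y ≠ 8 →
    Nonempty (Y ≃* DihedralGroup 2) ∨ Nonempty (Y ≃* alternatingGroup (Fin 4)) ∨
      Nonempty (Y ≃* Equiv.Perm (Fin 4))

/-- a finite group without nontrivial elements of odd order is a 2-group -/
theorem isPGroup_two_of_no_odd [Finite X] (h : ∀ y : X, Odd (orderOf y) → y = 1) :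
    IsPGroup 2 X := by
  intro g
  have hn : orderOf g ≠ 0 := (orderOf_pos g).ne'
  obtain ⟨k, m, hm, hkm⟩ := Nat.exists_eq_two_pow_mul_odd hn
  refine ⟨k, ?_⟩
  apply h
  rw [orderOf_pow, hkm]
  have : Nat.gcd (2 ^ k * m) (2 ^ k) = 2 ^ k := Nat.gcd_eq_right (Dvd.intro _ rfl)
  rw [this, Nat.mul_div_cancel_left m (by positivity)]
  exact hm

/-- a subgroup without nontrivial elements of odd order is a 2-group -/
theorem isPGroup_two_of_no_odd_sub [Finite X] (C : Subgroup X)
    (h : ∀ y ∈ C, Odd (orderOf y) → y = 1) : IsPGroup 2 C := by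
  apply isPGroup_two_of_no_odd
  intro y hy
  apply Subtype.ext
  rw [← Subgroup.orderOf_coe] at hy
  exact h y y.2 hy

theorem eq_one_of_odd_of_two_pow [Finite X] {y : X} (h1 : Odd (orderOf y)) {n : ℕ}
    (h2 : orderOf y ∣ 2 ^ n) : y = 1 := by
  have h3 : Nat.Coprime (orderOf y) (2 ^ n) := by
    apply Nat.Coprime.pow_right
    exact Nat.coprime_two_right.mpr h1
  have h4 : orderOf y ∣ 1 := by
    have := Nat.dvd_gcd (dvd_refl _) h2
    rwa [h3] at this
  exact orderOf_eq_one_iff.mp (Nat.dvd_one.mp h4)

theorem solvable_core [Finite X] (hrecog : RecogStmt.{u}) (hsol : Group.IsSolvable X)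
    (hcore : pPrimeCore 2 X = ⊥)
    (hinv : ∀ s t : X, orderOf s = 2 → orderOf t = 2 → s = t) (P : Sylow 2 X)
    (hP : ¬ IsCyclic P) :
    ∃ (M : Subgroup X) (_ : M.Normal), IsCyclic M ∧ IsPGroup 2 M ∧
      (Nonempty (X ⧸ M ≃* DihedralGroup 2) ∨ Nonempty (X ⧸ M ≃* alternatingGroup (Fin 4)) ∨
        Nonempty (X ⧸ M ≃* Equiv.Perm (Fin 4))) := by
  haveI : Fact (Nat.Prime 2) := ⟨Nat.prime_two⟩
  set T := pCore 2 X with hT
  haveI hTn : T.Normal := pCore_normal 2
  have hTp : IsPGroup 2 T := pCore_isPGroup 2
  have hCT : Subgroup.centralizer (T : Set X) ≤ T := Cfsg.Agent.S0017.result 2 hcore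
  have hTP : T ≤ P := pCore_le_sylow 2 P
  obtain ⟨nT, hnT⟩ := IsPGroup.iff_card.mp hTp
  -- elements of odd order centralising `T` are trivial
  have hoddT : ∀ y : X, Odd (orderOf y) → y ∈ Subgroup.centralizer (T : Set X) → y = 1 := by
    intro y hy hyc
    have h1 : orderOf y ∣ Nat.card T := Subgroup.orderOf_dvd_natCard T (hCT hyc)
    rw [hnT] at h1
    exact eq_one_of_odd_of_two_pow hy h1
  rcases cyclic_or_gq hinv T hTp with hcyc | ⟨k, hk, a, hg⟩
  · -- `T` cyclic: impossible
    exfalso
    obtain ⟨g, hgen⟩ := IsCyclic.exists_generator (α := T)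
    have hTz : ∀ t ∈ T, t ∈ Subgroup.zpowers (g : X) := by
      intro t ht
      obtain ⟨j, hj⟩ := Subgroup.mem_zpowers_iff.mp (hgen ⟨t, ht⟩)
      have := congrArg Subtype.val hj
      simp only [Subgroup.coe_zpow] at this
      rw [← this]
      exact Subgroup.zpow_mem _ (Subgroup.mem_zpowers _) j
    have hgo : orderOf (g : X) = 2 ^ nT := by
      rw [Subgroup.orderOf_coe, orderOf_eq_card_of_forall_mem_zpowers hgen, hnT]
    have h2grp : IsPGroup 2 X := by
      apply isPGroup_two_of_no_odd
      intro y hy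
      apply hoddT y hy
      have h1 : y * (g : X) * y⁻¹ = g :=
        conj_eq_self_of_odd hgo hy (hTz _ (hTn.conj_mem _ g.2 y))
      rw [Subgroup.mem_centralizer_iff]
      intro t ht
      obtain ⟨j, rfl⟩ := Subgroup.mem_zpowers_iff.mp (hTz t ht)
      have h2 : Commute y (g : X) := by
        rw [commute_iff_eq]
        calc y * (g : X) = (y * g * y⁻¹) * y := by group
          _ = g * y := by rw [h1]
      exact (h2.zpow_right j).eq.symm
    have htop : (⊤ : Subgroup X) ≤ T := le_pCore Subgroup.normal_top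
      (IsPGroup.of_equiv h2grp Subgroup.topEquiv.symm)
    apply hP
    have hPT : (P : Subgroup X) = T := le_antisymm (fun x _ => htop (Subgroup.mem_top x)) hTP
    rw [hPT]
    exact hcyc
  · -- `T` generalised quaternion
    set M := Subgroup.zpowers (a ^ 2) with hM
    have hMT : M ≤ T := GQlem.zpowers_sq_le hg
    have hsq : ∀ t ∈ T, t * t ∈ M := fun t ht => GQlem.sq_mem hinv hk hg ht
    have hMcard : Nat.card M = 2 ^ k := GQlem.card_zpowers_sq hg
    have hTcard : Nat.card T = 2 ^ (k + 2) := by rw [hg.card]; ring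
    have hMn : M.Normal := by
      constructor
      intro m hm x
      obtain ⟨j, rfl⟩ := Subgroup.mem_zpowers_iff.mp hm
      have h1 : x * (a ^ 2) ^ j * x⁻¹ = ((x * a * x⁻¹) * (x * a * x⁻¹)) ^ j := by
        rw [← conj_zpow, sq]; congr 1; group
      rw [h1]
      exact Subgroup.zpow_mem _ (hsq _ (hTn.conj_mem a hg.mem x)) j
    haveI := hMn
    have hMp : IsPGroup 2 M := IsPGroup.of_card hMcard
    refine ⟨M, hMn, inferInstance, hMp, ?_⟩
    set π := QuotientGroup.mk' M with hπ
    have hπs : Function.Surjective π := QuotientGroup.mk'_surjective M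
    have hker : π.ker = M := QuotientGroup.ker_mk' M
    set V := T.map π with hV
    haveI hVn : V.Normal := hTn.map π hπs
    have hVcard : Nat.card V = 4 := by
      have h1 := Cfsg.Agent.Lib.Helper35.card_eq_card_inf_ker_mul_card_map π T
      rw [hker, inf_eq_right.mpr hMT, hTcard, hMcard] at h1
      have h2 : 2 ^ (k + 2) = 2 ^ k * 4 := by ring
      rw [h2] at h1
      exact (Nat.eq_of_mul_eq_mul_left (by positivity) h1).symm
    have hVexp : ∀ v ∈ V, v * v = 1 := by
      rintro _ ⟨t, ht, rfl⟩
      rw [← map_mul, ← MonoidHom.mem_ker, hker]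
      exact hsq t ht
    -- the centraliser of `V`
    have hCV : Subgroup.centralizer (V : Set (X ⧸ M)) ≤ V := by
      set C := (Subgroup.centralizer (V : Set (X ⧸ M))).comap π with hC
      have hCn : C.Normal := by
        haveI : (Subgroup.centralizer (V : Set (X ⧸ M))).Normal := by
          constructor
          intro c hc y
          exact conj_mem_centralizer (K := V)
            (by rw [Subgroup.normalizer_eq_top]; exact Subgroup.mem_top y) hc
        exact Subgroup.Normal.comap inferInstance π
      have hCmem : ∀ c ∈ C, ∀ t ∈ T, c * t * c⁻¹ * t⁻¹ ∈ M := by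
        intro c hc t ht
        have h1 : π c ∈ Subgroup.centralizer (V : Set (X ⧸ M)) := hc
        have h2 := Subgroup.mem_centralizer_iff.mp h1 (π t) ⟨t, ht, rfl⟩
        rw [← hker, MonoidHom.mem_ker]
        simp only [map_mul, map_inv]
        rw [← h2]; group
      have hCodd : ∀ c ∈ C, Odd (orderOf c) → c = 1 := by
        intro c hc hodd
        apply hoddT c hodd
        -- `c` centralises `a`
        have ha1 : c * a * c⁻¹ * a⁻¹ ∈ M := hCmem c hc a hg.mem
        have ha2 : c * a * c⁻¹ ∈ Subgroup.zpowers a := by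
          have h3 : M ≤ Subgroup.zpowers a :=
            Subgroup.zpowers_le.mpr (Subgroup.pow_mem _ (Subgroup.mem_zpowers a) 2)
          have := mul_mem (h3 ha1) (Subgroup.mem_zpowers a)
          simpa using this
        have hca : c * a * c⁻¹ = a := conj_eq_self_of_odd hg.ord hodd ha2
        have hcomm_a : Commute c a := by
          rw [commute_iff_eq]
          calc c * a = (c * a * c⁻¹) * c := by group
            _ = a * c := by rw [hca]
        have hcommM : ∀ m ∈ M, Commute c m := by
          intro m hm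
          obtain ⟨j, rfl⟩ := Subgroup.mem_zpowers_iff.mp hm
          exact (hcomm_a.pow_right 2).zpow_right j
        rw [Subgroup.mem_centralizer_iff]
        intro b hb
        set mb := c * b * c⁻¹ * b⁻¹ with hmb
        have hmbM : mb ∈ M := hCmem c hc b hb
        have hcb : c * b * c⁻¹ = mb * b := by rw [hmb]; group
        have hpow : ∀ j : ℕ, c ^ j * b * (c ^ j)⁻¹ = mb ^ j * b := by
          intro j
          induction j with
          | zero => simp
          | succ j ih =>
            have hc2 : Commute c (mb ^ j) := (hcommM mb hmbM).pow_right j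
            calc c ^ (j + 1) * b * (c ^ (j + 1))⁻¹ = c * (c ^ j * b * (c ^ j)⁻¹) * c⁻¹ := by
                  rw [pow_succ']; group
              _ = c * (mb ^ j * b) * c⁻¹ := by rw [ih]
              _ = (c * mb ^ j) * b * c⁻¹ := by group
              _ = (mb ^ j * c) * b * c⁻¹ := by rw [hc2.eq]
              _ = mb ^ j * (c * b * c⁻¹) := by group
              _ = mb ^ j * (mb * b) := by rw [hcb]
              _ = mb ^ (j + 1) * b := by rw [pow_succ]; group
        have h5 := hpow (orderOf c)
        rw [pow_orderOf_eq_one] at h5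
        simp only [one_mul, inv_one, mul_one] at h5
        have h6 : mb ^ orderOf c = 1 := by
          have : mb ^ orderOf c * b = 1 * b := by rw [one_mul]; exact h5.symm
          exact mul_right_cancel this
        have h7 : orderOf mb ∣ orderOf c := orderOf_dvd_of_pow_eq_one h6
        have h8 : orderOf mb ∣ 2 ^ k := by
          rw [← hMcard]; exact Subgroup.orderOf_dvd_natCard M hmbM
        have h9 : mb = 1 :=
          eq_one_of_odd_of_two_pow (Odd.of_dvd_nat hodd h7) h8
        rw [h9, one_mul] at hcb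
        calc b * c = (c * b * c⁻¹)⁻¹⁻¹ * c := by rw [hcb, inv_inv]
          _ = c * b := by rw [inv_inv]; group
      have hCp : IsPGroup 2 C := isPGroup_two_of_no_odd_sub C hCodd
      have hCT' : C ≤ T := le_pCore hCn hCp
      intro y hy
      obtain ⟨x, rfl⟩ := hπs y
      exact ⟨x, hCT' hy, rfl⟩
    have h8 : Nat.card (X ⧸ M) ≠ 8 := by
      intro h8
      have h1 := Subgroup.card_eq_card_quotient_mul_card_subgroup M
      rw [h8, hMcard] at h1
      have h2grp : IsPGroup 2 X := IsPGroup.of_card (n := k + 3) (by rw [h1]; ring)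
      have htop : (⊤ : Subgroup X) ≤ T := le_pCore Subgroup.normal_top
        (IsPGroup.of_equiv h2grp Subgroup.topEquiv.symm)
      have h3 : Nat.card T = Nat.card X := by
        rw [top_le_iff.mp htop]; exact Subgroup.card_top
      rw [hTcard, h1] at h3
      have : 2 ^ (k + 2) = 2 ^ k * 4 := by ring
      rw [this] at h3
      have : 8 * 2 ^ k = 2 ^ k * 8 := by ring
      rw [this] at h3
      have := Nat.eq_of_mul_eq_mul_left (by positivity) h3
      omega
    exact hrecog V hVcard hVexp hCV h8

end Cfsg.Agent.Lib.Helper4.FC
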