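-- helper4: the two basic properties of Frobenius complements (unique involution, p-subgroups
-- with a unique subgroup of order p), extracted from helper35's `result_of`.
import Mathlib
import Cfsg.Agent.S0016
import Cfsg.Agent.Lib.Helper35.FrobComplNonsolv

set_option autoImplicit false

namespace Cfsg.Agent.Lib.Helper4.FC

open Cfsg Cfsg.Agent.Lib.Helper35 Cfsg.Agent.Lib.Helper35.SL25Compl

universe u

variable {G : Type u} [Group G]

/-- a Frobenius complement has at most one involution and every `p`-subgroup has at most one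
subgroup of order `p` -/
theorem uniq_of_frobenius_complement [Finite G]
    (hFC : ∃ (L : Type) (_ : Group L) (_ : Finite L) (H : Subgroup L),
      Cfsg.IsFrobeniusComplement H ∧ Nonempty (G ≃* H)) :
    UniqueInvol G ∧ UniqueOrderP G := by
  obtain ⟨L, _, _, H, hH, ⟨e⟩⟩ := hFC
  obtain ⟨N, hNker, -, -⟩ := Cfsg.Agent.S0035.result H hH
  obtain ⟨hNn, -, -, hN1, hfpf, -⟩ := frobenius_data H N hH hNker.symm
  set ι : G →* L := H.subtype.comp e.toMonoidHom with hι
  have hιinj : Function.Injective ι := H.subtype_injective.comp e.injective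
  have hιH : ∀ g, ι g ∈ H := fun g => (e g).2
  constructor
  · intro a b ha hb
    apply hιinj
    apply invol_unique H N hfpf hN1 (hιH a) (hιH b)
    · rw [orderOf_injective ι hιinj]; exact ha
    · rw [orderOf_injective ι hιinj]; exact hb
  · intro p _ Q hQ C₁ C₂ h1 h2
    set Q' : Subgroup ↥H := Q.map e.toMonoidHom with hQ'
    have hQ'p : IsPGroup p Q' := hQ.map e.toMonoidHom
    let eQ : ↥Q ≃* ↥Q' := Q.equivMapOfInjective e.toMonoidHom e.injective
    have h1' : Nat.card (C₁.map eQ.toMonoidHom) = p := by
      rw [Subgroup.card_map_of_injective eQ.injective]; exact h1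
    have h2' : Nat.card (C₂.map eQ.toMonoidHom) = p := by
      rw [Subgroup.card_map_of_injective eQ.injective]; exact h2
    have := unique_subgroup_of_order_p_of_fpf N H hN1 hfpf p Q' hQ'p _ _ h1' h2'
    exact Subgroup.map_injective eQ.injective this

/-- odd-order `p`-subgroups of a group with `UniqueOrderP` are cyclic -/
theorem isCyclic_of_uniqueOrderP [Finite G] (hU : UniqueOrderP G) (p : ℕ) [Fact p.Prime]
    (Q : Subgroup G) (hQ : IsPGroup p Q) (hp2 : p ≠ 2) : IsCyclic Q := by
  have hQ' : IsPGroup p (↥Q) := hQ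
  rcases Cfsg.Agent.S0016.result (G := ↥Q) p hQ' (fun C₁ C₂ h1 h2 => hU p Q hQ C₁ C₂ h1 h2) with
    h | ⟨h, -⟩
  · exact h
  · exact absurd h hp2

end Cfsg.Agent.Lib.Helper4.FC
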