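import Mathlib
import Cfsg.Agent.Lib.Helper22.PPrimeCore
import Cfsg.Agent.Lib.Helper4.FCCore

/-!
# S4291, existence in the solvable case: pull back from `G / O(G)`.
-/

set_option autoImplicit false

namespace Cfsg.Agent.Lib.Helper4.FC

open Cfsg Cfsg.Agent.Lib.Helper4.Zass Cfsg.Agent.Lib.Helper1

universe u

variable {G : Type u} [Group G]

/-- the quotient map is injective on a subgroup of order prime to the kernel -/
theorem injective_subgroupMap_of_coprime [Finite G] (K Q : Subgroup G) [K.Normal]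
    (h : (Nat.card Q).Coprime (Nat.card K)) :
    Function.Injective ((QuotientGroup.mk' K).subgroupMap Q) := by
  rw [injective_iff_map_eq_one]
  intro x hx
  have h1 : QuotientGroup.mk' K (x : G) = 1 := by
    have := congrArg Subtype.val hx
    simpa using this
  have h2 : (x : G) ∈ K := by
    rw [← QuotientGroup.ker_mk' K, MonoidHom.mem_ker]; exact h1
  have h3 : orderOf (x : G) ∣ Nat.card K := Subgroup.orderOf_dvd_natCard K h2
  have h4 : orderOf (x : G) ∣ Nat.card Q := Subgroup.orderOf_dvd_natCard Q x.2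
  have h5 : orderOf (x : G) = 1 := by
    have := Nat.dvd_gcd h4 h3
    rw [h] at this
    exact Nat.dvd_one.mp this
  apply Subtype.ext
  exact orderOf_eq_one_iff.mp h5

/-- cyclicity of Sylow subgroups of `N` from cyclicity of the `p`-subgroups of `G` inside `N` -/
theorem isCyclic_sylow_of_sub (N : Subgroup G)
    (hN : ∀ (p : ℕ) [Fact p.Prime] (Q : Subgroup G), IsPGroup p Q → Q ≤ N → IsCyclic Q)
    (p : ℕ) [Fact p.Prime] (P : Sylow p N) : IsCyclic P := by
  set Q : Subgroup G := (P : Subgroup N).map N.subtype with hQ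
  have hQp : IsPGroup p Q := P.2.map N.subtype
  have hQN : Q ≤ N := by
    rintro _ ⟨x, _, rfl⟩
    exact x.2
  haveI := hN p Q hQp hQN
  exact isCyclic_of_injective ((P : Subgroup N).equivMapOfInjective N.subtype
    N.subtype_injective).toMonoidHom ((P : Subgroup N).equivMapOfInjective N.subtype
    N.subtype_injective).injective

theorem isCyclic_of_le_isCyclic {A B : Subgroup G} (hAB : A ≤ B) (hB : IsCyclic B) :
    IsCyclic A := by
  haveI := hB
  haveI : IsCyclic (A.subgroupOf B) := inferInstance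
  exact isCyclic_of_surjective (Subgroup.subgroupOfEquivOfLe hAB)
    (Subgroup.subgroupOfEquivOfLe hAB).surjective

/-- the list of admissible solvable quotients -/
def SolvList (G : Type u) [Group G] (N : Subgroup G) : Prop :=
  N = ⊤ ∨ (∃ f : G →* DihedralGroup 2, Function.Surjective f ∧ f.ker = N) ∨
    (∃ f : G →* alternatingGroup (Fin 4), Function.Surjective f ∧ f.ker = N) ∨
    (∃ f : G →* Equiv.Perm (Fin 4), Function.Surjective f ∧ f.ker = N)

theorem exists_good_solvable [Finite G] (hrecog : RecogStmt.{u}) (hsol : Group.IsSolvable G)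
    (hinv : ∀ s t : G, orderOf s = 2 → orderOf t = 2 → s = t)
    (hcyc : ∀ (p : ℕ) [Fact p.Prime] (Q : Subgroup G), IsPGroup p Q → p ≠ 2 → IsCyclic Q) :
    ∃ N : Subgroup G, N.Normal ∧ (∀ (p : ℕ) [Fact p.Prime] (P : Sylow p N), IsCyclic P) ∧
      SolvList G N := by
  haveI : Fact (Nat.Prime 2) := ⟨Nat.prime_two⟩
  by_cases hall : ∀ P : Sylow 2 G, IsCyclic P
  · refine ⟨⊤, Subgroup.normal_top, ?_, Or.inl rfl⟩
    intro p _ P
    apply isCyclic_sylow_of_sub
    intro q _ Q hQ _
    by_cases hq : q = 2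
    · subst hq
      obtain ⟨P', hP'⟩ := hQ.exists_le_sylow
      exact isCyclic_of_le_isCyclic hP' (hall P')
    · exact hcyc q Q hQ hq
  · push Not at hall
    obtain ⟨P, hP⟩ := hall
    set K := pPrimeCore 2 G with hK
    haveI hKn : K.Normal := pPrimeCore_normal (G := G) 2
    have hKodd : (Nat.card K).Coprime 2 := Cfsg.Agent.Lib.Helper22.pPrimeCore_card_coprime 2
    set π := QuotientGroup.mk' K with hπ
    have hπs : Function.Surjective π := QuotientGroup.mk'_surjective K
    have hker : π.ker = K := QuotientGroup.ker_mk' K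
    have hcoreX : pPrimeCore 2 (G ⧸ K) = ⊥ :=
      Cfsg.Agent.Lib.Helper22.pPrimeCore_quotient_eq_bot 2
    haveI hsolX : Group.IsSolvable (G ⧸ K) := inferInstance
    -- 2-subgroups meet `K` trivially
    have hcop : ∀ Q : Subgroup G, IsPGroup 2 Q → (Nat.card Q).Coprime (Nat.card K) := by
      intro Q hQ
      obtain ⟨n, hn⟩ := IsPGroup.iff_card.mp hQ
      rw [hn]
      exact Nat.Coprime.pow_left n hKodd.symm
    -- involutions of the quotient lift to involutions
    have hlift : ∀ xb : G ⧸ K, orderOf xb = 2 → ∃ w : G, orderOf w = 2 ∧ π w = xb := by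
      intro xb hxb
      obtain ⟨x, rfl⟩ := hπs xb
      have hn : orderOf x ≠ 0 := (orderOf_pos x).ne'
      obtain ⟨e, m, hm, hem⟩ := Nat.exists_eq_two_pow_mul_odd hn
      set w := x ^ m with hw
      have hxb2 : π x ^ 2 = 1 := by rw [← hxb]; exact pow_orderOf_eq_one _
      have hπw : π w = π x := by
        rw [hw, map_pow]
        obtain ⟨j, hj⟩ := hm
        rw [hj, pow_succ, pow_mul, hxb2, one_pow, one_mul]
      have hwo : orderOf w = 2 ^ e := by
        rw [hw, orderOf_pow, hem]
        have : Nat.gcd (2 ^ e * m) m = m := Nat.gcd_eq_right (Dvd.intro_left _ rfl)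
        rw [this]
        exact Nat.mul_div_cancel _ (Nat.pos_of_ne_zero (fun h => by simp [h] at hm))
      have hw2K : w ^ 2 ∈ K := by
        rw [← hker, MonoidHom.mem_ker, map_pow, hπw, hxb2]
      have hw2 : w ^ 2 = 1 := by
        have h1 : orderOf (w ^ 2) ∣ Nat.card K := Subgroup.orderOf_dvd_natCard K hw2K
        have h2 : orderOf (w ^ 2) ∣ 2 ^ e := by
          rw [← hwo]; exact orderOf_pow_dvd 2
        have h3 : Nat.Coprime (2 ^ e) (Nat.card K) := Nat.Coprime.pow_left e hKodd.symm
        have h4 : orderOf (w ^ 2) ∣ 1 := by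
          have := Nat.dvd_gcd h2 h1
          rwa [h3] at this
        exact orderOf_eq_one_iff.mp (Nat.dvd_one.mp h4)
      have hw1 : w ≠ 1 := by
        intro h1
        rw [h1, map_one] at hπw
        rw [← hπw, orderOf_one] at hxb
        omega
      exact ⟨w, orderOf_eq_prime hw2 hw1, hπw⟩
    have hinvX : ∀ s t : G ⧸ K, orderOf s = 2 → orderOf t = 2 → s = t := by
      intro s t hs ht
      obtain ⟨ws, hws, rfl⟩ := hlift s hs
      obtain ⟨wt, hwt, rfl⟩ := hlift t ht
      rw [hinv ws wt hws hwt]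
    -- the Sylow 2-subgroup of the quotient is not cyclic
    set PX : Sylow 2 (G ⧸ K) := P.mapSurjective hπs with hPX
    have hPXnc : ¬ IsCyclic PX := by
      intro hc
      apply hP
      have hc' : IsCyclic ↥((P : Subgroup G).map π) := by
        have : ((PX : Sylow 2 (G ⧸ K)) : Subgroup (G ⧸ K)) = (P : Subgroup G).map π :=
          Sylow.coe_mapSurjective hπs P
        rw [← this]; exact hc
      haveI := hc'
      exact isCyclic_of_injective (π.subgroupMap (P : Subgroup G))
        (injective_subgroupMap_of_coprime K P (hcop P P.2))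
    obtain ⟨M, hMn, hMcyc, hMp, hlist⟩ :=
      solvable_core hrecog hsolX hcoreX hinvX PX hPXnc
    haveI := hMn
    set N := M.comap π with hN
    have hNn : N.Normal := hMn.comap π
    have hNsyl : ∀ (p : ℕ) [Fact p.Prime] (P : Sylow p N), IsCyclic P := by
      intro p _ P'
      apply isCyclic_sylow_of_sub
      intro q _ Q hQ hQN
      by_cases hq : q = 2
      · subst hq
        have h1 : Q.map π ≤ M := by
          rintro _ ⟨x, hx, rfl⟩
          exact hQN hx
        haveI : IsCyclic ↥(Q.map π) := isCyclic_of_le_isCyclic h1 hMcyc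
        exact isCyclic_of_injective (π.subgroupMap Q)
          (injective_subgroupMap_of_coprime K Q (hcop Q hQ))
      · exact hcyc q Q hQ hq
    have hkerf : ∀ {Z : Type} [Group Z] (e : (G ⧸ K) ⧸ M ≃* Z),
        (e.toMonoidHom.comp ((QuotientGroup.mk' M).comp π)).ker = N := by
      intro Z _ e
      ext x
      rw [MonoidHom.mem_ker, hN, Subgroup.mem_comap]
      simp only [MonoidHom.comp_apply, MulEquiv.coe_toMonoidHom]
      rw [MulEquiv.map_eq_one_iff, QuotientGroup.mk'_apply, QuotientGroup.eq_one_iff]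
    have hsurjf : ∀ {Z : Type} [Group Z] (e : (G ⧸ K) ⧸ M ≃* Z),
        Function.Surjective (e.toMonoidHom.comp ((QuotientGroup.mk' M).comp π)) := by
      intro Z _ e
      exact e.surjective.comp ((QuotientGroup.mk'_surjective M).comp hπs)
    refine ⟨N, hNn, hNsyl, ?_⟩
    rcases hlist with ⟨⟨e⟩⟩ | ⟨⟨e⟩⟩ | ⟨⟨e⟩⟩
    · exact Or.inr (Or.inl ⟨_, hsurjf e, hkerf e⟩)
    · exact Or.inr (Or.inr (Or.inl ⟨_, hsurjf e, hkerf e⟩))
    · exact Or.inr (Or.inr (Or.inr ⟨_, hsurjf e, hkerf e⟩))

end Cfsg.Agent.Lib.Helper4.FC
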