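import Mathlib
import Cfsg.Agent.Lib.Helper4.FCPull

/-!
# S4291, uniqueness of the normal Z-subgroup `N`.
-/

set_option autoImplicit false

namespace Cfsg.Agent.Lib.Helper4.FC

open Cfsg Cfsg.Agent.Lib.Helper4.Zass

universe u

variable {G : Type u} [Group G]

/-- the subgroup generated by the squares -/
def sqSubgroup (G : Type u) [Group G] : Subgroup G :=
  Subgroup.closure {g : G | ∃ x : G, g = x * x}

theorem sq_mem_sqSubgroup (x : G) : x * x ∈ sqSubgroup G :=
  Subgroup.subset_closure ⟨x, rfl⟩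

theorem sqSubgroup_normal : (sqSubgroup G).Normal := by
  constructor
  intro n hn g
  apply conj_mem_closure _ n hn
  rintro s ⟨x, rfl⟩
  have : g * (x * x) * g⁻¹ = (g * x * g⁻¹) * (g * x * g⁻¹) := by group
  rw [this]
  exact sq_mem_sqSubgroup _

theorem sqSubgroup_le_ker {Q : Type*} [Group Q] (f : G →* Q) (hQ : ∀ q : Q, q * q = 1) :
    sqSubgroup G ≤ f.ker := by
  rw [sqSubgroup, Subgroup.closure_le]
  rintro _ ⟨x, rfl⟩
  rw [SetLike.mem_coe, MonoidHom.mem_ker, map_mul]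
  exact hQ _

theorem relIndex_mul_card_eq [Finite G] {A S : Subgroup G} (h : A ≤ S) :
    A.relIndex S * Nat.card A = Nat.card S := by
  have h1 := Subgroup.card_mul_index (A.subgroupOf S)
  rw [Nat.card_congr (Subgroup.subgroupOfEquivOfLe h).toEquiv] at h1
  rw [← h1, mul_comm]
  rfl

theorem index_sqSubgroup_dvd_four [Finite G]
    (hinv : ∀ s t : G, orderOf s = 2 → orderOf t = 2 → s = t) : (sqSubgroup G).index ∣ 4 := by
  haveI : Fact (Nat.Prime 2) := ⟨Nat.prime_two⟩
  set W := sqSubgroup G with hW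
  haveI hWn : W.Normal := sqSubgroup_normal
  have hp : IsPGroup 2 (G ⧸ W) := by
    intro x
    refine ⟨1, ?_⟩
    induction x using QuotientGroup.induction_on with
    | H g =>
      rw [pow_one, sq, ← QuotientGroup.mk_mul, QuotientGroup.eq_one_iff]
      exact sq_mem_sqSubgroup g
  obtain ⟨j, hj⟩ := IsPGroup.iff_card.mp hp
  rw [← Subgroup.index_eq_card] at hj
  obtain ⟨S⟩ := (inferInstance : Nonempty (Sylow 2 G))
  have hSW : (S : Subgroup G) ⊔ W = ⊤ := by
    rw [← Subgroup.index_eq_one]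
    have h1 : ((S : Subgroup G) ⊔ W).index ∣ (S : Subgroup G).index :=
      Subgroup.index_dvd_of_le le_sup_left
    have h2 : ((S : Subgroup G) ⊔ W).index ∣ 2 ^ j := by
      rw [← hj]; exact Subgroup.index_dvd_of_le le_sup_right
    obtain ⟨i, _, hi⟩ := (Nat.dvd_prime_pow Nat.prime_two).mp h2
    rcases Nat.eq_zero_or_pos i with hi0 | hi0
    · rw [hi, hi0, pow_zero]
    · exfalso
      apply S.not_dvd_index
      refine dvd_trans ?_ h1
      rw [hi]
      exact dvd_pow_self 2 hi0.ne'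
  have hidx : W.index = W.relIndex S := by
    rw [← Subgroup.relIndex_top_right, ← hSW, Subgroup.relIndex_sup_right]
  rw [hidx]
  rcases cyclic_or_gq hinv S S.2 with hc | ⟨k, _, a, hg⟩
  · obtain ⟨g, hgen⟩ := IsCyclic.exists_generator (α := S)
    set A := Subgroup.zpowers ((g : G) ^ 2) with hA
    have hAS : A ≤ S := Subgroup.zpowers_le.mpr (Subgroup.pow_mem _ g.2 2)
    have hAW : A ≤ W := Subgroup.zpowers_le.mpr (by rw [sq]; exact sq_mem_sqSubgroup _)
    have h1 : W.relIndex S ∣ A.relIndex S := Subgroup.relIndex_dvd_of_le_left _ hAW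
    refine dvd_trans h1 ?_
    have h2 := relIndex_mul_card_eq hAS
    have hgo : orderOf (g : G) = Nat.card S := by
      rw [Subgroup.orderOf_coe, orderOf_eq_card_of_forall_mem_zpowers hgen]
    rw [hA, Nat.card_zpowers, orderOf_pow, hgo] at h2
    obtain ⟨e, he⟩ := IsPGroup.iff_card.mp S.2
    rw [he] at h2
    rcases Nat.eq_zero_or_pos e with he0 | he0
    · subst he0
      simp only [pow_zero, Nat.gcd_one_left, Nat.div_one, mul_one] at h2
      rw [h2]; norm_num
    · obtain ⟨e', rfl⟩ : ∃ e', e = e' + 1 := ⟨e - 1, by omega⟩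
      have hg2 : Nat.gcd (2 ^ (e' + 1)) 2 = 2 := Nat.gcd_eq_right (dvd_pow_self 2 (by omega))
      have h6 : 2 ^ (e' + 1) / 2 = 2 ^ e' := by
        rw [pow_succ]; exact Nat.mul_div_cancel _ (by norm_num)
      rw [hg2, h6] at h2
      have h5 : A.relIndex S * 2 ^ e' = 2 * 2 ^ e' := by rw [h2]; ring
      have := Nat.eq_of_mul_eq_mul_right (by positivity) h5
      rw [this]; norm_num
  · set A := Subgroup.zpowers (a ^ 2) with hA
    have hAS : A ≤ S := GQlem.zpowers_sq_le hg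
    have hAW : A ≤ W := Subgroup.zpowers_le.mpr (by rw [sq]; exact sq_mem_sqSubgroup _)
    have h1 : W.relIndex S ∣ A.relIndex S := Subgroup.relIndex_dvd_of_le_left _ hAW
    refine dvd_trans h1 ?_
    have h2 := relIndex_mul_card_eq hAS
    rw [GQlem.card_zpowers_sq hg, hg.card] at h2
    have h3 : 2 * 2 ^ (k + 1) = 4 * 2 ^ k := by ring
    rw [h3] at h2
    have := Nat.eq_of_mul_eq_mul_right (by positivity) h2
    rw [this]

theorem d2_sq (q : DihedralGroup 2) : q * q = 1 := by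
  revert q; decide

theorem ker_eq_sqSubgroup [Finite G]
    (hinv : ∀ s t : G, orderOf s = 2 → orderOf t = 2 → s = t) (f : G →* DihedralGroup 2)
    (hf : Function.Surjective f) : f.ker = sqSubgroup G := by
  have hle : sqSubgroup G ≤ f.ker := sqSubgroup_le_ker f d2_sq
  have h4 : f.ker.index = 4 := by
    rw [Subgroup.index_ker, MonoidHom.range_eq_top.mpr hf, Subgroup.card_top,
      Nat.card_eq_fintype_card, DihedralGroup.card]
  have h1 : f.ker.index ∣ (sqSubgroup G).index := Subgroup.index_dvd_of_le hle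
  have h2 := index_sqSubgroup_dvd_four hinv
  have h3 : (sqSubgroup G).index = 4 := by
    rw [h4] at h1
    exact Nat.dvd_antisymm h2 h1
  symm
  apply Subgroup.eq_of_le_of_card_ge hle
  have e1 := Subgroup.card_mul_index (sqSubgroup G)
  have e2 := Subgroup.card_mul_index f.ker
  rw [h3] at e1
  rw [h4] at e2
  omega

/-- a normal Z-subgroup lies in the kernel of a surjection onto a group without nontrivial
normal Z-subgroups -/
theorem le_ker_of_zsub [Finite G] {Q : Type*} [Group Q] (f : G →* Q)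
    (hf : Function.Surjective f)
    (hQ : ∀ H : Subgroup Q, H.Normal → IsZGroup H → H = ⊥) (N₂ : Subgroup G) (hN₂ : N₂.Normal)
    (hZ : ∀ (p : ℕ) [Fact p.Prime] (P : Sylow p N₂), IsCyclic P) : N₂ ≤ f.ker := by
  haveI : IsZGroup N₂ := ⟨fun p hp P => by haveI := Fact.mk hp; exact hZ p P⟩
  have h1 : (N₂.map f).Normal := hN₂.map f hf
  have h2 : IsZGroup (N₂.map f) :=
    IsZGroup.of_surjective (f := f.subgroupMap N₂) (f.subgroupMap_surjective N₂)
  have h3 := hQ _ h1 h2
  intro x hx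
  rw [MonoidHom.mem_ker]
  have : f x ∈ N₂.map f := ⟨x, hx, rfl⟩
  rw [h3, Subgroup.mem_bot] at this
  exact this

/-- "big" quotients: onto a group with more than 4 elements and no nontrivial normal
Z-subgroup -/
def Big (G : Type u) [Group G] (N : Subgroup G) : Prop :=
  ∃ (Q : Type) (_ : Group Q) (_ : Finite Q), (∀ H : Subgroup Q, H.Normal → IsZGroup H → H = ⊥) ∧
    4 < Nat.card Q ∧ ∃ f : G →* Q, Function.Surjective f ∧ f.ker = N

/-- the uniqueness statement in abstract form -/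
theorem unique_of_cases [Finite G]
    (hinv : ∀ s t : G, orderOf s = 2 → orderOf t = 2 → s = t)
    (hd2 : ∀ (H : Subgroup (DihedralGroup 2)), IsZGroup H → Nat.card H ≤ 2)
    {N₁ N₂ : Subgroup G} (hn₁ : N₁.Normal) (hn₂ : N₂.Normal)
    (hz₁ : ∀ (p : ℕ) [Fact p.Prime] (P : Sylow p N₁), IsCyclic P)
    (hz₂ : ∀ (p : ℕ) [Fact p.Prime] (P : Sylow p N₂), IsCyclic P)
    (h₁ : N₁ = ⊤ ∨ (∃ f : G →* DihedralGroup 2, Function.Surjective f ∧ f.ker = N₁) ∨ Big G N₁)
    (h₂ : N₂ = ⊤ ∨ (∃ f : G →* DihedralGroup 2, Function.Surjective f ∧ f.ker = N₂) ∨ Big G N₂) :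
    N₁ = N₂ := by
  -- a Z-group has no quotient in the list
  have htop : ∀ N : Subgroup G, (∀ (p : ℕ) [Fact p.Prime] (P : Sylow p N), IsCyclic P) →
      N = ⊤ → ∀ N' : Subgroup G,
      ((∃ f : G →* DihedralGroup 2, Function.Surjective f ∧ f.ker = N') ∨ Big G N') → False := by
    intro N hz hN N' h'
    subst hN
    haveI : IsZGroup (⊤ : Subgroup G) := ⟨fun p hp P => by haveI := Fact.mk hp; exact hz p P⟩
    haveI : IsZGroup G :=
      IsZGroup.of_surjective (f := (⊤ : Subgroup G).subtype)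
        (fun g => ⟨⟨g, Subgroup.mem_top g⟩, rfl⟩)
    rcases h' with ⟨f, hf, _⟩ | ⟨Q, _, _, hQ, hcard, f, hf, _⟩
    · haveI : IsZGroup (DihedralGroup 2) := IsZGroup.of_surjective hf
      have h1 : IsZGroup (⊤ : Subgroup (DihedralGroup 2)) := inferInstance
      have h2 := hd2 ⊤ h1
      rw [Subgroup.card_top, Nat.card_eq_fintype_card, DihedralGroup.card] at h2
      omega
    · haveI : IsZGroup Q := IsZGroup.of_surjective hf
      have h1 : IsZGroup (⊤ : Subgroup Q) := inferInstance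
      have h2 := hQ ⊤ Subgroup.normal_top h1
      have h3 : Nat.card (⊤ : Subgroup Q) = 1 := by rw [h2]; exact Subgroup.card_bot
      rw [Subgroup.card_top] at h3
      omega
  rcases h₁ with h₁ | h₁
  · rcases h₂ with h₂ | h₂
    · rw [h₁, h₂]
    · exact (htop N₁ hz₁ h₁ N₂ h₂).elim
  rcases h₂ with h₂ | h₂
  · exact (htop N₂ hz₂ h₂ N₁ h₁).elim
  rcases h₁ with ⟨f₁, hf₁, hk₁⟩ | ⟨Q₁, _, _, hQ₁, hc₁, f₁, hf₁, hk₁⟩
  · rcases h₂ with ⟨f₂, hf₂, hk₂⟩ | ⟨Q₂, _, _, hQ₂, hc₂, f₂, hf₂, hk₂⟩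
    · rw [← hk₁, ← hk₂, ker_eq_sqSubgroup hinv f₁ hf₁, ker_eq_sqSubgroup hinv f₂ hf₂]
    · exfalso
      have hle : N₁ ≤ N₂ := hk₂ ▸ le_ker_of_zsub f₂ hf₂ hQ₂ N₁ hn₁ hz₁
      have h1 : N₂.index ∣ N₁.index := Subgroup.index_dvd_of_le hle
      have h2 : N₁.index = 4 := by
        rw [← hk₁, Subgroup.index_ker, MonoidHom.range_eq_top.mpr hf₁, Subgroup.card_top,
          Nat.card_eq_fintype_card, DihedralGroup.card]
      have h3 : N₂.index = Nat.card Q₂ := by
        rw [← hk₂, Subgroup.index_ker, MonoidHom.range_eq_top.mpr hf₂, Subgroup.card_top]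
      rw [h2, h3] at h1
      have := Nat.le_of_dvd (by norm_num) h1
      omega
  · rcases h₂ with ⟨f₂, hf₂, hk₂⟩ | ⟨Q₂, _, _, hQ₂, hc₂, f₂, hf₂, hk₂⟩
    · exfalso
      have hle : N₂ ≤ N₁ := hk₁ ▸ le_ker_of_zsub f₁ hf₁ hQ₁ N₂ hn₂ hz₂
      have h1 : N₁.index ∣ N₂.index := Subgroup.index_dvd_of_le hle
      have h2 : N₂.index = 4 := by
        rw [← hk₂, Subgroup.index_ker, MonoidHom.range_eq_top.mpr hf₂, Subgroup.card_top,
          Nat.card_eq_fintype_card, DihedralGroup.card]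
      have h3 : N₁.index = Nat.card Q₁ := by
        rw [← hk₁, Subgroup.index_ker, MonoidHom.range_eq_top.mpr hf₁, Subgroup.card_top]
      rw [h2, h3] at h1
      have := Nat.le_of_dvd (by norm_num) h1
      omega
    · apply le_antisymm
      · exact hk₂ ▸ le_ker_of_zsub f₂ hf₂ hQ₂ N₁ hn₁ hz₁
      · exact hk₁ ▸ le_ker_of_zsub f₁ hf₁ hQ₁ N₂ hn₂ hz₂

end Cfsg.Agent.Lib.Helper4.FC
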