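-- helper4: assembly of S4291 from its modules (recognition B, Z-subgroup facts U, nonsolvable D)
import Mathlib
import Cfsg.Agent.Lib.Helper4.FCUniq
import Cfsg.Agent.Lib.Helper4.FCHyp

set_option autoImplicit false

namespace Cfsg.Agent.Lib.Helper4.FC

open Cfsg Cfsg.Agent.Lib.Helper35.SL25Compl

universe u

variable {G : Type u} [Group G]

theorem card_alt4_gt : 4 < Nat.card (alternatingGroup (Fin 4)) := by
  rw [nat_card_alternatingGroup, Nat.card_eq_fintype_card, Fintype.card_fin]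
  decide

theorem card_perm4_gt : 4 < Nat.card (Equiv.Perm (Fin 4)) := by
  rw [Nat.card_eq_fintype_card, Fintype.card_perm, Fintype.card_fin]
  decide

theorem card_alt5_gt : 4 < Nat.card (alternatingGroup (Fin 5)) := by
  rw [nat_card_alternatingGroup, Nat.card_eq_fintype_card, Fintype.card_fin]
  decide

theorem card_perm5_gt : 4 < Nat.card (Equiv.Perm (Fin 5)) := by
  rw [Nat.card_eq_fintype_card, Fintype.card_perm, Fintype.card_fin]
  decide

/-- the six-way list of S4291 -/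
def SixList (G : Type u) [Group G] (N : Subgroup G) : Prop :=
  N = ⊤ ∨
    (∃ f : G →* DihedralGroup 2, Function.Surjective f ∧ f.ker = N) ∨
    (∃ f : G →* alternatingGroup (Fin 4), Function.Surjective f ∧ f.ker = N) ∨
    (∃ f : G →* Equiv.Perm (Fin 4), Function.Surjective f ∧ f.ker = N) ∨
    (∃ f : G →* alternatingGroup (Fin 5), Function.Surjective f ∧ f.ker = N) ∨
    (∃ f : G →* Equiv.Perm (Fin 5), Function.Surjective f ∧ f.ker = N)

theorem big_of_sixList
    (ha4 : ∀ H : Subgroup (alternatingGroup (Fin 4)), H.Normal → IsZGroup H → H = ⊥)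
    (hs4 : ∀ H : Subgroup (Equiv.Perm (Fin 4)), H.Normal → IsZGroup H → H = ⊥)
    (ha5 : ∀ H : Subgroup (alternatingGroup (Fin 5)), H.Normal → IsZGroup H → H = ⊥)
    (hs5 : ∀ H : Subgroup (Equiv.Perm (Fin 5)), H.Normal → IsZGroup H → H = ⊥)
    {N : Subgroup G} (h : SixList G N) :
    N = ⊤ ∨ (∃ f : G →* DihedralGroup 2, Function.Surjective f ∧ f.ker = N) ∨ Big G N := by
  rcases h with h | h | h | h | h | h
  · exact Or.inl h
  · exact Or.inr (Or.inl h)
  · exact Or.inr (Or.inr ⟨_, inferInstance, inferInstance, ha4, card_alt4_gt, h⟩)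
  · exact Or.inr (Or.inr ⟨_, inferInstance, inferInstance, hs4, card_perm4_gt, h⟩)
  · exact Or.inr (Or.inr ⟨_, inferInstance, inferInstance, ha5, card_alt5_gt, h⟩)
  · exact Or.inr (Or.inr ⟨_, inferInstance, inferInstance, hs5, card_perm5_gt, h⟩)

/-- S4291 modulo its modules -/
theorem main_of [Finite G] (hrecog : RecogStmt.{u})
    (hd2 : ∀ (H : Subgroup (DihedralGroup 2)), IsZGroup H → Nat.card H ≤ 2)
    (ha4 : ∀ H : Subgroup (alternatingGroup (Fin 4)), H.Normal → IsZGroup H → H = ⊥)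
    (hs4 : ∀ H : Subgroup (Equiv.Perm (Fin 4)), H.Normal → IsZGroup H → H = ⊥)
    (ha5 : ∀ H : Subgroup (alternatingGroup (Fin 5)), H.Normal → IsZGroup H → H = ⊥)
    (hs5 : ∀ H : Subgroup (Equiv.Perm (Fin 5)), H.Normal → IsZGroup H → H = ⊥)
    (hnonsolv : ¬ Group.IsSolvable G → ∃ N : Subgroup G, N.Normal ∧
      (∀ (p : ℕ) [Fact p.Prime] (P : Sylow p N), IsCyclic P) ∧
      ((∃ f : G →* alternatingGroup (Fin 5), Function.Surjective f ∧ f.ker = N) ∨
        (∃ f : G →* Equiv.Perm (Fin 5), Function.Surjective f ∧ f.ker = N)))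
    (hinv : UniqueInvol G) (hU : UniqueOrderP G) :
    ∃! N : Subgroup G, N.Normal ∧ (∀ (p : ℕ) [Fact p.Prime] (P : Sylow p N), IsCyclic P) ∧
      (N = ⊤ ∨
        (∃ f : G →* DihedralGroup 2, Function.Surjective f ∧ f.ker = N) ∨
        (∃ f : G →* alternatingGroup (Fin 4), Function.Surjective f ∧ f.ker = N) ∨
        (∃ f : G →* Equiv.Perm (Fin 4), Function.Surjective f ∧ f.ker = N) ∨
        (∃ f : G →* alternatingGroup (Fin 5), Function.Surjective f ∧ f.ker = N) ∨
        (∃ f : G →* Equiv.Perm (Fin 5), Function.Surjective f ∧ f.ker = N)) := by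
  have hex : ∃ N : Subgroup G, N.Normal ∧
      (∀ (p : ℕ) [Fact p.Prime] (P : Sylow p N), IsCyclic P) ∧ SixList G N := by
    by_cases hsol : Group.IsSolvable G
    · obtain ⟨N, hn, hz, hl⟩ := exists_good_solvable hrecog hsol hinv
        (fun p _ Q hQ hp2 => isCyclic_of_uniqueOrderP hU p Q hQ hp2)
      refine ⟨N, hn, hz, ?_⟩
      rcases hl with h | h | h | h
      · exact Or.inl h
      · exact Or.inr (Or.inl h)
      · exact Or.inr (Or.inr (Or.inl h))
      · exact Or.inr (Or.inr (Or.inr (Or.inl h)))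
    · obtain ⟨N, hn, hz, hl⟩ := hnonsolv hsol
      refine ⟨N, hn, hz, ?_⟩
      rcases hl with h | h
      · exact Or.inr (Or.inr (Or.inr (Or.inr (Or.inl h))))
      · exact Or.inr (Or.inr (Or.inr (Or.inr (Or.inr h))))
  obtain ⟨N, hn, hz, hl⟩ := hex
  refine ⟨N, ⟨hn, hz, hl⟩, ?_⟩
  rintro N' ⟨hn', hz', hl'⟩
  exact unique_of_cases hinv hd2 hn' hn hz' hz
    (big_of_sixList ha4 hs4 ha5 hs5 hl') (big_of_sixList ha4 hs4 ha5 hs5 hl)

end Cfsg.Agent.Lib.Helper4.FC
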