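import Mathlib
import Cfsg.Agent.Lib.Helper74.PFElevenDichFinal
import Cfsg.Agent.Lib.Helper26.PF13Book1543
import Cfsg.Agent.Lib.Helper46.PFTenVBook
import Cfsg.Agent.Lib.Helper51.PFCycCalS

/-!
# Glue: S1540 and S1543 from the three finals of Peterfalvi section 11 (helper4, PF coordinator)

The finals of section 11 are being written in three files (backup split of 14:45Z):

* helper98 `no_typeIV_lt`  : `PairHyp → IsOfTypeIV M → |W₂| < |W₁| → False`  (chain A),
* helper24 `no_typeIV_gt`  : `PairHyp → IsOfTypeIV M → |W₁| < |W₂| → False`  (chain B), and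
  `typeIII_lt`             : `PairHyp → IsOfTypeIII M → |W₂| < |W₁|`,
* helper74 `struct34_of_pair` : `PairHyp → III ∨ IV → Struct34 M W₁ U W₂`.

This file takes them as hypotheses and produces the frozen statements S1540 and S1543
(`stmt1540_of_finals`, `stmt1543_of_finals`), and (12.7) `h127_of_finals`.
-/

set_option autoImplicit false

namespace Cfsg.Agent.Lib.Helper4.PFGlue

open Cfsg Cfsg.Agent.Lib.Helper4.PF Cfsg.Agent.Lib.Helper64.PF11

universe u

variable {G : Type u} [Group G] [Finite G]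

/-- `|W₁| ≠ |W₂|` for type-P data -/
theorem card_W₁_ne_card_W₂ {M W₁ U W₂ : Subgroup G} (hP : IsTypePWith M W₁ U W₂) :
    Nat.card W₁ ≠ Nat.card W₂ := by
  intro h
  have hc := Cfsg.Agent.Lib.Helper51.PFCyc.coprime_W hP
  rw [← h, Nat.coprime_self] at hc
  exact hP.W₁_ne (Subgroup.card_eq_one.mp hc)

/-- the two halves of "no Type IV" give "no Type IV" -/
theorem noIV_of_halves
    (hA : ∀ {M T W₁ W₂ U V : Subgroup G}, PairHyp M T W₁ W₂ U V → IsOfTypeIV M →
      Nat.card W₂ < Nat.card W₁ → False)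
    (hB : ∀ {M T W₁ W₂ U V : Subgroup G}, PairHyp M T W₁ W₂ U V → IsOfTypeIV M →
      Nat.card W₁ < Nat.card W₂ → False) :
    ∀ {M T W₁ W₂ U V : Subgroup G}, PairHyp M T W₁ W₂ U V → ¬ IsOfTypeIV M := by
  intro M T W₁ W₂ U V ph hIV
  rcases lt_trichotomy (Nat.card W₂) (Nat.card W₁) with h | h | h
  · exact hA ph hIV h
  · exact card_W₁_ne_card_W₂ ph.hSP h.symm
  · exact hB ph hIV h

section finals

variable (hG : IsMinSimpleOddOrder G)
  (hnoIV : ∀ {M T W₁ W₂ U V : Subgroup G}, PairHyp M T W₁ W₂ U V → ¬ IsOfTypeIV M)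
  (hlt : ∀ {M T W₁ W₂ U V : Subgroup G}, PairHyp M T W₁ W₂ U V → IsOfTypeIII M →
    Nat.card W₂ < Nat.card W₁)
  (hstr : ∀ {M T W₁ W₂ U V : Subgroup G}, PairHyp M T W₁ W₂ U V →
    IsOfTypeIII M ∨ IsOfTypeIV M → Struct34 M W₁ U W₂)

include hG hnoIV hlt hstr

/-- (12.7) in book form from the finals of section 11 -/
theorem h127_of_finals :
    ∀ L : Subgroup G, IsCoatom L → LitTypeI L → IsFrobWithFittingHall L := by
  classical
  letI : Fintype G := Fintype.ofFinite G
  have bg := Cfsg.Agent.Lib.Helper24.BGBook.bookBGData hG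
  have pf8 := Cfsg.Agent.Lib.Helper26.PFBook.bookPF8Data_of hG bg
  exact Cfsg.Agent.Lib.Helper74.PF127.h127_of_pair hG bg hnoIV hlt
    (fun ph h => hstr ph (Or.inl h))
    (Cfsg.Agent.Lib.Helper46.PF10V.no_typeV_book hG bg pf8)

/-- the frozen statement S1540 from the finals of section 11 -/
theorem stmt1540_of_finals (M : Subgroup G) (hM : IsCoatom M) (hI : IsOfTypeI M) :
    ∀ x ∈ fittingHallOf M, x ≠ 1 →
      M ⊓ Subgroup.centralizer ({x} : Set G) ≤ fittingHallOf M := by
  classical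
  letI : Fintype G := Fintype.ofFinite G
  have bg := Cfsg.Agent.Lib.Helper24.BGBook.bookBGData hG
  have pf8 := Cfsg.Agent.Lib.Helper26.PFBook.bookPF8Data_of hG bg
  exact Cfsg.Agent.Lib.Helper74.PF127.stmt1540_of_pair hG bg hnoIV hlt
    (fun ph h => hstr ph (Or.inl h))
    (Cfsg.Agent.Lib.Helper46.PF10V.no_typeV_book hG bg pf8) M hM hI

/-- the frozen statement S1543 from the finals of section 11 -/
theorem stmt1543_of_finals : Stmt1543 G := by
  classical
  letI : Fintype G := Fintype.ofFinite G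
  have bg := Cfsg.Agent.Lib.Helper24.BGBook.bookBGData hG
  have pf8 := Cfsg.Agent.Lib.Helper26.PFBook.bookPF8Data_of hG bg
  exact Cfsg.Agent.Lib.Helper26.PF13Book.stmt1543_of_book_all hG
    (Cfsg.Agent.Lib.Helper46.PF10V.no_typeV_book hG bg pf8) hnoIV hlt
    (fun ph h => ⟨(hstr ph (Or.inl h)).hHel, (hstr ph (Or.inl h)).hHcard⟩)
    (h127_of_finals hG hnoIV hlt hstr)

end finals

end Cfsg.Agent.Lib.Helper4.PFGlue
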