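import Mathlib
import Cfsg.Agent.Lib.Helper4.PFFinalsGlue
import Cfsg.Agent.Lib.Helper74.PFElevenFinalA74
import Cfsg.Agent.Lib.Helper16.PF13Closed
import Cfsg.Agent.Lib.Helper52.PF14HCharFinal
import Cfsg.Agent.Lib.Helper64.PFTwelveX1
import Cfsg.Agent.Lib.Helper26.BGRows
import Cfsg.Agent.Lib.Helper26.PF14CoreC
import Cfsg.Agent.Lib.Helper54.PF14Field
import Cfsg.Agent.Lib.Helper16.PF13FinAPI
import Cfsg.Agent.Lib.Helper52.PF14HParA

/-!
# Glue: S1544 and the Odd Order Theorem from `hcard` and `hna` (helper4, PF coordinator)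

With the finals of Peterfalvi section 11 on main (`Helper74.PF11F`), sections 10-13 are closed:
`closed_outputs` collects "not all maximal subgroups of Type I", `Stmt1543`, `Stmt1547` and (12.7).
The only open inputs of S1544 / S0205 are

* `hcard` : `|U| (p - 1) = p ^ q - 1` and `|V| (q - 1) = q ^ p - 1` (Peterfalvi (13.x) extremal
  structure; helper16),
* `hna`   : Peterfalvi section 14 (a) excluded (helper34).

`stmt1544_of_hcard_hna` and `odd_order_of_hcard_hna` take exactly these two.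
-/

set_option autoImplicit false

namespace Cfsg.Agent.Lib.Helper4.PFGlue

open Cfsg Cfsg.Agent.Lib.Helper4.PF Cfsg.Agent.Lib.Helper64.PF11
  Cfsg.Agent.Lib.Helper26.PF14Core

universe u

variable {G : Type u} [Group G] [Finite G]

/-- the closed outputs of Peterfalvi sections 10-13 -/
theorem closed_outputs (hG : IsMinSimpleOddOrder G) :
    (¬ ∀ M : Subgroup G, IsCoatom M → LitTypeI M) ∧ Stmt1543 G ∧ Stmt1547 G ∧
      (∀ L : Subgroup G, IsCoatom L → LitTypeI L → IsFrobWithFittingHall L) := by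
  classical
  letI : Fintype G := Fintype.ofFinite G
  have bg := Cfsg.Agent.Lib.Helper24.BGBook.bookBGData hG
  have pf8 := Cfsg.Agent.Lib.Helper26.PFBook.bookPF8Data_of hG bg
  have hnoIV : ∀ {M T W₁ W₂ U V : Subgroup G}, PairHyp M T W₁ W₂ U V → ¬ IsOfTypeIV M :=
    fun ph => Cfsg.Agent.Lib.Helper74.PF11F.no_typeIV hG bg pf8 ph
  have hlt : ∀ {M T W₁ W₂ U V : Subgroup G}, PairHyp M T W₁ W₂ U V → IsOfTypeIII M →
      Nat.card W₂ < Nat.card W₁ :=
    fun ph h => Cfsg.Agent.Lib.Helper74.PF11F.typeIII_lt hG bg pf8 ph h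
  have hstr : ∀ {M T W₁ W₂ U V : Subgroup G}, PairHyp M T W₁ W₂ U V →
      IsOfTypeIII M ∨ IsOfTypeIV M → Struct34 M W₁ U W₂ :=
    fun ph h => Cfsg.Agent.Lib.Helper74.PF11F.struct34_of_pair hG bg pf8 ph h
  have h127 := h127_of_finals hG hnoIV hlt hstr
  have h1543 := stmt1543_of_finals hG hnoIV hlt hstr
  have h1547 := Cfsg.Agent.Lib.Helper16.PF13.stmt1547_fin hG h1543
  refine ⟨?_, h1543, h1547, h127⟩
  intro hall
  obtain ⟨M, hM, hMI⟩ := Cfsg.Agent.Lib.Helper64.PF12.not_all_litTypeI hG bg pf8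
    (Cfsg.Agent.Lib.Helper26.BGRows.kappa_eq_empty hG)
    (Cfsg.Agent.Lib.Helper26.BGRows.sigmaCore_eq hG) h127
  exact hMI (hall M hM)

/-- the core of S1544 from `hcard` and `hna` -/
theorem stmt1544Core_of_hcard_hna (hG : IsMinSimpleOddOrder G)
    (hcard : ∀ {S T W₁ W₂ U V : Subgroup G}, PairHyp S T W₁ W₂ U V → Nat.card W₁ < Nat.card W₂ →
      Nat.card U * (Nat.card W₂ - 1) = Nat.card W₂ ^ Nat.card W₁ - 1 ∧
        Nat.card V * (Nat.card W₁ - 1) = Nat.card W₁ ^ Nat.card W₂ - 1)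
    (hna : ∀ {S T W₁ W₂ U V : Subgroup G}, Sec13Out S T W₁ W₂ U V →
      ∀ L : Subgroup G, IsCoatom L → Subgroup.normalizer (U : Set G) ≤ L →
        ¬ (fittingHallOf L ⊓ W₁ = ⊥ ∧ fittingHallOf L ⊔ W₁ = L)) :
    Cfsg.Agent.Lib.Helper54.PF14Field.Stmt1544Core G := by
  obtain ⟨-, h1543, h1547, h127⟩ := closed_outputs hG
  exact Cfsg.Agent.Lib.Helper52.PF14HChar.stmt1544Core_of_hna hG h1543 h1547 h127 hcard hna

/-- the frozen statement S1544 from `hcard` and `hna` -/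
theorem stmt1544_of_hcard_hna (hG : IsMinSimpleOddOrder G)
    (hcard : ∀ {S T W₁ W₂ U V : Subgroup G}, PairHyp S T W₁ W₂ U V → Nat.card W₁ < Nat.card W₂ →
      Nat.card U * (Nat.card W₂ - 1) = Nat.card W₂ ^ Nat.card W₁ - 1 ∧
        Nat.card V * (Nat.card W₁ - 1) = Nat.card W₁ ^ Nat.card W₂ - 1)
    (hna : ∀ {S T W₁ W₂ U V : Subgroup G}, Sec13Out S T W₁ W₂ U V →
      ∀ L : Subgroup G, IsCoatom L → Subgroup.normalizer (U : Set G) ≤ L →
        ¬ (fittingHallOf L ⊓ W₁ = ⊥ ∧ fittingHallOf L ⊔ W₁ = L)) :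
    Stmt1544 G :=
  Cfsg.Agent.Lib.Helper54.PF14Field.stmt1544_of_core (stmt1544Core_of_hcard_hna hG hcard hna)

/-- **The Odd Order Theorem** from `hcard` and `hna` for every minimal simple group of odd
order. -/
theorem odd_order_of_hcard_hna.{v}
    (hcard : ∀ (H : Type v) [Group H] [Finite H], IsMinSimpleOddOrder H →
      ∀ {S T W₁ W₂ U V : Subgroup H}, PairHyp S T W₁ W₂ U V → Nat.card W₁ < Nat.card W₂ →
        Nat.card U * (Nat.card W₂ - 1) = Nat.card W₂ ^ Nat.card W₁ - 1 ∧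
          Nat.card V * (Nat.card W₁ - 1) = Nat.card W₁ ^ Nat.card W₂ - 1)
    (hna : ∀ (H : Type v) [Group H] [Finite H], IsMinSimpleOddOrder H →
      ∀ {S T W₁ W₂ U V : Subgroup H}, Sec13Out S T W₁ W₂ U V →
        ∀ L : Subgroup H, IsCoatom L → Subgroup.normalizer (U : Set H) ≤ L →
          ¬ (fittingHallOf L ⊓ W₁ = ⊥ ∧ fittingHallOf L ⊔ W₁ = L))
    (K : Type v) [Group K] [Finite K] (hK : Odd (Nat.card K)) : Group.IsSolvable K :=
  Cfsg.Agent.Lib.Helper54.PF14Field.odd_order_of_core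
    (fun H _ _ hH => ⟨(closed_outputs hH).1,
      stmt1544Core_of_hcard_hna hH (hcard H hH) (hna H hH)⟩) K hK

/-- **S1544**, unconditional: `hcard` = helper16 `hcard_of_1543`, `hna` = helper52 `hna_final`. -/
theorem stmt1544_final (hG : IsMinSimpleOddOrder G) : Stmt1544 G := by
  obtain ⟨-, h1543, h1547, h127⟩ := closed_outputs hG
  exact stmt1544_of_hcard_hna hG (Cfsg.Agent.Lib.Helper16.PF13.hcard_of_1543 hG h1543)
    (fun o => Cfsg.Agent.Lib.Helper52.PF14HParA.hna_final hG h1543 h1547 h127 o)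

/-- **The Odd Order Theorem** (Feit-Thompson), unconditional. -/
theorem odd_order_final.{v} (K : Type v) [Group K] [Finite K] (hK : Odd (Nat.card K)) :
    Group.IsSolvable K :=
  odd_order_of_hcard_hna
    (fun H _ _ hH => Cfsg.Agent.Lib.Helper16.PF13.hcard_of_1543 hH (closed_outputs hH).2.1)
    (fun H _ _ hH => fun o => Cfsg.Agent.Lib.Helper52.PF14HParA.hna_final hH
      (closed_outputs hH).2.1 (closed_outputs hH).2.2.1 (closed_outputs hH).2.2.2 o)
    K hK

end Cfsg.Agent.Lib.Helper4.PFGlue
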