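import Mathlib
import Cfsg.Agent.Lib.Helper4.PFTypes
import Cfsg.Agent.Lib.Helper59.PFBridge
import Cfsg.Agent.Lib.Helper64.PFTwelveX1

/-!
# PF section 12: the statement S1541 ("some maximal subgroup is not of Type I") from
(12.7) IN THE WORLD WHERE ALL MAXIMAL SUBGROUPS ARE OF TYPE I (helper4)

`not_all_litTypeI` (helper64, module X1) is proved by contradiction, so Peterfalvi (12.7) is only
needed under the additional hypothesis that every maximal subgroup is of (book) Type I.  In that
world the maximal subgroup `L` with `p ∈ σ(L)` of the proof of (12.7) is of Type I for free, so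
sections 10 and 11 are not needed for S1541.
-/

set_option autoImplicit false

namespace Cfsg.Agent.Lib.Helper4.PF

open Cfsg

/-- S1541 from the local data, and (12.7) under the hypothesis that all maximal subgroups are of
Type I. -/
theorem stmt1541_of {G : Type*} [Group G] [Finite G] (hG : IsMinSimpleOddOrder G)
    (bg : BookBGData G) (pf8 : BookPF8Data G)
    (hκ : ∀ M : Subgroup G, IsCoatom M → LitTypeI M → kappa M = ∅)
    (hσ : ∀ M : Subgroup G, IsCoatom M → LitTypeI M → sigmaCore M = fittingHallOf M)
    (h127 : (∀ M : Subgroup G, IsCoatom M → LitTypeI M) →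
      ∀ L : Subgroup G, IsCoatom L → LitTypeI L → IsFrobWithFittingHall L) :
    ∃ M : Subgroup G, IsCoatom M ∧ ¬ IsOfTypeI M := by
  by_contra hcon
  push Not at hcon
  have hall : ∀ M : Subgroup G, IsCoatom M → LitTypeI M := fun M hM =>
    Cfsg.Agent.Lib.Helper59.PFBridge.litTypeI_of_isOfTypeI M (hcon M hM)
  obtain ⟨M, hM, hnot⟩ :=
    Cfsg.Agent.Lib.Helper64.PF12.not_all_litTypeI hG bg pf8 hκ hσ (h127 hall)
  exact hnot (hall M hM)

end Cfsg.Agent.Lib.Helper4.PF
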