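import Mathlib
import Cfsg.Agent.Lib.Helper4.BSArith
import Cfsg.Agent.Lib.Helper4.NormFour
import Cfsg.Agent.Lib.Helper4.BlockStep
import Cfsg.Agent.Lib.Helper4.Q8Basic
import Cfsg.Agent.Lib.Helper4.Q8Cong
import Cfsg.Agent.Lib.Helper4.InvolRel
import Cfsg.Agent.Lib.Helper75.PQRDegree
import Cfsg.Agent.Lib.Helper77.CenterIrr
import Cfsg.Agent.Lib.Helper4.Q8Char

/-!
# The character-theoretic core of the Brauer–Suzuki theorem for `Q₈`, full output (helper4)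

Given the class function `Θ` (norm 4, supported on the 2-section of `a`), and fusion of all
elements of order 4 of `S`, some nontrivial irreducible character has `t` in its kernel.
-/

set_option autoImplicit false

namespace Cfsg.Agent.Lib.Helper4.Q8

open QuaternionGroup Cfsg Cfsg.Agent.Lib.Helper78 Cfsg.Agent.Lib.Helper52
open scoped ComplexConjugate

universe u

variable {G : Type u} [Group G] [Fintype G] (S : Sylow 2 G)
  (e : (S : Subgroup G) ≃* QuaternionGroup 2)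

theorem exists_triple_tt_mem_ker
    (Θ : G → ℂ) (hcf : IsClassFunction G Θ)
    (hint : ∀ χ : IrrCharacter G, ∃ n : ℤ, classInner Θ (χ : G → ℂ) = n)
    (hΘ1 : Θ 1 = 0) (htriv : classInner Θ (fun _ => (1 : ℂ)) = 1) (hnorm : classInner Θ Θ = 4)
    (hsupp : ∀ g, Θ g ≠ 0 → ∃ v ∈ centralizerPPrimeCore 2 (psi (S : Subgroup G) e (a 1)),
      IsConj (psi (S : Subgroup G) e (a 1) * v) g)
    (hconst : ∀ v ∈ centralizerPPrimeCore 2 (psi (S : Subgroup G) e (a 1)),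
      Θ (psi (S : Subgroup G) e (a 1) * v) = Θ (psi (S : Subgroup G) e (a 1)))
    (hreg : ∀ y ∈ Subgroup.centralizer ({psi (S : Subgroup G) e (a 1)} : Set G),
      ¬ 2 ∣ orderOf y → y ∈ centralizerPPrimeCore 2 (psi (S : Subgroup G) e (a 1)))
    (hfus : ∀ s ∈ (S : Subgroup G), orderOf s = 4 → IsConj (psi (S : Subgroup G) e (a 1)) s) :
    ∃ (χ₁ χ₂ χ₃ : IrrCharacter G) (e₁ e₂ e₃ : ℤ),
      (χ₁ : G → ℂ) ≠ (fun _ => 1) ∧ (χ₂ : G → ℂ) ≠ (fun _ => 1) ∧ (χ₃ : G → ℂ) ≠ (fun _ => 1) ∧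
      χ₁ ≠ χ₂ ∧ χ₁ ≠ χ₃ ∧ χ₂ ≠ χ₃ ∧
      (e₁ = 1 ∨ e₁ = -1) ∧ (e₂ = 1 ∨ e₂ = -1) ∧ (e₃ = 1 ∨ e₃ = -1) ∧
      classInner Θ (χ₁ : G → ℂ) = e₁ ∧ classInner Θ (χ₂ : G → ℂ) = e₂ ∧
      classInner Θ (χ₃ : G → ℂ) = e₃ ∧
      (∀ χ : IrrCharacter G, (χ : G → ℂ) ≠ (fun _ => 1) → χ ≠ χ₁ → χ ≠ χ₂ → χ ≠ χ₃ →
        classInner Θ (χ : G → ℂ) = 0) ∧
      (∀ g, Θ g = 1 + (e₁ : ℂ) * (χ₁ : G → ℂ) g + (e₂ : ℂ) * (χ₂ : G → ℂ) g
        + (e₃ : ℂ) * (χ₃ : G → ℂ) g) ∧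
      (χ₁ : G → ℂ) (tt (S : Subgroup G) e) = (χ₁ : G → ℂ) 1 ∧
      (χ₂ : G → ℂ) (tt (S : Subgroup G) e) = (χ₂ : G → ℂ) 1 ∧
      (χ₃ : G → ℂ) (tt (S : Subgroup G) e) = (χ₃ : G → ℂ) 1 := by
  classical
  have : Fact (Nat.Prime 2) := ⟨Nat.prime_two⟩
  set A := psi (S : Subgroup G) e (a 1) with hA
  set t := tt (S : Subgroup G) e with ht
  obtain ⟨M, hM⟩ := Cfsg.Agent.Lib.Helper75.exists_isPModular 2 Nat.prime_two
  obtain ⟨χ₁, χ₂, χ₃, e₁, e₂, e₃, hn1, hn2, hn3, h12, h13, h23, he1, he2, he3, hc1, hc2, hc3,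
    hother, hΘeq⟩ := exists_triple_of_norm_four hcf hint hnorm htriv
  have hA4 : orderOf A = 4 := orderOf_a1 _ e
  have hbs := fun χ => block_step 2 M hM A ⟨2, by rw [hA4]; norm_num⟩ Θ hcf hsupp hconst hreg
    htriv χ
  -- values at `A`
  have hval : ∀ (χ : IrrCharacter G) (ε : ℤ), classInner Θ (χ : G → ℂ) = ε → ε ≠ 0 →
      (χ : G → ℂ) A = ε := by
    intro χ ε h1 h2
    have hmem := (hbs χ).1 (by rw [h1]; exact_mod_cast h2)
    have h3 := (hbs χ).2 hmem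
    rw [h1] at h3
    have h4 := congrArg conj h3
    rw [Complex.conj_conj, map_intCast] at h4
    exact h4.symm
  have hne : ∀ ε : ℤ, (ε = 1 ∨ ε = -1) → ε ≠ 0 := by
    rintro ε (rfl | rfl) <;> norm_num
  -- values on the elements of order 4 of `S`
  have hvalS : ∀ (χ : IrrCharacter G) (ε : ℤ), classInner Θ (χ : G → ℂ) = ε → ε ≠ 0 →
      ∀ s ∈ (S : Subgroup G), orderOf s = 4 → (χ : G → ℂ) s = ε := by
    intro χ ε h1 h2 s hs hs4
    rw [← hval χ ε h1 h2]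
    exact (IsClassFunction.eq_of_isConj (isClassFunction_irr χ) (hfus s hs hs4)).symm
  -- support of Θ
  have h4dvd : ∀ g, Θ g ≠ 0 → 4 ∣ orderOf g := by
    intro g hg
    obtain ⟨v, hv, hconj⟩ := hsupp g hg
    have hcomm : Commute A v := mem_centralizerPPrimeCore_commute hv
    have hodd : ¬ 2 ∣ orderOf v := mem_centralizerPPrimeCore_orderOf hv
    have hcop : (orderOf A).Coprime (orderOf v) := by
      rw [hA4]
      have : (2 : ℕ).Coprime (orderOf v) := (Nat.Prime.coprime_iff_not_dvd Nat.prime_two).mpr hodd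
      exact Nat.Coprime.pow_left 2 this
    have h5 := hcomm.orderOf_mul_eq_mul_orderOf_of_coprime hcop
    have h6 : orderOf g = orderOf (A * v) := by
      obtain ⟨c, hc⟩ := isConj_iff.mp hconj
      rw [← hc]
      exact orderOf_conj_eq c _
    rw [h6, h5, hA4]
    exact dvd_mul_right _ _
  have ht2 : orderOf t = 2 := orderOf_tt _ e
  have hΘt : Θ t = 0 := by
    by_contra h
    have := h4dvd t h
    rw [ht2] at this
    omega
  -- the congruences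
  obtain ⟨f₁, c₁, hf1, hct1, hlow1, h41, h81⟩ :=
    congruences (S : Subgroup G) e (IsIrrCharacter.isCharacter χ₁.2) e₁ (hvalS χ₁ e₁ hc1 (hne _ he1))
  obtain ⟨f₂, c₂, hf2, hct2, hlow2, h42, h82⟩ :=
    congruences (S : Subgroup G) e (IsIrrCharacter.isCharacter χ₂.2) e₂ (hvalS χ₂ e₂ hc2 (hne _ he2))
  obtain ⟨f₃, c₃, hf3, hct3, hlow3, h43, h83⟩ :=
    congruences (S : Subgroup G) e (IsIrrCharacter.isCharacter χ₃.2) e₃ (hvalS χ₃ e₃ hc3 (hne _ he3))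
  have hpos : ∀ (χ : IrrCharacter G) (f : ℕ), (χ : G → ℂ) 1 = f → 0 < (f : ℤ) := by
    intro χ f hf
    obtain ⟨d, hd, hd'⟩ := irr_degree_pos χ
    rw [hf] at hd'
    have : f = d := by exact_mod_cast hd'
    rw [this]; exact_mod_cast hd
  have hp1 := hpos χ₁ f₁ hf1
  have hp2 := hpos χ₂ f₂ hf2
  have hp3 := hpos χ₃ f₃ hf3
  -- R1
  have R1 : 1 + e₁ * (f₁ : ℤ) + e₂ * (f₂ : ℤ) + e₃ * (f₃ : ℤ) = 0 := by
    have h := hΘeq 1
    rw [hΘ1, hf1, hf2, hf3] at h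
    have : ((1 + e₁ * (f₁ : ℤ) + e₂ * (f₂ : ℤ) + e₃ * (f₃ : ℤ) : ℤ) : ℂ) = 0 := by
      push_cast; exact h.symm
    exact_mod_cast this
  -- R2
  have R2 : 1 + e₁ * c₁ + e₂ * c₂ + e₃ * c₃ = 0 := by
    have h := hΘeq t
    rw [hΘt, hct1, hct2, hct3] at h
    have : ((1 + e₁ * c₁ + e₂ * c₂ + e₃ * c₃ : ℤ) : ℂ) = 0 := by
      push_cast; exact h.symm
    exact_mod_cast this
  -- R3
  have hvan : ∀ g : G, Θ g ≠ 0 → ∀ x y : G, IsConj t x → IsConj t y → x * y ≠ g := by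
    intro g hg x y hx hy hxy
    have hox : orderOf x = 2 := by
      obtain ⟨c, hc⟩ := isConj_iff.mp hx
      rw [← hc, orderOf_conj_eq]; exact ht2
    have hoy : orderOf y = 2 := by
      obtain ⟨c, hc⟩ := isConj_iff.mp hy
      rw [← hc, orderOf_conj_eq]; exact ht2
    have hodd := odd_orderOf_mul S e hox hoy
    have h4 := h4dvd g hg
    rw [← hxy] at h4
    obtain ⟨k, hk⟩ := hodd
    omega
  have hrel := sum_irr_sq_div_mul_classInner_eq_zero t Θ hvan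
  set τ : IrrCharacter G := trivIrr G with hτ
  have hτ1 : τ ≠ χ₁ := fun h => hn1 (by rw [← h]; rfl)
  have hτ2 : τ ≠ χ₂ := fun h => hn2 (by rw [← h]; rfl)
  have hτ3 : τ ≠ χ₃ := fun h => hn3 (by rw [← h]; rfl)
  have hsub : ∑ χ : IrrCharacter G,
      ((χ : G → ℂ) t * (χ : G → ℂ) t / (χ : G → ℂ) 1) * classInner Θ (χ : G → ℂ) =
      ∑ χ ∈ ({τ, χ₁, χ₂, χ₃} : Finset (IrrCharacter G)),
      ((χ : G → ℂ) t * (χ : G → ℂ) t / (χ : G → ℂ) 1) * classInner Θ (χ : G → ℂ) := by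
    symm
    apply Finset.sum_subset (Finset.subset_univ _)
    intro χ _ hχ
    simp only [Finset.mem_insert, Finset.mem_singleton, not_or] at hχ
    have hχτ : (χ : G → ℂ) ≠ (fun _ => 1) := by
      intro h
      apply hχ.1
      exact Subtype.ext h
    rw [hother χ hχτ hχ.2.1 hχ.2.2.1 hχ.2.2.2, mul_zero]
  rw [hsub] at hrel
  rw [Finset.sum_insert (by simp [hτ1, hτ2, hτ3]), Finset.sum_insert (by simp [h12, h13]),
    Finset.sum_insert (by simp [h23]), Finset.sum_singleton] at hrel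
  have hτv : ∀ g, (τ : G → ℂ) g = 1 := fun g => rfl
  have hτin : classInner Θ (τ : G → ℂ) = 1 := htriv
  rw [hτv, hτv, hτin, hc1, hc2, hc3, hct1, hct2, hct3, hf1, hf2, hf3] at hrel
  have hf1' : (f₁ : ℂ) ≠ 0 := by
    have : (f₁ : ℤ) ≠ 0 := hp1.ne'
    exact_mod_cast this
  have hf2' : (f₂ : ℂ) ≠ 0 := by
    have : (f₂ : ℤ) ≠ 0 := hp2.ne'
    exact_mod_cast this
  have hf3' : (f₃ : ℂ) ≠ 0 := by
    have : (f₃ : ℤ) ≠ 0 := hp3.ne'
    exact_mod_cast this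
  have R3 : (f₁ : ℤ) * f₂ * f₃ + e₁ * c₁ ^ 2 * f₂ * f₃ + e₂ * c₂ ^ 2 * f₁ * f₃
      + e₃ * c₃ ^ 2 * f₁ * f₂ = 0 := by
    have : (((f₁ : ℤ) * f₂ * f₃ + e₁ * c₁ ^ 2 * f₂ * f₃ + e₂ * c₂ ^ 2 * f₁ * f₃
      + e₃ * c₃ ^ 2 * f₁ * f₂ : ℤ) : ℂ) = 0 := by
      push_cast
      field_simp at hrel
      linear_combination hrel
    exact_mod_cast this
  obtain ⟨hr1, hr2, hr3⟩ := Cfsg.Agent.Lib.Helper4.BSArith.bs_arith e₁ e₂ e₃ f₁ f₂ f₃ c₁ c₂ c₃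
    he1 he2 he3 hp1 hp2 hp3 hlow1 hlow2 hlow3 R1 R2 R3 h41 h42 h43 h81 h82 h83
  refine ⟨χ₁, χ₂, χ₃, e₁, e₂, e₃, hn1, hn2, hn3, h12, h13, h23, he1, he2, he3, hc1, hc2, hc3,
    hother, hΘeq, ?_, ?_, ?_⟩
  · rw [hct1, hf1, hr1]
    push_cast
    rfl
  · rw [hct2, hf2, hr2]
    push_cast
    rfl
  · rw [hct3, hf3, hr3]
    push_cast
    rfl

end Cfsg.Agent.Lib.Helper4.Q8
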