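import Mathlib
import Cfsg.Agent.Lib.Helper4.Q8Main
import Cfsg.Agent.Lib.Helper78.SMTMain

/-!
# Elements of a group with Sylow 2-subgroup `Q₈` and central involution (helper4)
-/

set_option autoImplicit false

namespace Cfsg.Agent.Lib.Helper4.Q8

open QuaternionGroup Cfsg Cfsg.Agent.Lib.Helper78

universe u

variable {G : Type u} [Group G] [Finite G] (S : Sylow 2 G)
  (e : (S : Subgroup G) ≃* QuaternionGroup 2)

include S e in
/-- 2-elements have order 1, 2 or 4. -/
theorem le_two_of_orderOf_eq_two_pow {x : G} {k : ℕ} (hx : orderOf x = 2 ^ k) : k ≤ 2 := by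
  have : Fact (Nat.Prime 2) := ⟨Nat.prime_two⟩
  have hp : IsPGroup 2 (Subgroup.zpowers x) := by
    rw [IsPGroup.iff_card, Nat.card_zpowers]; exact ⟨k, hx⟩
  obtain ⟨g, hg⟩ := exists_conj_mem_sylow S hp
  have h1 := hg x (Subgroup.mem_zpowers x)
  have ho : orderOf (g * x * g⁻¹) = 2 ^ k := by rw [orderOf_conj_eq]; exact hx
  by_cases h1' : g * x * g⁻¹ = 1
  · rw [h1', orderOf_one] at ho
    have : k = 0 := by
      by_contra hk
      have : 2 ∣ 2 ^ k := dvd_pow_self 2 hk
      omega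
    omega
  by_cases h2 : g * x * g⁻¹ = tt (S : Subgroup G) e
  · rw [h2, orderOf_tt] at ho
    have : k = 1 := Nat.pow_right_injective (le_refl 2) (by simpa using ho.symm)
    omega
  · have h4 := orderOf_eq_four (S : Subgroup G) e h1 h1' h2
    rw [h4] at ho
    have : k = 2 := Nat.pow_right_injective (le_refl 2) (by simpa using ho.symm)
    omega

/-- with `t` central, `t` is the only involution. -/
theorem eq_tt_of_orderOf_two_of_central (htc : tt (S : Subgroup G) e ∈ Subgroup.center G)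
    {x : G} (hx : orderOf x = 2) : x = tt (S : Subgroup G) e := by
  obtain ⟨c, hc⟩ := isConj_iff.mp (isConj_tt_of_orderOf_two S e hx)
  rw [← hc]
  have := Subgroup.mem_center_iff.mp htc c
  rw [this, mul_assoc, mul_inv_cancel, mul_one]

theorem odd_orderOf_tt_mul (htc : tt (S : Subgroup G) e ∈ Subgroup.center G) {g : G}
    (h2 : 2 ∣ orderOf g) (h4 : ¬ 4 ∣ orderOf g) : Odd (orderOf (tt (S : Subgroup G) e * g)) := by
  obtain ⟨m, hm⟩ := h2
  have hmodd : Odd m := by
    rcases Nat.even_or_odd m with ⟨j, hj⟩ | h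
    · exfalso; apply h4; rw [hm, hj]; exact ⟨j, by ring⟩
    · exact h
  have hmpos : 0 < m := hmodd.pos
  have hgm : orderOf (g ^ m) = 2 := by
    rw [orderOf_pow_of_dvd hmpos.ne' (by rw [hm]; exact dvd_mul_left _ _), hm,
      Nat.mul_div_cancel _ hmpos]
  have hgt : g ^ m = tt (S : Subgroup G) e := eq_tt_of_orderOf_two_of_central S e htc hgm
  have hcomm : Commute (tt (S : Subgroup G) e) g := (Subgroup.mem_center_iff.mp htc g).symm
  have ht2 : tt (S : Subgroup G) e ^ 2 = 1 := by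
    rw [pow_two]; exact mul_self_of_orderOf_two (orderOf_tt (S : Subgroup G) e)
  have hpow : (tt (S : Subgroup G) e * g) ^ m = 1 := by
    rw [hcomm.mul_pow, hgt]
    obtain ⟨j, rfl⟩ := hmodd
    rw [pow_succ, pow_mul, ht2, one_pow, one_mul, ← pow_two, ht2]
  exact Odd.of_dvd_nat hmodd (orderOf_dvd_of_pow_eq_one hpow)

omit [Finite G] in
theorem orderOf_tt_mul_of_odd (htc : tt (S : Subgroup G) e ∈ Subgroup.center G) {y : G}
    (hy : Odd (orderOf y)) : orderOf (tt (S : Subgroup G) e * y) = 2 * orderOf y := by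
  have hcomm : Commute (tt (S : Subgroup G) e) y := (Subgroup.mem_center_iff.mp htc y).symm
  have hcop : (orderOf (tt (S : Subgroup G) e)).Coprime (orderOf y) := by
    rw [orderOf_tt]; exact Nat.coprime_two_left.mpr hy
  rw [hcomm.orderOf_mul_eq_mul_orderOf_of_coprime hcop, orderOf_tt]

omit [Finite G] in
theorem tt_mul_tt_mul (g : G) : tt (S : Subgroup G) e * (tt (S : Subgroup G) e * g) = g := by
  have ht2 : tt (S : Subgroup G) e * tt (S : Subgroup G) e = 1 :=
    mul_self_of_orderOf_two (orderOf_tt (S : Subgroup G) e)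
  rw [← mul_assoc, ht2, one_mul]

/-- elements of order divisible by 4 lie in the 2-section of `a`. -/
theorem exists_conj_of_four_dvd
    (hfus : ∀ s ∈ (S : Subgroup G), orderOf s = 4 → IsConj (psi (S : Subgroup G) e (a 1)) s)
    (hreg : ∀ y ∈ Subgroup.centralizer ({psi (S : Subgroup G) e (a 1)} : Set G),
      ¬ 2 ∣ orderOf y → y ∈ centralizerPPrimeCore 2 (psi (S : Subgroup G) e (a 1)))
    {g : G} (h4 : 4 ∣ orderOf g) :
    ∃ v ∈ centralizerPPrimeCore 2 (psi (S : Subgroup G) e (a 1)),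
      IsConj (psi (S : Subgroup G) e (a 1) * v) g := by
  have : Fact (Nat.Prime 2) := ⟨Nat.prime_two⟩
  obtain ⟨x, y, hxy, hcomm, ⟨k, hk⟩, hy⟩ := exists_isPPart 2 g
  have hcop : (orderOf x).Coprime (orderOf y) := by
    rw [hk]
    exact Nat.Coprime.pow_left k ((Nat.Prime.coprime_iff_not_dvd Nat.prime_two).mpr hy)
  have hog : orderOf g = 2 ^ k * orderOf y := by
    rw [← hxy, hcomm.orderOf_mul_eq_mul_orderOf_of_coprime hcop, hk]
  have hk2 : k = 2 := by
    have hle := le_two_of_orderOf_eq_two_pow S e hk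
    rw [hog] at h4
    interval_cases k
    · exfalso; apply hy
      rw [pow_zero, one_mul] at h4
      exact dvd_trans (by norm_num) h4
    · exfalso; apply hy
      rw [pow_one] at h4
      obtain ⟨j, hj⟩ := h4
      exact ⟨j, by omega⟩
    · rfl
  have hp : IsPGroup 2 (Subgroup.zpowers x) := by
    rw [IsPGroup.iff_card, Nat.card_zpowers]; exact ⟨k, hk⟩
  obtain ⟨c, hc⟩ := exists_conj_mem_sylow S hp
  have hxS := hc x (Subgroup.mem_zpowers x)
  have hx4 : orderOf (c * x * c⁻¹) = 4 := by rw [orderOf_conj_eq, hk, hk2]; norm_num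
  obtain ⟨d, hd⟩ := isConj_iff.mp (hfus _ hxS hx4)
  set A := psi (S : Subgroup G) e (a 1) with hA
  set w := d⁻¹ * c with hw
  have hwx : w * x * w⁻¹ = A := by
    rw [hw]
    calc d⁻¹ * c * x * (d⁻¹ * c)⁻¹ = d⁻¹ * (c * x * c⁻¹) * d := by group
      _ = d⁻¹ * (d * A * d⁻¹) * d := by rw [hd]
      _ = A := by group
  refine ⟨w * y * w⁻¹, hreg _ ?_ ?_, ?_⟩
  · rw [Subgroup.mem_centralizer_singleton_iff, ← hwx]
    have := hcomm.eq
    calc w * y * w⁻¹ * (w * x * w⁻¹) = w * (y * x) * w⁻¹ := by group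
      _ = w * (x * y) * w⁻¹ := by rw [this]
      _ = w * x * w⁻¹ * (w * y * w⁻¹) := by group
  · rw [orderOf_conj_eq]; exact hy
  · rw [isConj_iff]
    refine ⟨w⁻¹, ?_⟩
    rw [← hwx, ← hxy]; group

end Cfsg.Agent.Lib.Helper4.Q8
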