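import Mathlib
import Cfsg.Agent.Lib.Helper4.Q8Char2
import Cfsg.Agent.Lib.Helper4.Q8Elements
import Cfsg.Agent.Lib.Helper74.BlockRankSing
import Cfsg.Agent.Lib.Helper78.CentralTwist

/-!
# The principal 2-block of a group with Sylow 2-subgroup `Q₈`, `O(G) = 1`, `G ≠ S` (helper4)

Part 1: `k(B₀) = 2 l(B₀) + 1`.
-/

set_option autoImplicit false
set_option linter.unusedSectionVars false
set_option linter.unusedVariables false

namespace Cfsg.Agent.Lib.Helper4.Q8

open QuaternionGroup Cfsg Cfsg.Agent.Lib.Helper78 Cfsg.Agent.Lib.Helper52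
open scoped ComplexConjugate

universe u

section data

variable {G : Type u} [Group G] [Fintype G] (S : Sylow 2 G)
  (e : (S : Subgroup G) ≃* QuaternionGroup 2)
  (M : Ideal AlgInt) (hM : IsPModular 2 M)
  (htc : tt (S : Subgroup G) e ∈ Subgroup.center G)
  (hfus : ∀ s ∈ (S : Subgroup G), orderOf s = 4 → IsConj (psi (S : Subgroup G) e (a 1)) s)
  (Θ : G → ℂ) (hcf : IsClassFunction G Θ)
  (htriv : classInner Θ (fun _ => (1 : ℂ)) = 1) (hnorm : classInner Θ Θ = 4)
  (hsupp : ∀ g, Θ g ≠ 0 → ∃ v ∈ centralizerPPrimeCore 2 (psi (S : Subgroup G) e (a 1)),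
      IsConj (psi (S : Subgroup G) e (a 1) * v) g)
  (hconst : ∀ v ∈ centralizerPPrimeCore 2 (psi (S : Subgroup G) e (a 1)),
      Θ (psi (S : Subgroup G) e (a 1) * v) = Θ (psi (S : Subgroup G) e (a 1)))
  (hreg : ∀ y ∈ Subgroup.centralizer ({psi (S : Subgroup G) e (a 1)} : Set G),
      ¬ 2 ∣ orderOf y → y ∈ centralizerPPrimeCore 2 (psi (S : Subgroup G) e (a 1)))
  (hΘa : Θ (psi (S : Subgroup G) e (a 1)) = 4)

include hsupp in
theorem four_dvd_of_theta_ne_zero {g : G} (hg : Θ g ≠ 0) : 4 ∣ orderOf g := by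
  have : Fact (Nat.Prime 2) := ⟨Nat.prime_two⟩
  obtain ⟨v, hv, hconj⟩ := hsupp g hg
  have hA4 : orderOf (psi (S : Subgroup G) e (a 1)) = 4 := orderOf_a1 _ e
  have hcomm : Commute (psi (S : Subgroup G) e (a 1)) v := mem_centralizerPPrimeCore_commute hv
  have hodd : ¬ 2 ∣ orderOf v := mem_centralizerPPrimeCore_orderOf hv
  have hcop : (orderOf (psi (S : Subgroup G) e (a 1))).Coprime (orderOf v) := by
    rw [hA4]
    have : (2 : ℕ).Coprime (orderOf v) := (Nat.Prime.coprime_iff_not_dvd Nat.prime_two).mpr hodd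
    exact Nat.Coprime.pow_left 2 this
  have h5 := hcomm.orderOf_mul_eq_mul_orderOf_of_coprime hcop
  have h6 : orderOf g = orderOf (psi (S : Subgroup G) e (a 1) * v) := by
    obtain ⟨c, hc⟩ := isConj_iff.mp hconj
    rw [← hc]
    exact orderOf_conj_eq c _
  rw [h6, h5, hA4]
  exact dvd_mul_right _ _

include hsupp in
theorem theta_eq_zero {g : G} (h4 : ¬ 4 ∣ orderOf g) : Θ g = 0 := by
  by_contra h
  exact h4 (four_dvd_of_theta_ne_zero S e Θ hsupp h)

include hfus hcf hconst hreg hΘa in
theorem theta_eq_four {g : G} (h4 : 4 ∣ orderOf g) : Θ g = 4 := by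
  obtain ⟨v, hv, hconj⟩ := exists_conj_of_four_dvd S e hfus hreg h4
  rw [← IsClassFunction.eq_of_isConj hcf hconj, hconst v hv, hΘa]

include hfus hcf hconst hreg hΘa hsupp htriv in
open scoped Classical in
theorem four_mul_card_filter :
    4 * ((Finset.univ.filter (fun g : G => 4 ∣ orderOf g)).card : ℂ) = (Nat.card G : ℂ) := by
  have hG : (Nat.card G : ℂ) ≠ 0 := by exact_mod_cast Nat.card_pos.ne'
  have h1 : ∑ g : G, Θ g = (Nat.card G : ℂ) := by
    have h := htriv
    unfold classInner at h
    simp only [map_one, mul_one] at h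
    have h2 : (Nat.card G : ℂ) * ((Nat.card G : ℂ)⁻¹ * ∑ g : G, Θ g) = (Nat.card G : ℂ) * 1 := by
      rw [h]
    rw [← mul_assoc, mul_inv_cancel₀ hG, one_mul, mul_one] at h2
    exact h2
  rw [← h1]
  have h3 : ∀ g : G, Θ g = if 4 ∣ orderOf g then (4 : ℂ) else 0 := by
    intro g
    split_ifs with h
    · exact theta_eq_four S e hfus Θ hcf hconst hreg hΘa h
    · exact theta_eq_zero S e Θ hsupp h
  simp only [h3]
  rw [← Finset.sum_filter, Finset.sum_const, nsmul_eq_mul]
  ring

/-- the block norm at `g`. -/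
noncomputable def blockNorm (g : G) : ℂ := by
  classical
  exact ∑ χ ∈ Finset.univ.filter (fun χ : IrrCharacter G => χ ∈ principalBlock M G),
    (χ : G → ℂ) g * conj ((χ : G → ℂ) g)

open scoped Classical in
theorem blockNorm_def (g : G) : blockNorm M g =
    ∑ χ ∈ Finset.univ.filter (fun χ : IrrCharacter G => χ ∈ principalBlock M G),
      (χ : G → ℂ) g * conj ((χ : G → ℂ) g) := by
  unfold blockNorm
  rfl

theorem blockNorm_conj {g h : G} (hc : IsConj g h) : blockNorm M g = blockNorm M h := by
  classical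
  rw [blockNorm_def, blockNorm_def]
  apply Finset.sum_congr rfl
  intro χ _
  rw [IsClassFunction.eq_of_isConj (isClassFunction_irr χ) hc]

include htc in
theorem blockNorm_tt_mul (g : G) : blockNorm M (tt (S : Subgroup G) e * g) = blockNorm M g := by
  classical
  rw [blockNorm_def, blockNorm_def]
  apply Finset.sum_congr rfl
  intro χ _
  have h1 := Cfsg.Agent.Lib.Helper77.irr_center_mul χ
    ⟨tt (S : Subgroup G) e, center_le_irrCenter χ htc⟩ g
  simp only at h1
  rw [h1]
  set l := Cfsg.Agent.Lib.Helper77.irrCenterScalar χ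
    ⟨tt (S : Subgroup G) e, center_le_irrCenter χ htc⟩ with hl
  have hl2 : l * l = 1 := by
    rw [hl, ← map_mul]
    have : (⟨tt (S : Subgroup G) e, center_le_irrCenter χ htc⟩ :
        Cfsg.Agent.Lib.Helper77.irrCenter χ) *
        ⟨tt (S : Subgroup G) e, center_le_irrCenter χ htc⟩ = 1 := by
      apply Subtype.ext
      exact mul_self_of_orderOf_two (orderOf_tt (S : Subgroup G) e)
    rw [this, map_one]
  have hl3 : l * conj l = 1 := by
    have h : l = 1 ∨ l = -1 := mul_self_eq_one_iff.mp hl2
    rcases h with h | h <;> rw [h] <;> simp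
  rw [map_mul]
  calc l * (χ : G → ℂ) g * (conj l * conj ((χ : G → ℂ) g))
      = (l * conj l) * ((χ : G → ℂ) g * conj ((χ : G → ℂ) g)) := by ring
    _ = (χ : G → ℂ) g * conj ((χ : G → ℂ) g) := by rw [hl3, one_mul]

include hM in
theorem blockNorm_section {v : G}
    (hv : v ∈ centralizerPPrimeCore 2 (psi (S : Subgroup G) e (a 1))) :
    blockNorm M (psi (S : Subgroup G) e (a 1) * v) = blockNorm M (psi (S : Subgroup G) e (a 1)) := by
  classical
  have : Fact (Nat.Prime 2) := ⟨Nat.prime_two⟩
  rw [blockNorm_def, blockNorm_def]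
  apply Finset.sum_congr rfl
  intro χ hχ
  rw [Cfsg.Agent.S0942.result 2 M hM _ ⟨2, by rw [orderOf_a1]; norm_num⟩ v hv χ
    (Finset.mem_filter.mp hχ).2]

include hM hcf hnorm hsupp hconst hreg htriv in
theorem blockNorm_a : blockNorm M (psi (S : Subgroup G) e (a 1)) = 4 := by
  classical
  have : Fact (Nat.Prime 2) := ⟨Nat.prime_two⟩
  have hbs := fun χ => block_step 2 M hM (psi (S : Subgroup G) e (a 1))
    ⟨2, by rw [orderOf_a1]; norm_num⟩ Θ hcf hsupp hconst hreg htriv χ
  have hP := classInner_eq_sum_mul_conj Θ hcf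
  rw [hnorm] at hP
  rw [blockNorm_def, hP]
  rw [Finset.sum_filter]
  apply Finset.sum_congr rfl
  intro χ _
  split_ifs with h
  · rw [(hbs χ).2 h, Complex.conj_conj, mul_comm]
  · have : classInner Θ (χ : G → ℂ) = 0 := by
      by_contra hne
      exact h ((hbs χ).1 hne)
    rw [this, zero_mul]

include hM hcf hnorm hsupp hconst hreg htriv hfus in
theorem blockNorm_eq_four {g : G} (h4 : 4 ∣ orderOf g) : blockNorm M g = 4 := by
  obtain ⟨v, hv, hconj⟩ := exists_conj_of_four_dvd S e hfus hreg h4
  rw [← blockNorm_conj M hconj, blockNorm_section S e M hM hv,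
    blockNorm_a S e M hM Θ hcf htriv hnorm hsupp hconst hreg]

include hM htc hfus hcf htriv hnorm hsupp hconst hreg hΘa in
open scoped Classical in
theorem card_eq_two_mul_blockRank_add_one :
    (Finset.univ.filter (fun χ : IrrCharacter G => χ ∈ principalBlock M G)).card =
      2 * blockRank 2 (principalBlock M G) + 1 := by
  have : Fact (Nat.Prime 2) := ⟨Nat.prime_two⟩
  have hB0 : IsPBlock M (principalBlock M G) := Cfsg.Agent.S4691.isPBlock_principalBlock
  have hform := Cfsg.Agent.Lib.Helper74.card_mul_blockRank_eq_sub hM hB0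
  set k := (Finset.univ.filter (fun χ : IrrCharacter G => χ ∈ principalBlock M G)).card with hk
  set l := blockRank 2 (principalBlock M G) with hl
  have hG : (Nat.card G : ℂ) ≠ 0 := by exact_mod_cast Nat.card_pos.ne'
  -- total
  have htot : ∑ x : G, blockNorm M x = (Nat.card G : ℂ) * k := by
    simp only [blockNorm_def]
    rw [Finset.sum_comm]
    rw [Finset.sum_congr rfl (fun χ _ => Cfsg.Agent.Lib.Helper74.sum_mul_conj_self_irr χ)]
    rw [Finset.sum_const, nsmul_eq_mul, ← hk]
    ring
  -- singular sum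
  have hsing : ∑ x ∈ Finset.univ.filter (fun x : G => 2 ∣ orderOf x), blockNorm M x =
      (Nat.card G : ℂ) * k - (Nat.card G : ℂ) * l := by
    simp only [blockNorm_def]
    linear_combination hform
  -- regular sum
  have hregsum : ∑ x ∈ Finset.univ.filter (fun x : G => ¬ 2 ∣ orderOf x), blockNorm M x =
      (Nat.card G : ℂ) * l := by
    have h := Finset.sum_filter_add_sum_filter_not Finset.univ (fun x : G => 2 ∣ orderOf x)
      (blockNorm M)
    rw [htot, hsing] at h
    linear_combination h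
  -- split the singular sum
  have hsplit : ∑ x ∈ Finset.univ.filter (fun x : G => 2 ∣ orderOf x), blockNorm M x =
      ∑ x ∈ Finset.univ.filter (fun x : G => 2 ∣ orderOf x ∧ ¬ 4 ∣ orderOf x), blockNorm M x +
      ∑ x ∈ Finset.univ.filter (fun x : G => 4 ∣ orderOf x), blockNorm M x := by
    rw [← Finset.sum_filter_add_sum_filter_not (Finset.univ.filter (fun x : G => 2 ∣ orderOf x))
      (fun x : G => 4 ∣ orderOf x)]
    rw [Finset.filter_filter, Finset.filter_filter, add_comm]
    congr 1
    apply Finset.sum_congr _ (fun _ _ => rfl)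
    ext x
    simp only [Finset.mem_filter, Finset.mem_univ, true_and]
    constructor
    · rintro ⟨_, h⟩; exact h
    · intro h; exact ⟨dvd_trans (by norm_num) h, h⟩
  -- the `t`-translate
  have hT : ∑ x ∈ Finset.univ.filter (fun x : G => 2 ∣ orderOf x ∧ ¬ 4 ∣ orderOf x),
      blockNorm M x =
      ∑ x ∈ Finset.univ.filter (fun x : G => ¬ 2 ∣ orderOf x), blockNorm M x := by
    apply Finset.sum_nbij' (fun x => tt (S : Subgroup G) e * x) (fun x => tt (S : Subgroup G) e * x)
    · intro x hx
      simp only [Finset.mem_filter, Finset.mem_univ, true_and] at hx ⊢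
      have := odd_orderOf_tt_mul S e htc hx.1 hx.2
      intro h2
      obtain ⟨j, hj⟩ := this
      omega
    · intro y hy
      simp only [Finset.mem_filter, Finset.mem_univ, true_and] at hy ⊢
      have hodd : Odd (orderOf y) := by
        rcases Nat.even_or_odd (orderOf y) with h | h
        · exact absurd (even_iff_two_dvd.mp h) hy
        · exact h
      rw [orderOf_tt_mul_of_odd S e htc hodd]
      obtain ⟨j, hj⟩ := hodd
      constructor
      · exact dvd_mul_right _ _
      · omega
    · intro x _; exact tt_mul_tt_mul S e x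
    · intro y _; exact tt_mul_tt_mul S e y
    · intro x _; exact (blockNorm_tt_mul S e M htc x).symm
  -- the 2-section of `a`
  have hA : ∑ x ∈ Finset.univ.filter (fun x : G => 4 ∣ orderOf x), blockNorm M x =
      (Nat.card G : ℂ) := by
    rw [Finset.sum_congr rfl (fun x hx => blockNorm_eq_four S e M hM hfus Θ hcf htriv hnorm hsupp
      hconst hreg (Finset.mem_filter.mp hx).2)]
    rw [Finset.sum_const, nsmul_eq_mul, mul_comm]
    exact four_mul_card_filter S e hfus Θ hcf htriv hsupp hconst hreg hΘa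
  have hfin : (Nat.card G : ℂ) * k = (Nat.card G : ℂ) * ((2 * l + 1 : ℕ) : ℂ) := by
    rw [hsplit, hT, hregsum, hA] at hsing
    push_cast
    linear_combination -hsing
  have h7 := mul_left_cancel₀ hG hfin
  exact_mod_cast h7

end data

end Cfsg.Agent.Lib.Helper4.Q8
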