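import Mathlib
import Cfsg.Agent.Lib.Helper4.Q8Block
import Cfsg.Agent.Lib.Helper79.BrauerFeit

/-!
# The principal 2-block of a group with Sylow 2-subgroup `Q₈`, part 2 (helper4)

`l(B₀) ≥ 3` and `k(B₀) ≤ 7`.
-/

set_option autoImplicit false
set_option linter.unusedSectionVars false
set_option linter.unusedVariables false

namespace Cfsg.Agent.Lib.Helper4.Q8

open QuaternionGroup Cfsg Cfsg.Agent.Lib.Helper78 Cfsg.Agent.Lib.Helper52 Cfsg.Agent.Lib.Helper16
open scoped ComplexConjugate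

universe u

section data

variable {G : Type u} [Group G] [Fintype G] (S : Sylow 2 G)
  (e : (S : Subgroup G) ≃* QuaternionGroup 2)
  (M : Ideal AlgInt) (hM : IsPModular 2 M)
  (htc : tt (S : Subgroup G) e ∈ Subgroup.center G)
  (hfus : ∀ s ∈ (S : Subgroup G), orderOf s = 4 → IsConj (psi (S : Subgroup G) e (a 1)) s)
  (Θ : G → ℂ) (hcf : IsClassFunction G Θ)
  (htriv : classInner Θ (fun _ => (1 : ℂ)) = 1) (hnorm : classInner Θ Θ = 4)
  (hsupp : ∀ g, Θ g ≠ 0 → ∃ v ∈ centralizerPPrimeCore 2 (psi (S : Subgroup G) e (a 1)),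
      IsConj (psi (S : Subgroup G) e (a 1) * v) g)
  (hconst : ∀ v ∈ centralizerPPrimeCore 2 (psi (S : Subgroup G) e (a 1)),
      Θ (psi (S : Subgroup G) e (a 1) * v) = Θ (psi (S : Subgroup G) e (a 1)))
  (hreg : ∀ y ∈ Subgroup.centralizer ({psi (S : Subgroup G) e (a 1)} : Set G),
      ¬ 2 ∣ orderOf y → y ∈ centralizerPPrimeCore 2 (psi (S : Subgroup G) e (a 1)))
  (hΘa : Θ (psi (S : Subgroup G) e (a 1)) = 4)
  (χ₁ χ₂ χ₃ : IrrCharacter G) (e₁ e₂ e₃ : ℤ)
  (hn1 : (χ₁ : G → ℂ) ≠ (fun _ => 1)) (hn2 : (χ₂ : G → ℂ) ≠ (fun _ => 1))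
  (hn3 : (χ₃ : G → ℂ) ≠ (fun _ => 1))
  (h12 : χ₁ ≠ χ₂) (h13 : χ₁ ≠ χ₃) (h23 : χ₂ ≠ χ₃)
  (he1 : e₁ = 1 ∨ e₁ = -1) (he2 : e₂ = 1 ∨ e₂ = -1) (he3 : e₃ = 1 ∨ e₃ = -1)
  (hc1 : classInner Θ (χ₁ : G → ℂ) = e₁) (hc2 : classInner Θ (χ₂ : G → ℂ) = e₂)
  (hc3 : classInner Θ (χ₃ : G → ℂ) = e₃)
  (hother : ∀ χ : IrrCharacter G, (χ : G → ℂ) ≠ (fun _ => 1) → χ ≠ χ₁ → χ ≠ χ₂ → χ ≠ χ₃ →
        classInner Θ (χ : G → ℂ) = 0)
  (hΘeq : ∀ g, Θ g = 1 + (e₁ : ℂ) * (χ₁ : G → ℂ) g + (e₂ : ℂ) * (χ₂ : G → ℂ) g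
        + (e₃ : ℂ) * (χ₃ : G → ℂ) g)
  (hk1 : (χ₁ : G → ℂ) (tt (S : Subgroup G) e) = (χ₁ : G → ℂ) 1)
  (hk2 : (χ₂ : G → ℂ) (tt (S : Subgroup G) e) = (χ₂ : G → ℂ) 1)
  (hk3 : (χ₃ : G → ℂ) (tt (S : Subgroup G) e) = (χ₃ : G → ℂ) 1)

theorem irr_inner (ξ ψ : IrrCharacter G) :
    classInner (ξ : G → ℂ) (ψ : G → ℂ) = if ξ = ψ then 1 else 0 := by
  rw [classInner_irr ξ.2 ψ.2]
  by_cases h : ξ = ψ
  · rw [if_pos h, if_pos (by rw [h])]
  · rw [if_neg h, if_neg (fun h' => h (Subtype.ext h'))]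

include htc in
theorem irr_tt_mul (χ : IrrCharacter G)
    (hk : (χ : G → ℂ) (tt (S : Subgroup G) e) = (χ : G → ℂ) 1) (g : G) :
    (χ : G → ℂ) (tt (S : Subgroup G) e * g) = (χ : G → ℂ) g := by
  have := irr_center_mul_of_apply χ htc 1 (by rw [hk, mul_one]) g
  rwa [one_mul] at this

include hM hcf htriv hsupp hconst hreg in
theorem mem_principalBlock_of_inner_ne_zero (χ : IrrCharacter G)
    (h : classInner Θ (χ : G → ℂ) ≠ 0) : χ ∈ principalBlock M G := by
  have : Fact (Nat.Prime 2) := ⟨Nat.prime_two⟩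
  exact (block_step 2 M hM (psi (S : Subgroup G) e (a 1))
    ⟨2, by rw [orderOf_a1]; norm_num⟩ Θ hcf hsupp hconst hreg htriv χ).1 h

include hM hcf htriv hsupp hconst hreg in
theorem inner_eq_conj_of_mem_principalBlock (χ : IrrCharacter G)
    (h : χ ∈ principalBlock M G) :
    classInner Θ (χ : G → ℂ) = conj ((χ : G → ℂ) (psi (S : Subgroup G) e (a 1))) := by
  have : Fact (Nat.Prime 2) := ⟨Nat.prime_two⟩
  exact (block_step 2 M hM (psi (S : Subgroup G) e (a 1))
    ⟨2, by rw [orderOf_a1]; norm_num⟩ Θ hcf hsupp hconst hreg htriv χ).2 h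

theorem int_ne_zero_of_pm {ε : ℤ} (h : ε = 1 ∨ ε = -1) : (ε : ℂ) ≠ 0 := by
  rcases h with rfl | rfl <;> norm_num

include hM htc hfus hcf htriv hsupp hconst hreg hΘa hn1 hn2 hn3 h12 h13 h23 he1 he2 he3 hc1 hc2 hc3
  hΘeq hk1 hk2 in
theorem three_le_blockRank : 3 ≤ blockRank 2 (principalBlock M G) := by
  classical
  have : Fact (Nat.Prime 2) := ⟨Nat.prime_two⟩
  have hMp : M.IsPrime := isPModular_isPrime hM
  set A := psi (S : Subgroup G) e (a 1) with hA
  set τ : IrrCharacter G := trivIrr G with hτ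
  have hτv : ∀ g, (τ : G → ℂ) g = 1 := fun g => rfl
  have hτB : τ ∈ principalBlock M G := Cfsg.Agent.S4691.oneIrr_mem_principalBlock
  have hb1 : χ₁ ∈ principalBlock M G :=
    mem_principalBlock_of_inner_ne_zero S e M hM Θ hcf htriv hsupp hconst hreg χ₁
      (by rw [hc1]; exact int_ne_zero_of_pm he1)
  have hb2 : χ₂ ∈ principalBlock M G :=
    mem_principalBlock_of_inner_ne_zero S e M hM Θ hcf htriv hsupp hconst hreg χ₂
      (by rw [hc2]; exact int_ne_zero_of_pm he2)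
  have hτ1 : τ ≠ χ₁ := fun h => hn1 (by rw [← h]; rfl)
  have hτ2 : τ ≠ χ₂ := fun h => hn2 (by rw [← h]; rfl)
  have hτ3 : τ ≠ χ₃ := fun h => hn3 (by rw [← h]; rfl)
  let v : Fin 3 → (G → ℂ) :=
    ![pRegularPart 2 (τ : G → ℂ), pRegularPart 2 (χ₁ : G → ℂ), pRegularPart 2 (χ₂ : G → ℂ)]
  have hli : LinearIndependent ℂ v := by
    rw [Fintype.linearIndependent_iff]
    intro c hc
    rw [Fin.sum_univ_three] at hc
    have hreg0 : ∀ g, ¬ 2 ∣ orderOf g →
        c 0 + c 1 * (χ₁ : G → ℂ) g + c 2 * (χ₂ : G → ℂ) g = 0 := by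
      intro g hg
      have h := congrFun hc g
      have hr : IsPRegular 2 g := hg
      simp only [v, Matrix.cons_val_zero, Matrix.cons_val_one, Matrix.cons_val_two,
        Pi.add_apply, Pi.smul_apply, smul_eq_mul, Pi.zero_apply, pRegularPart, if_pos hr,
        hτv, mul_one, Matrix.head_cons, Matrix.tail_cons] at h
      exact h
    set Φ : G → ℂ := fun g => c 0 + c 1 * (χ₁ : G → ℂ) g + c 2 * (χ₂ : G → ℂ) g with hΦdef
    have hΦ : ∀ g, Φ g = (Φ A / 4) * Θ g := by
      intro g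
      by_cases h4 : 4 ∣ orderOf g
      · obtain ⟨w, hw, hconj⟩ := exists_conj_of_four_dvd S e hfus hreg h4
        rw [theta_eq_four S e hfus Θ hcf hconst hreg hΘa h4]
        have h5 : Φ g = Φ A := by
          simp only [hΦdef]
          rw [← IsClassFunction.eq_of_isConj (isClassFunction_irr χ₁) hconj,
            ← IsClassFunction.eq_of_isConj (isClassFunction_irr χ₂) hconj,
            Cfsg.Agent.S0942.result 2 M hM A ⟨2, by rw [hA, orderOf_a1]; norm_num⟩ w hw χ₁ hb1,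
            Cfsg.Agent.S0942.result 2 M hM A ⟨2, by rw [hA, orderOf_a1]; norm_num⟩ w hw χ₂ hb2]
        rw [h5]; ring
      · rw [theta_eq_zero S e Θ hsupp h4, mul_zero]
        by_cases h2 : 2 ∣ orderOf g
        · have hodd := odd_orderOf_tt_mul S e htc h2 h4
          have hy : ¬ 2 ∣ orderOf (tt (S : Subgroup G) e * g) := by
            intro h; obtain ⟨j, hj⟩ := hodd; omega
          have h6 := hreg0 (tt (S : Subgroup G) e * g) hy
          rw [irr_tt_mul S e htc χ₁ hk1 g, irr_tt_mul S e htc χ₂ hk2 g] at h6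
          exact h6
        · exact hreg0 g h2
    have hΦfun : Φ = c 0 • (τ : G → ℂ) + c 1 • (χ₁ : G → ℂ) + c 2 • (χ₂ : G → ℂ) := by
      funext g
      simp only [hΦdef, Pi.add_apply, Pi.smul_apply, smul_eq_mul, hτv, mul_one]
    have hΦΘ : Φ = (Φ A / 4) • Θ := by
      funext g
      rw [hΦ g]; rfl
    have hin : ∀ ψ : IrrCharacter G, classInner Φ (ψ : G → ℂ) =
        c 0 * (if τ = ψ then 1 else 0) + c 1 * (if χ₁ = ψ then 1 else 0) +
          c 2 * (if χ₂ = ψ then 1 else 0) := by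
      intro ψ
      rw [hΦfun, classInner_add_left, classInner_add_left, classInner_smul_left,
        classInner_smul_left, classInner_smul_left, irr_inner, irr_inner, irr_inner]
    have hin' : ∀ ψ : IrrCharacter G, classInner Φ (ψ : G → ℂ) =
        (Φ A / 4) * classInner Θ (ψ : G → ℂ) := by
      intro ψ
      conv_lhs => rw [hΦΘ]
      rw [classInner_smul_left]
    have hzero : Φ A / 4 = 0 := by
      have h3 := hin χ₃
      rw [if_neg hτ3, if_neg h13, if_neg h23, hin' χ₃, hc3] at h3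
      have := int_ne_zero_of_pm he3
      simp only [mul_zero, add_zero] at h3
      exact (mul_eq_zero.mp h3).resolve_right this
    have hc0 : c 0 = 0 := by
      have h3 := hin τ
      rw [if_pos rfl, if_neg (Ne.symm hτ1), if_neg (Ne.symm hτ2), hin' τ, hzero] at h3
      simpa using h3.symm
    have hc1' : c 1 = 0 := by
      have h3 := hin χ₁
      rw [if_neg hτ1, if_pos rfl, if_neg (Ne.symm h12), hin' χ₁, hzero] at h3
      simpa using h3.symm
    have hc2' : c 2 = 0 := by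
      have h3 := hin χ₂
      rw [if_neg hτ2, if_neg h12, if_pos rfl, hin' χ₂, hzero] at h3
      simpa using h3.symm
    intro i
    fin_cases i
    · exact hc0
    · exact hc1'
    · exact hc2'
  have hspan : Submodule.span ℂ (Set.range v) ≤ Submodule.span ℂ
      ((fun χ : IrrCharacter G => pRegularPart 2 (χ : G → ℂ)) '' principalBlock M G) := by
    apply Submodule.span_mono
    rintro _ ⟨i, rfl⟩
    fin_cases i
    · exact ⟨τ, hτB, rfl⟩
    · exact ⟨χ₁, hb1, rfl⟩
    · exact ⟨χ₂, hb2, rfl⟩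
  have h3 : Module.finrank ℂ (Submodule.span ℂ (Set.range v)) = 3 := by
    rw [finrank_span_eq_card hli]; simp
  unfold blockRank
  rw [← h3]
  exact Submodule.finrank_mono hspan

include hM hfus hcf htriv hsupp hconst hreg hn1 hn2 hn3 h12 h13 h23 he1 he2 he3 hc1 hc2 hc3
  hother in
open scoped Classical in
theorem card_le_seven :
    (Finset.univ.filter (fun χ : IrrCharacter G => χ ∈ principalBlock M G)).card ≤ 7 := by
  classical
  have : Fact (Nat.Prime 2) := ⟨Nat.prime_two⟩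
  have hMp : M.IsPrime := isPModular_isPrime hM
  have hB0 : IsPBlock M (principalBlock M G) := Cfsg.Agent.S4691.isPBlock_principalBlock
  set A := psi (S : Subgroup G) e (a 1) with hA
  set B := principalBlock M G with hB
  set T₀ := Finset.univ.filter (fun χ : IrrCharacter G => χ ∈ B) with hT₀
  set τ : IrrCharacter G := trivIrr G with hτ
  have hτv : ∀ g, (τ : G → ℂ) g = 1 := fun g => rfl
  have hτB : τ ∈ B := Cfsg.Agent.S4691.oneIrr_mem_principalBlock
  have hb1 : χ₁ ∈ B :=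
    mem_principalBlock_of_inner_ne_zero S e M hM Θ hcf htriv hsupp hconst hreg χ₁
      (by rw [hc1]; exact int_ne_zero_of_pm he1)
  have hb2 : χ₂ ∈ B :=
    mem_principalBlock_of_inner_ne_zero S e M hM Θ hcf htriv hsupp hconst hreg χ₂
      (by rw [hc2]; exact int_ne_zero_of_pm he2)
  have hb3 : χ₃ ∈ B :=
    mem_principalBlock_of_inner_ne_zero S e M hM Θ hcf htriv hsupp hconst hreg χ₃
      (by rw [hc3]; exact int_ne_zero_of_pm he3)
  have hτ1 : τ ≠ χ₁ := fun h => hn1 (by rw [← h]; rfl)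
  have hτ2 : τ ≠ χ₂ := fun h => hn2 (by rw [← h]; rfl)
  have hτ3 : τ ≠ χ₃ := fun h => hn3 (by rw [← h]; rfl)
  have hBF := Cfsg.Agent.Lib.Helper79.four_mul_weighted_sum_le hM hB0 T₀
    (by intro ψ; simp [hT₀])
  have hsInf : sInf ((fun χ : IrrCharacter G => (charDegree (χ : G → ℂ)).factorization 2) '' B)
      = 0 := by
    apply Nat.sInf_eq_zero.mpr
    left
    refine ⟨τ, hτB, ?_⟩
    have h1 : charDegree (τ : G → ℂ) = 1 := by
      unfold charDegree
      rw [hτv]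
      simp
    simp only [h1]
    simp
  have hdef : blockDefect 2 B = 3 := by
    unfold blockDefect
    rw [hsInf, Nat.sub_zero]
    have h1 := Sylow.card_eq_multiplicity S
    rw [card_S (S : Subgroup G) e] at h1
    have h2 : (2 : ℕ) ^ 3 = 2 ^ (Nat.card G).factorization 2 := by rw [← h1]; norm_num
    exact (Nat.pow_right_injective (le_refl 2) h2).symm
  have hht : ∀ ψ : IrrCharacter G, blockHeight 2 B (ψ : G → ℂ) =
      (charDegree (ψ : G → ℂ)).factorization 2 := by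
    intro ψ
    unfold blockHeight
    rw [hsInf, Nat.sub_zero]
  rw [hdef] at hBF
  simp only [hht] at hBF
  set F4 : Finset (IrrCharacter G) := {τ, χ₁, χ₂, χ₃} with hF4
  have hF4card : F4.card = 4 := by
    rw [hF4, Finset.card_insert_of_notMem, Finset.card_insert_of_notMem,
      Finset.card_insert_of_notMem, Finset.card_singleton]
    · simp [h23]
    · simp [h12, h13]
    · simp [hτ1, hτ2, hτ3]
  have hF4sub : F4 ⊆ T₀ := by
    intro ψ hψ
    simp only [hF4, Finset.mem_insert, Finset.mem_singleton] at hψ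
    simp only [hT₀, Finset.mem_filter, Finset.mem_univ, true_and]
    rcases hψ with rfl | rfl | rfl | rfl
    · exact hτB
    · exact hb1
    · exact hb2
    · exact hb3
  have heven : ∀ ψ ∈ T₀ \ F4,
      (4 : ℤ) ≤ 2 ^ (2 * (charDegree (ψ : G → ℂ)).factorization 2) := by
    intro ψ hψ
    rw [Finset.mem_sdiff] at hψ
    have hψB : ψ ∈ B := by
      have := hψ.1
      simp only [hT₀, Finset.mem_filter, Finset.mem_univ, true_and] at this
      exact this
    have hψn := hψ.2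
    simp only [hF4, Finset.mem_insert, Finset.mem_singleton, not_or] at hψn
    have hψτ : (ψ : G → ℂ) ≠ (fun _ => 1) := fun h => hψn.1 (Subtype.ext h)
    have h0 : classInner Θ (ψ : G → ℂ) = 0 := hother ψ hψτ hψn.2.1 hψn.2.2.1 hψn.2.2.2
    have hψa : (ψ : G → ℂ) A = 0 := by
      have h1 := inner_eq_conj_of_mem_principalBlock S e M hM Θ hcf htriv hsupp hconst hreg ψ hψB
      rw [h0] at h1
      have h2 := congrArg conj h1
      rw [Complex.conj_conj, map_zero] at h2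
      exact h2.symm
    have hψS : ∀ s ∈ (S : Subgroup G), orderOf s = 4 → (ψ : G → ℂ) s = ((0 : ℤ) : ℂ) := by
      intro s hs h4
      rw [← IsClassFunction.eq_of_isConj (isClassFunction_irr ψ) (hfus s hs h4), hψa]
      simp
    obtain ⟨f, c, hf, hc, -, h4, h8⟩ :=
      congruences (S : Subgroup G) e (IsIrrCharacter.isCharacter ψ.2) 0 hψS
    have hfeven : (2 : ℤ) ∣ (f : ℤ) := by omega
    have hdeg : charDegree (ψ : G → ℂ) = f := by
      have h1 := IsCharacter.apply_one_eq_charDegree (IsIrrCharacter.isCharacter ψ.2)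
      rw [hf] at h1
      exact_mod_cast h1.symm
    have hpos : 0 < charDegree (ψ : G → ℂ) := IsIrrCharacter.charDegree_pos ψ.2
    have h1 : 1 ≤ (charDegree (ψ : G → ℂ)).factorization 2 := by
      have h2 : 2 ∣ charDegree (ψ : G → ℂ) := by
        rw [hdeg]; exact_mod_cast hfeven
      exact (Nat.Prime.dvd_iff_one_le_factorization Nat.prime_two hpos.ne').mp h2
    calc (4 : ℤ) = 2 ^ (2 * 1) := by norm_num
      _ ≤ 2 ^ (2 * (charDegree (ψ : G → ℂ)).factorization 2) :=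
        pow_le_pow_right₀ (by norm_num) (by omega)
  have hsum : (4 : ℤ) + 4 * ((T₀.card : ℤ) - 4) ≤
      ∑ ψ ∈ T₀, (2 : ℤ) ^ (2 * (charDegree (ψ : G → ℂ)).factorization 2) := by
    rw [← Finset.sum_sdiff hF4sub]
    have hcard := Finset.card_sdiff_add_card_eq_card hF4sub
    have h1 : (4 : ℤ) * ((T₀.card : ℤ) - 4) ≤
        ∑ ψ ∈ T₀ \ F4, (2 : ℤ) ^ (2 * (charDegree (ψ : G → ℂ)).factorization 2) := by
      calc (4 : ℤ) * ((T₀.card : ℤ) - 4) = ∑ ψ ∈ T₀ \ F4, (4 : ℤ) := by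
            rw [Finset.sum_const, nsmul_eq_mul, ← hcard, hF4card]
            push_cast
            ring
        _ ≤ _ := Finset.sum_le_sum heven
    have h2 : (4 : ℤ) ≤
        ∑ ψ ∈ F4, (2 : ℤ) ^ (2 * (charDegree (ψ : G → ℂ)).factorization 2) := by
      calc (4 : ℤ) = ∑ ψ ∈ F4, (1 : ℤ) := by simp [hF4card]
        _ ≤ _ := Finset.sum_le_sum (fun ψ _ => one_le_pow₀ (by norm_num))
    linarith
  have hfin : (T₀.card : ℤ) ≤ 7 := by
    norm_num at hBF
    linarith
  exact_mod_cast hfin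

end data

end Cfsg.Agent.Lib.Helper4.Q8
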