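import Mathlib
import Cfsg.Agent.Lib.Helper4.Q8Block2

/-!
# The principal 2-block of a group with Sylow 2-subgroup `Q₈`, part 3 (helper4)

`k(B₀) = 7` when `O(G) = 1` and `G ≠ S`.
-/

set_option autoImplicit false

namespace Cfsg.Agent.Lib.Helper4.Q8

open QuaternionGroup Cfsg Cfsg.Agent.Lib.Helper78 Cfsg.Agent.Lib.Helper52
open scoped ComplexConjugate

universe u

section grp

variable {G : Type u} [Group G] [Finite G] (S : Sylow 2 G)
  (e : (S : Subgroup G) ≃* QuaternionGroup 2)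

/-- a normal subgroup of even order meeting `S` in a cyclic group is a 2-group, if `O(G) = 1`. -/
theorem isPGroup_of_cyclic_inter (N : Subgroup G) [N.Normal]
    (hO : ∀ K : Subgroup G, K.Normal → Odd (Nat.card K) → K = ⊥)
    (hcyc : IsCyclic ((S : Subgroup G) ⊓ N : Subgroup G)) (h2N : 2 ∣ Nat.card N) :
    IsPGroup 2 N := by
  have hNn : N.Normal := inferInstance
  let R : Sylow 2 N := default
  obtain ⟨g, hg⟩ := Cfsg.Agent.Lib.Helper85.exists_conj_le_sylow S
    (T := (R : Subgroup N).map N.subtype) (R.isPGroup'.map _)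
  have hmem : ∀ r : R, g * ((r : N) : G) * g⁻¹ ∈ (S : Subgroup G) ⊓ N := by
    intro r
    refine Subgroup.mem_inf.mpr ⟨hg ⟨((r : N) : G), ⟨(r : N), r.2, rfl⟩, rfl⟩, ?_⟩
    exact hNn.conj_mem _ (r : N).2 g
  let φ : R →* ((S : Subgroup G) ⊓ N : Subgroup G) :=
    { toFun := fun r => ⟨g * ((r : N) : G) * g⁻¹, hmem r⟩
      map_one' := by ext; simp
      map_mul' := by intro a b; ext; simp [mul_assoc] }
  have hφ : Function.Injective φ := by
    intro a b hab
    have h1 : g * ((a : N) : G) * g⁻¹ = g * ((b : N) : G) * g⁻¹ := congrArg Subtype.val hab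
    have h2 : ((a : N) : G) = ((b : N) : G) := by
      have := congrArg (fun z => g⁻¹ * z * g) h1
      simpa [mul_assoc] using this
    exact Subtype.ext (Subtype.ext h2)
  have hR : IsCyclic R := isCyclic_of_injective φ hφ
  obtain ⟨K, hKN, hKodd, hKcard, -, hKmem⟩ :=
    Cfsg.Agent.S0842.exists_normal_two_complement N R hR h2N
  have hKnormal : K.Normal := by
    refine ⟨fun x hx c => hKmem _ (hNn.conj_mem x (hKN hx) c) ?_⟩
    have h1 : orderOf (c * x * c⁻¹) = orderOf x := (MulAut.conj c).orderOf_eq x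
    rw [h1]
    have h2 : orderOf x ∣ Nat.card K := by
      have := orderOf_dvd_natCard (⟨x, hx⟩ : K)
      rwa [Subgroup.orderOf_mk] at this
    exact hKodd.of_dvd_nat h2
  have hKbot : K = ⊥ := hO K hKnormal hKodd
  have hK1 : Nat.card K = 1 := by rw [hKbot]; exact Subgroup.card_bot
  rw [hK1, one_mul] at hKcard
  have hRtop : (R : Subgroup N) = ⊤ := Subgroup.eq_top_of_card_eq _ hKcard
  intro x
  obtain ⟨k, hk⟩ := R.isPGroup' ⟨x, by rw [hRtop]; trivial⟩
  exact ⟨k, by simpa using congrArg Subtype.val hk⟩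

include e in
/-- `O(G) = 1` and `G ≠ S`: no normal subgroup of index 2. -/
theorem no_index_two (hO : ∀ K : Subgroup G, K.Normal → Odd (Nat.card K) → K = ⊥)
    (hG : (S : Subgroup G) ≠ ⊤) : ∀ M' : Subgroup G, M'.Normal → M'.index ≠ 2 := by
  intro M' hM'n hidx
  have : Fact (Nat.Prime 2) := ⟨Nat.prime_two⟩
  have := hM'n
  have htM : tt (S : Subgroup G) e ∈ M' := by
    rw [← a1_sq]
    exact Subgroup.sq_mem_of_index_two hidx _
  have h2M : 2 ∣ Nat.card M' := by
    have := orderOf_dvd_natCard (⟨tt (S : Subgroup G) e, htM⟩ : M')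
    rwa [Subgroup.orderOf_mk, orderOf_tt] at this
  have hnle : ¬ (S : Subgroup G) ≤ M' := by
    intro hle
    have h1 := Subgroup.index_dvd_of_le hle
    rw [hidx] at h1
    exact S.not_dvd_index h1
  have hcyc : IsCyclic ((S : Subgroup G) ⊓ M' : Subgroup G) := by
    apply isCyclic_of_ne (S : Subgroup G) e inf_le_left
    intro h
    apply hnle
    rw [← h]; exact inf_le_right
  have hp := isPGroup_of_cyclic_inter S M' hO hcyc h2M
  obtain ⟨j, hj⟩ := IsPGroup.iff_card.mp hp
  have hcard : Nat.card G = 2 ^ (j + 1) := by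
    rw [← Subgroup.card_mul_index M', hidx, hj, pow_succ]
  apply hG
  apply Subgroup.eq_top_of_card_eq
  rw [Sylow.card_eq_multiplicity S, hcard]
  rw [Nat.factorization_pow, Nat.Prime.factorization Nat.prime_two]
  simp

end grp

section block

variable {G : Type u} [Group G] [Fintype G] (S : Sylow 2 G)
  (e : (S : Subgroup G) ≃* QuaternionGroup 2)

include e in
open scoped Classical in
theorem card_filter_principalBlock (M : Ideal AlgInt) (hM : IsPModular 2 M)
    (hO : ∀ K : Subgroup G, K.Normal → Odd (Nat.card K) → K = ⊥)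
    (hG : (S : Subgroup G) ≠ ⊤) :
    (Finset.univ.filter (fun χ : IrrCharacter G => χ ∈ principalBlock M G)).card = 7 := by
  have htc := tt_mem_center S e hO
  have hfus := Cfsg.Agent.Lib.Helper46.q8_fusion S e (no_index_two S e hO hG)
  obtain ⟨Θ, hcf, hint, hΘ1, htriv, hnorm, hsupp, hconst, hreg, hΘa⟩ :=
    Cfsg.Agent.Lib.Helper52.q8_theta S e
  obtain ⟨χ₁, χ₂, χ₃, e₁, e₂, e₃, hn1, hn2, hn3, h12, h13, h23, he1, he2, he3, hc1, hc2, hc3,
    hother, hΘeq, hk1, hk2, hk3⟩ :=
    exists_triple_tt_mem_ker S e Θ hcf hint hΘ1 htriv hnorm hsupp hconst hreg hfus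
  have h1 := card_eq_two_mul_blockRank_add_one S e M hM htc hfus Θ hcf htriv hnorm hsupp hconst
    hreg hΘa
  have h2 := three_le_blockRank S e M hM htc hfus Θ hcf htriv hsupp hconst hreg hΘa χ₁ χ₂ χ₃
    e₁ e₂ e₃ hn1 hn2 hn3 h12 h13 h23 he1 he2 he3 hc1 hc2 hc3 hΘeq hk1 hk2
  have h3 := card_le_seven S e M hM hfus Θ hcf htriv hsupp hconst hreg χ₁ χ₂ χ₃ e₁ e₂ e₃
    hn1 hn2 hn3 h12 h13 h23 he1 he2 he3 hc1 hc2 hc3 hother
  omega

end block

/-- `k(B₀) = 7`. -/
theorem card_principalBlock {G : Type u} [Group G] [Finite G] (M : Ideal AlgInt)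
    (hM : IsPModular 2 M) (S : Sylow 2 G) (e : (S : Subgroup G) ≃* QuaternionGroup 2)
    (hO : ∀ K : Subgroup G, K.Normal → Odd (Nat.card K) → K = ⊥)
    (hG : (S : Subgroup G) ≠ ⊤) : Nat.card (principalBlock M G) = 7 := by
  classical
  have : Fintype G := Fintype.ofFinite G
  rw [← card_filter_principalBlock S e M hM hO hG]
  rw [Nat.card_eq_fintype_card, Fintype.card_subtype]

end Cfsg.Agent.Lib.Helper4.Q8
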