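import Mathlib
import Cfsg.Agent.Lib.Helper52.ExcPair

/-!
# The generalized character `(1 - lam)^G` for an `N`-invariant linear character (helper4)

`theta_four`: `C ≤ N` of index two, `X ⊆ C` a T.I. set with normalizer `N`, `lam` a nontrivial
linear character of `C` that is trivial off `X` and `N`-invariant. Then `Θ = (1 - lam)^G` is a class
function with integer multiplicities, `Θ 1 = 0`, `[Θ,1] = 1`, `[Θ,Θ] = 4`, vanishing off the
conjugates of `X`, and `Θ x = 2 (1 - lam x)` for `x ∈ X`.
-/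

set_option autoImplicit false

namespace Cfsg.Agent.Lib.Helper4

open Cfsg Cfsg.Agent.Lib.Helper78 Cfsg.Agent.Lib.Helper75 Cfsg.Agent.Lib.Helper52
open scoped ComplexConjugate

universe u

variable {G : Type u} [Group G] [Fintype G]

theorem theta_four
    (C N : Subgroup G) (hCN : C ≤ N) (hidx : C.relIndex N = 2)
    (X : Set G)
    (hTI : ∀ g : G, ∀ y ∈ X, g * y * g⁻¹ ∈ X → g ∈ N)
    (lam : C →* ℂˣ) (hlam1 : lam ≠ 1)
    (hlamX : ∀ y : C, (y : G) ∉ X → lam y = 1)
    (hinv : ∀ s ∈ N, ∀ c : C, ∀ h : s⁻¹ * (c : G) * s ∈ C, lam ⟨s⁻¹ * (c : G) * s, h⟩ = lam c) :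
    IsClassFunction G (indFun C (fun c : C => 1 - ((lam c : ℂˣ) : ℂ))) ∧
    (∀ χ : IrrCharacter G, ∃ n : ℤ,
      classInner (indFun C (fun c : C => 1 - ((lam c : ℂˣ) : ℂ))) (χ : G → ℂ) = n) ∧
    indFun C (fun c : C => 1 - ((lam c : ℂˣ) : ℂ)) 1 = 0 ∧
    classInner (indFun C (fun c : C => 1 - ((lam c : ℂˣ) : ℂ))) (fun _ => (1 : ℂ)) = 1 ∧
    classInner (indFun C (fun c : C => 1 - ((lam c : ℂˣ) : ℂ)))
      (indFun C (fun c : C => 1 - ((lam c : ℂˣ) : ℂ))) = 4 ∧
    (∀ g : G, (∀ h : G, h * g * h⁻¹ ∉ X) →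
      indFun C (fun c : C => 1 - ((lam c : ℂˣ) : ℂ)) g = 0) ∧
    (∀ x : C, (x : G) ∈ X →
      indFun C (fun c : C => 1 - ((lam c : ℂˣ) : ℂ)) x = 2 * (1 - ((lam x : ℂˣ) : ℂ))) := by
  classical
  have hidx' : (C.subgroupOf N).index = 2 := hidx
  have hn : (C.subgroupOf N).Normal := Subgroup.normal_of_index_eq_two hidx'
  have hCnorm : ∀ t ∈ N, ∀ c ∈ C, t * c * t⁻¹ ∈ C := by
    intro t ht c hc
    have := hn.conj_mem ⟨c, hCN hc⟩ (by rw [Subgroup.mem_subgroupOf]; exact hc) ⟨t, ht⟩
    rw [Subgroup.mem_subgroupOf] at this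
    simpa using this
  have hCnorm' : ∀ t ∈ N, ∀ c ∈ C, t⁻¹ * c * t ∈ C := by
    intro t ht c hc
    have := hCnorm t⁻¹ (N.inv_mem ht) c hc
    simpa using this
  set φ : C → ℂ := fun c => 1 - ((lam c : ℂˣ) : ℂ) with hφ
  set Θ : G → ℂ := indFun C φ with hΘ
  have hΘcf : IsClassFunction G Θ := isClassFunction_indFun C φ
  have hcardC : (Nat.card C : ℂ) ≠ 0 := by
    have : Nat.card C ≠ 0 := Nat.card_pos.ne'
    exact_mod_cast this
  have hφX : ∀ c : C, (c : G) ∉ X → φ c = 0 := by
    intro c hc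
    simp only [hφ, hlamX c hc, Units.val_one, sub_self]
  have hΘint : ∀ χ : IrrCharacter G, ∃ n : ℤ, classInner Θ (χ : G → ℂ) = n := by
    intro χ
    have h1 : IsCharacter G (indFun C (fun _ : C => (1 : ℂ))) :=
      Cfsg.Agent.S0148.result C _ (IsIrrCharacter.isCharacter isIrrCharacter_one)
    have h2 : IsCharacter G (indFun C (fun c : C => ((lam c : ℂˣ) : ℂ))) :=
      Cfsg.Agent.S0148.result C _
        (IsIrrCharacter.isCharacter (Cfsg.Agent.Lib.Helper77.isIrrCharacter_of_monoidHom lam))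
    obtain ⟨a, ha⟩ := IsCharacter.exists_nat_classInner h1 χ
    obtain ⟨b, hb⟩ := IsCharacter.exists_nat_classInner h2 χ
    refine ⟨(a : ℤ) - b, ?_⟩
    have hsplit : Θ = indFun C (fun _ : C => (1 : ℂ)) +
        (-1 : ℂ) • indFun C (fun c : C => ((lam c : ℂˣ) : ℂ)) := by
      funext g
      simp only [hΘ, hφ, indFun, Pi.add_apply, Pi.smul_apply, smul_eq_mul]
      have hx : ∀ x : G, extendByZero C (fun c : C => 1 - ((lam c : ℂˣ) : ℂ)) (x⁻¹ * g * x) =
          extendByZero C (fun _ : C => (1 : ℂ)) (x⁻¹ * g * x) +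
            -1 * extendByZero C (fun c : C => ((lam c : ℂˣ) : ℂ)) (x⁻¹ * g * x) := by
        intro x
        by_cases hx : x⁻¹ * g * x ∈ C
        · rw [extendByZero_of_mem C _ hx, extendByZero_of_mem C _ hx,
            extendByZero_of_mem C _ hx]
          ring
        · rw [extendByZero_of_not_mem C _ hx, extendByZero_of_not_mem C _ hx,
            extendByZero_of_not_mem C _ hx]
          ring
      simp only [hx, Finset.sum_add_distrib, ← Finset.mul_sum]
      ring
    rw [hsplit, classInner_add_left, classInner_smul_left, ha, hb]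
    push_cast; ring
  have hΘ1 : Θ 1 = 0 := by
    rw [hΘ, indFun_one]
    simp [hφ]
  have hsumlam : ∑ c : C, ((lam c : ℂˣ) : ℂ) = 0 := sum_hom_eq_zero lam hlam1
  have hΘtriv : classInner Θ (fun _ => (1 : ℂ)) = 1 := by
    have hcf1 : IsClassFunction G (fun _ : G => (1 : ℂ)) := fun _ _ => rfl
    rw [hΘ, frobenius_reciprocity C φ hcf1]
    unfold classInner
    simp only [map_one, mul_one, hφ, Finset.sum_sub_distrib, hsumlam, Finset.sum_const,
      Finset.card_univ, nsmul_eq_mul, sub_zero]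
    rw [← Nat.card_eq_fintype_card]
    field_simp
  have hΘvan : ∀ g : G, (∀ h : G, h * g * h⁻¹ ∉ X) → Θ g = 0 := by
    intro g hg
    simp only [hΘ, indFun]
    rw [Finset.sum_eq_zero, mul_zero]
    intro x _
    by_cases hx : x⁻¹ * g * x ∈ C
    · rw [extendByZero_of_mem C _ hx]
      apply hφX
      have := hg x⁻¹
      simpa using this
    · exact extendByZero_of_not_mem C _ hx
  have hcardN : (Nat.card N : ℂ) = 2 * (Nat.card C : ℂ) := by
    have h1 := (C.subgroupOf N).index_mul_card
    rw [hidx', Nat.card_congr (Subgroup.subgroupOfEquivOfLe hCN).toEquiv] at h1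
    rw [← h1]; push_cast; ring
  have hfilter : ∀ K : Subgroup G, ((Finset.univ.filter (fun t : G => t ∈ K)).card : ℂ) =
      (Nat.card K : ℂ) := by
    intro K
    rw [Nat.card_eq_fintype_card, Fintype.card_subtype]
  -- the conjugate character equals `lam`
  have hlamt : ∀ t (htN : t ∈ N), conjHomC C lam t (hCnorm' t htN) = lam := by
    intro t htN
    ext c
    rw [conjHomC_apply]
    rw [hinv t htN c]
  have hΘnorm : classInner Θ Θ = 4 := by
    have hfr : classInner Θ Θ = classInner φ (fun c : C => Θ c) :=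
      frobenius_reciprocity C φ hΘcf
    set f : G → ℂ := extendByZero C φ with hf
    have hΘc : ∀ g : G, Θ g = (Nat.card C : ℂ)⁻¹ * ∑ t : G, f (t⁻¹ * g * t) := fun g => rfl
    set J : G → ℂ := fun t => ∑ c : C, φ c * conj (f (t⁻¹ * (c : G) * t)) with hJdef
    have hJ : ∀ t : G, J t = (if t ∈ N then 2 * (Nat.card C : ℂ) else 0) := by
      intro t
      by_cases htN : t ∈ N
      · have hmem : ∀ c ∈ C, t⁻¹ * c * t ∈ C := hCnorm' t htN
        have hJt : J t = ∑ c : C, (1 - ((lam c : ℂˣ) : ℂ)) *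
            conj (1 - ((conjHomC C lam t hmem c : ℂˣ) : ℂ)) := by
          simp only [hJdef]
          apply Finset.sum_congr rfl
          intro c _
          rw [hf, extendByZero_of_mem C φ (hmem c c.2)]
          rfl
        rw [hJt, hlamt t htN, sum_one_sub_hom lam lam hlam1 hlam1, if_pos rfl, if_pos htN,
          ← Nat.card_eq_fintype_card]
      · rw [if_neg htN]
        simp only [hJdef]
        apply Finset.sum_eq_zero
        intro c _
        by_cases hcX : (c : G) ∈ X
        · by_cases hx : t⁻¹ * (c : G) * t ∈ C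
          · rw [hf, extendByZero_of_mem C φ hx]
            have : ((⟨t⁻¹ * (c : G) * t, hx⟩ : C) : G) ∉ X := by
              intro h
              apply htN
              have := hTI t⁻¹ c hcX (by simpa using h)
              simpa using N.inv_mem this
            rw [hφX _ this]; simp
          · rw [hf, extendByZero_of_not_mem C φ hx]; simp
        · rw [hφX c hcX, zero_mul]
    have hsum : ∑ t : G, J t = 4 * (Nat.card C : ℂ) * (Nat.card C : ℂ) := by
      simp only [hJ, Finset.sum_ite, Finset.sum_const_zero, add_zero,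
        Finset.sum_const, nsmul_eq_mul, hfilter, hcardN]
      ring
    rw [hfr]
    unfold classInner
    have hswap : ∑ c : C, φ c * conj (Θ c) = (Nat.card C : ℂ)⁻¹ * ∑ t : G, J t := by
      have h1 : ∀ c : C, φ c * conj (Θ c) =
          (Nat.card C : ℂ)⁻¹ * ∑ t : G, φ c * conj (f (t⁻¹ * (c : G) * t)) := by
        intro c
        rw [hΘc, map_mul, map_inv₀, map_natCast, map_sum, Finset.mul_sum, Finset.mul_sum,
          Finset.mul_sum]
        apply Finset.sum_congr rfl
        intro t _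
        ring
      simp only [h1, hJdef]
      rw [← Finset.mul_sum, Finset.sum_comm]
    rw [hswap, hsum]
    field_simp
  have hΘX : ∀ x : C, (x : G) ∈ X → Θ x = 2 * (1 - ((lam x : ℂˣ) : ℂ)) := by
    intro x hxX
    have hterm : ∀ t : G, extendByZero C φ (t⁻¹ * (x : G) * t) =
        if t ∈ N then (1 - ((lam x : ℂˣ) : ℂ)) else 0 := by
      intro t
      by_cases htN : t ∈ N
      · rw [if_pos htN, extendByZero_of_mem C φ (hCnorm' t htN x x.2)]
        simp only [hφ]
        rw [hinv t htN x]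
      · rw [if_neg htN]
        by_cases hx : t⁻¹ * (x : G) * t ∈ C
        · rw [extendByZero_of_mem C φ hx]
          apply hφX
          intro h
          apply htN
          have := hTI t⁻¹ x hxX (by simpa using h)
          simpa using N.inv_mem this
        · exact extendByZero_of_not_mem C φ hx
    simp only [hΘ, indFun, hterm, Finset.sum_ite, Finset.sum_const_zero, add_zero,
      Finset.sum_const, nsmul_eq_mul, hfilter, hcardN]
    field_simp
  exact ⟨hΘcf, hΘint, hΘ1, hΘtriv, hΘnorm, hΘvan, hΘX⟩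

end Cfsg.Agent.Lib.Helper4
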